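import Mathlib
import Cfsg.Agent.H413.L16.Nel_m3
import Cfsg.Agent.H943.L16.Kac17_mg_m3
import Cfsg.Agent.H939.L16.Frm_m3
import Cfsg.Agent.H939.L64.Base
import Cfsg.Agent.ChevFast.E8
import Cfsg.Agent.ChevFast.Tg
import Cfsg.Agent.ChevFast.Lin
import Cfsg.Agent.Lib.ListFast
import Cfsg.Agent.H942.L16.Log_m3
import Cfsg.Agent.Prune
set_option linter.all false

section
prune_inst 0x7f00000000000000000000000000000000000000000000000000000000000000000000000000000000000000000000000000000000000000000000000000000000000000000000000000000000000000003fffffffffffffffffffffffffffbeffbdffffffff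

-- part: H911/L16/GlueF_mg
section
set_option linter.all false
open scoped Cfsg.Agent.FastGrp

-- part: H911/L16/Alg
section
/-!
# S5916 (helper911): the solutions of `[v, t v] = 0`, polynomial equations

Variables are named after the roots (`chevE8` numbering); characteristic two.
-/

set_option autoImplicit false

namespace Cfsg.Agent.H911.L16

variable {K : Type*} [Field K]

/-- weight 1 -/
theorem solve1 (h2 : (2 : K) = 0) {c v128 v124 v127 v123 v163 v162 v148 v143 v137 v131 v147 v142 v136 v130 : K}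
    (e1 : v162 ^ (2:ℕ) = 0) (e2 : v123 ^ (2:ℕ) = 0) (e3 : v130 ^ (2:ℕ) = 0)
    (e4 : v128 * v123 + v124 * v127 + v124 * v123 + c ^ (2:ℕ) = 0)
    (e5 : v128 * v123 + v124 * v127 + v124 * v123 + v124 ^ (2:ℕ) = 0)
    (e6 : v148 * v130 + v143 * v136 + v143 * v130 + v137 * v142 + v131 * v147 + v131 * v142 + v147 * v130 +
      v142 * v136 + v142 * v130 + c ^ (2:ℕ) = 0)
    (e7 : v148 * v130 + v143 * v136 + v137 * v142 + v137 * v130 + v131 * v147 + v131 * v136 + v147 * v130 +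
      v142 * v136 + v136 * v130 + v163 * v162 = 0)
    (e8 : v148 * v130 + v143 * v136 + v143 * v130 + v137 * v142 + v131 * v147 + v131 * v142 + v147 * v130 +
      v142 * v136 + v142 * v130 + v142 ^ (2:ℕ) = 0)
    (e9 : v148 * v130 + v143 * v136 + v137 * v142 + v137 * v130 + v131 * v147 + v131 * v136 + v147 * v130 +
      v142 * v136 + v136 * v130 + v136 ^ (2:ℕ) + v163 * v162 + v163 ^ (2:ℕ) = 0)
    (e10 : v128 * v123 + v124 * v127 + v127 * v123 + v148 * v130 + v143 * v136 + v143 * v130 + v137 * v142 +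
      v137 * v130 + v131 * v147 + v131 * v142 + v131 * v136 + v131 * v130 + c ^ (2:ℕ) = 0)
    (e11 : v128 * v123 + v124 * v127 + v127 * v123 + v127 ^ (2:ℕ) + v148 * v130 + v143 * v136 + v143 * v130 +
      v137 * v142 + v137 * v130 + v131 * v147 + v131 * v142 + v131 * v136 + v131 * v130 + v131 ^ (2:ℕ) = 0) :
    c = 0 ∧ v124 = 0 ∧ v123 = 0 ∧ v162 = 0 ∧ v142 = 0 ∧ v130 = 0 ∧
      ((v127 = 0 ∧ v163 = 0 ∧ v131 = 0 ∧ v136 = 0) ∨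
        (v127 = v131 ∧ v163 = 0 ∧ v136 = 0 ∧ v147 = 0) ∨ (v127 = 0 ∧ v131 = 0 ∧ v136 = v163 ∧ v143 = 0)) := by
  have z162 : v162 = 0 := by simpa using e1
  have z123 : v123 = 0 := by simpa using e2
  have z130 : v130 = 0 := by simpa using e3
  subst z162 z123 z130
  have sq : ∀ x y : K, x ^ (2:ℕ) + y ^ (2:ℕ) = 0 → x = y := by
    intro x y h
    have h1 : (x + y) ^ (2:ℕ) = 0 := by linear_combination h + x * y * h2
    have h3 : x + y = 0 := by simpa only [_root_.ne_eq, _root_.OfNat.ofNat_ne_zero, _root_.not_false_eq_true, _root_.pow_eq_zero_iff] using h1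
    linear_combination h3 - y * h2
  simp only [mul_zero, add_zero] at e4 e5 e6 e7 e8 e9 e10 e11
  have a1 : v124 = c := sq _ _ (by linear_combination e5 + e4 - v124 * v127 * h2)
  have a2 : v142 = c := sq _ _ (by
    linear_combination e8 + e6 - (v143 * v136 + v137 * v142 + v131 * v147 + v131 * v142 + v142 * v136) * h2)
  have a3 : v136 = v163 := sq _ _ (by
    linear_combination e9 + e7 - (v143 * v136 + v137 * v142 + v131 * v147 + v131 * v136 + v142 * v136) * h2)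
  subst a1
  subst a2
  have b1 : v142 * (v127 + v142) = 0 := by linear_combination e4
  have b2 : v131 * v142 + v142 ^ (2:ℕ) + v131 * v136 = 0 := by
    linear_combination e6 + e7 - (v143 * v136 + v137 * v142 + v131 * v147 + v142 * v136) * h2
  have b3 : v142 * (v136 + v131) = 0 := by
    linear_combination e10 + e4 + e7 - (v143 * v136 + v137 * v142 + v131 * v147 + v131 * v136 + v142 * v127 +
      v142 ^ (2:ℕ)) * h2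
  have b4 : v127 = v131 + v142 := sq _ _ (by
    linear_combination e11 + e10 - (v142 * v127 + v143 * v136 + v137 * v142 + v131 * v147 + v131 * v142 +
      v131 * v136 - v131 * v142) * h2)
  have c0 : v142 = 0 := by
    by_contra hc
    have b5 := (mul_eq_zero.1 b1).resolve_left hc
    have b6 : v131 = 0 := by linear_combination b5 - b4 - v142 * h2
    rw [b6] at b2
    apply hc
    simpa using b2
  subst c0
  simp only [mul_zero, zero_mul, add_zero, zero_add] at e7 e10 e11 b2 b4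
  subst b4
  refine ⟨rfl, rfl, rfl, rfl, rfl, rfl, ?_⟩
  by_cases hw : v127 = 0
  · subst hw
    simp only [zero_mul, add_zero] at e7
    rcases mul_eq_zero.1 e7 with h | h
    · exact Or.inr (Or.inr ⟨rfl, rfl, a3, h⟩)
    · exact Or.inl ⟨rfl, by rw [← a3, h], rfl, h⟩
  · have b2' : v127 * v136 = 0 := by linear_combination b2
    have h3 : v136 = 0 := (mul_eq_zero.1 b2').resolve_left hw
    subst h3
    simp only [mul_zero, zero_add, add_zero] at e7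
    exact Or.inr (Or.inl ⟨rfl, a3.symm, rfl, (mul_eq_zero.1 e7).resolve_left hw⟩)

/-- weight 3 -/
theorem solve3 (h2 : (2 : K) = 0) {v2 v1 v129 v125 v184 v174 v157 v154 v156 v153 v172 v167 v171 v166 : K}
    (e1 : v174 ^ (2:ℕ) = 0) (e2 : v166 ^ (2:ℕ) = 0) (e3 : v1 ^ (2:ℕ) + v125 ^ (2:ℕ) = 0) (e4 : v153 ^ (2:ℕ) + v125 ^ (2:ℕ) = 0)
    (e5 : v184 * v174 + v184 ^ (2:ℕ) = 0) (e6 : v153 ^ (2:ℕ) + v166 ^ (2:ℕ) + v184 * v174 + v174 ^ (2:ℕ) = 0)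
    (e8 : v172 * v166 + v167 * v171 + v171 * v166 + v171 ^ (2:ℕ) = 0)
    (e9 : v153 ^ (2:ℕ) + v172 * v166 + v167 * v171 + v171 * v166 + v1 ^ (2:ℕ) + v174 ^ (2:ℕ) = 0)
    (e10 : v157 * v153 + v154 * v156 + v156 * v153 + v156 ^ (2:ℕ) + v129 * v125 + v129 ^ (2:ℕ) = 0)
    (e11 : v157 * v153 + v154 * v156 + v156 * v153 + v153 ^ (2:ℕ) + v166 ^ (2:ℕ) + v1 ^ (2:ℕ) + v129 * v125 + v174 ^ (2:ℕ) = 0)
    (e13 : v157 * v153 + v154 * v156 + v154 * v153 + v154 ^ (2:ℕ) + v172 * v166 + v167 * v171 + v167 * v166 +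
      v167 ^ (2:ℕ) + v2 * v1 + v2 ^ (2:ℕ) = 0) :
    v1 = 0 ∧ v125 = 0 ∧ v184 = 0 ∧ v174 = 0 ∧ v153 = 0 ∧ v171 = 0 ∧ v166 = 0 ∧ v2 = v154 + v167 ∧ v129 = v156 ∧
      (v156 = 0 ∨ v154 = 0) := by
  have sq : ∀ x y : K, x ^ (2:ℕ) + y ^ (2:ℕ) = 0 → x = y := by
    intro x y h
    have h1 : (x + y) ^ (2:ℕ) = 0 := by linear_combination h + x * y * h2
    have h3 : x + y = 0 := by simpa only [_root_.ne_eq, _root_.OfNat.ofNat_ne_zero, _root_.not_false_eq_true, _root_.pow_eq_zero_iff] using h1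
    linear_combination h3 - y * h2
  have z174 : v174 = 0 := by simpa using e1
  have z166 : v166 = 0 := by simpa using e2
  subst z174 z166
  have z153 : v153 = 0 := by simpa using e6
  subst z153
  have z125 : v125 = 0 := by simpa using e4
  subst z125
  have z1 : v1 = 0 := by simpa using e3
  subst z1
  have z184 : v184 = 0 := by simpa using e5
  subst z184
  have z9 : v167 * v171 = 0 := by linear_combination e9
  have z171 : v171 = 0 := by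
    have : v171 ^ (2:ℕ) = 0 := by linear_combination e8 - z9
    simpa using this
  subst z171
  have z11 : v154 * v156 = 0 := by linear_combination e11
  refine ⟨rfl, rfl, rfl, rfl, rfl, rfl, rfl, ?_, ?_, (mul_eq_zero.1 z11).symm⟩
  · refine sq _ _ ?_
    linear_combination e13 - z11 + v154 * v167 * h2
  · refine sq _ _ ?_
    linear_combination e10 - z11

end Cfsg.Agent.H911.L16
end

-- part: H547/L16/Solve
section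
/-!
# S5916, A-SOLVE: the solutions of `[v, t₀ v] = 0` in the weight spaces 1 and 3 (helper547)
-/

set_option autoImplicit false
set_option maxRecDepth 100000

namespace Cfsg.Agent.H547.L16

open Matrix Cfsg Cfsg.Lie
open Cfsg.Agent.H939.L64 (KK LK brK brL brL_apply)
open Cfsg.Agent.H939.L16
open Cfsg.Agent.H955.L16 (T vR vN RelR)
open Cfsg.Agent.H413.L16 (er hv hr tg br_rr br_neg er_ge er_of nr rk8)
open Cfsg.Agent.H876.L64 (two_zero)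
open Cfsg.Agent.ChevalleyStructure.Columns (car cor)

/-! ### linearity -/

/-- `xl r c` as a linear map -/
noncomputable def xlL (r : Fin chevE8.nroots) (c : KK) : LK →ₗ[KK] LK where
  toFun := xl r c
  map_add' u v := by
    unfold xl
    rw [← brL_apply, ← brL_apply, ← brL_apply, map_add, Pi.add_apply, smul_add, mul_add, add_smul]
    abel
  map_smul' a v := by
    unfold xl
    rw [← brL_apply, ← brL_apply, map_smul, Pi.smul_apply, RingHom.id_apply, smul_add, smul_add, smul_smul, smul_smul,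
      smul_smul, smul_eq_mul, mul_comm c a]
    congr 2
    ring

theorem xlL_apply (r : Fin chevE8.nroots) (c : KK) (v : LK) : xlL r c v = xl r c v := rfl

/-- `iz` as a linear map -/
noncomputable def izL : LK →ₗ[KK] LK :=
  xlL ⟨121, by decide +kernel⟩ 1 ∘ₗ xlL ⟨126, by decide +kernel⟩ 1 ∘ₗ xlL ⟨141, by decide +kernel⟩ 1 ∘ₗ
    xlL ⟨135, by decide +kernel⟩ 1

/-! ### lists of roots -/

/-- the sum of the root vectors of a list -/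
noncomputable def lis (l : List ℕ) : LK := (l.map er).sum

theorem lis_append (l l' : List ℕ) : lis (l ++ l') = lis l + lis l' := by
  unfold lis; rw [List.map_append, List.sum_append]

theorem lis_cons (s : ℕ) (l : List ℕ) : lis (s :: l) = er s + lis l := by
  unfold lis; rw [List.map_cons, List.sum_cons]

theorem lis_nil : lis [] = 0 := rfl

/-- one step of `xl r 1` -/
def stp (r : ℕ) (l : List ℕ) : List ℕ := l ++ (l.map (tg r)).filter fun t => decide (t < 240)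

theorem er_val {s : ℕ} (hs : s < chevE8.nroots) (u : Fin chevE8.nroots) :
    er s (Sum.inr u) = if s = u then 1 else 0 := by
  rw [er_of hs]
  by_cases h : s = u
  · rw [if_pos h]
    have : (⟨s, hs⟩ : Fin chevE8.nroots) = u := Fin.ext h
    rw [this, Pi.single_eq_same]
  · rw [if_neg h, Pi.single_eq_of_ne]
    intro h1
    exact h (congrArg Fin.val (Sum.inr.inj h1)).symm

theorem lis_filter (l : List ℕ) : lis (l.filter fun t => decide (t < 240)) = lis l := by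
  induction l with
  | nil => rfl
  | cons s l ih =>
    rw [List.filter_cons, lis_cons]
    split_ifs with h
    · rw [lis_cons, ih]
    · rw [ih, er_ge (by simpa using h), zero_add]

theorem xl_lis {r : ℕ} (hr : r < chevE8.nroots) : ∀ l : List ℕ, (∀ s ∈ l, s < 240 ∧ s ≠ 239 - r) →
    xlL ⟨r, hr⟩ 1 (lis l) = lis (stp r l) := by
  intro l hl
  unfold stp
  rw [lis_append, lis_filter]
  have hr' : r < 240 := by rw [← nr]; exact hr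
  induction l with
  | nil => rw [lis_nil, map_zero]; rfl
  | cons s l ih =>
    have h1 := hl s (List.mem_cons_self ..)
    have h2 := ih fun t ht => hl t (List.mem_cons_of_mem _ ht)
    have hs : s < chevE8.nroots := by rw [nr]; exact h1.1
    have h3 : xlL ⟨r, hr⟩ 1 (er s) = er s + er (tg r s) := by
      rw [xlL_apply]
      unfold xl
      rw [one_smul, br_rr hr' h1.1 h1.2, one_pow, one_mul, er_val hs, if_neg, zero_smul, add_zero]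
      intro h4
      have h5 : s = chevE8.nroots - (r + 1) := by rw [Fin.val_rev] at h4; exact h4
      rw [nr] at h5
      have := h1.2
      omega
    rw [lis_cons, map_add, h2, h3, List.map_cons, lis_cons]
    abel

/-- `iz` on a root vector -/
def il (s : ℕ) : List ℕ := stp 121 (stp 126 (stp 141 (stp 135 [s])))

def okil (s : ℕ) : Bool :=
  decide (s < 240 ∧ s ≠ 239 - 135) && (stp 135 [s]).all (fun t => decide (t < 240 ∧ t ≠ 239 - 141)) &&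
    (stp 141 (stp 135 [s])).all (fun t => decide (t < 240 ∧ t ≠ 239 - 126)) &&
    (stp 126 (stp 141 (stp 135 [s]))).all (fun t => decide (t < 240 ∧ t ≠ 239 - 121)) &&
    (il s).all (fun t => decide (t < 240))

theorem iz_er {s : ℕ} (h : okil s = true) : izL (er s) = lis (il s) ∧ ∀ t ∈ il s, t < 240 := by
  unfold okil at h
  simp only [Bool.and_eq_true, decide_eq_true_eq, List.all_eq_true] at h
  obtain ⟨⟨⟨⟨h1, h2⟩, h3⟩, h4⟩, h5⟩ := h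
  refine ⟨?_, h5⟩
  have h0 : er s = lis [s] := by rw [lis_cons, lis_nil, add_zero]
  unfold izL
  rw [LinearMap.comp_apply, LinearMap.comp_apply, LinearMap.comp_apply, h0,
    xl_lis (r := 135) _ _ (fun t ht => by rw [List.mem_singleton.1 ht]; exact h1), xl_lis (r := 141) _ _ h2,
    xl_lis (r := 126) _ _ h3, xl_lis (r := 121) _ _ h4]
  rfl

/-- `w⁴` -/
def w4 (s : ℕ) : ℕ := wi (wi (wi (wi s)))

/-- `t₀` on a root vector -/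
def tl (s : ℕ) : List ℕ := il (w4 s)

variable {Fp : LK → LK} {ta : LK →ₗ[KK] LK}

/-- `t₀` as a linear map -/
noncomputable def TL (ta : LK →ₗ[KK] LK) : LK →ₗ[KK] LK := izL ∘ₗ ta

theorem TL_apply (v : LK) : TL ta v = T ta v := rfl

theorem TL_er (h : Ops Fp ta) {s : ℕ} (hs0 : s < 240) (hs : okil (w4 s) = true) :
    TL ta (er s) = lis (tl s) ∧ ∀ t ∈ tl s, t < 240 := by
  obtain ⟨h1, h2⟩ := iz_er hs
  refine ⟨?_, h2⟩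
  unfold TL
  rw [LinearMap.comp_apply, h.ter s hs0]
  exact h1

/-! ### coordinates of brackets -/

/-- the coordinates of `[e_s, e_t]` -/
def cf (s t : ℕ) (a : Fin 8 ⊕ ℕ) : ℕ :=
  a.elim (fun i : Fin 8 => if t = 239 - s then (cor chevE8 s (i : ℕ)).natAbs % 2 else 0)
    fun u => if t = 239 - s then 0 else if tg s t = u then 1 else 0

/-- the index -/
def ia (a : Fin 8 ⊕ ℕ) (h : ∀ u, a = Sum.inr u → u < 240) : chevE8.Idx :=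
  match a, h with
  | Sum.inl i, _ => Sum.inl (Fin.cast rk8.symm i)
  | Sum.inr u, h => Sum.inr ⟨u, by rw [nr]; exact h u rfl⟩

theorem cast_nat_abs (z : ℤ) : ((z.natAbs % 2 : ℕ) : KK) = (z : KK) := by
  have h1 : ((z.natAbs % 2 : ℕ) : ℤ) - z = 2 * ((((z.natAbs % 2 : ℕ) : ℤ) - z) / 2) := by
    have : (((z.natAbs % 2 : ℕ) : ℤ) - z) % 2 = 0 := by omega
    omega
  have h2 : (((z.natAbs % 2 : ℕ) : ℤ) : KK) - (z : KK) = 0 := by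
    rw [← Int.cast_sub, h1, Int.cast_mul, Int.cast_ofNat, two_zero, zero_mul]
  rw [Int.cast_natCast] at h2
  exact sub_eq_zero.1 h2

theorem br_coord {s t : ℕ} (hs : s < 240) (ht : t < 240) (a : Fin 8 ⊕ ℕ) (h : ∀ u, a = Sum.inr u → u < 240) :
    brK (er s) (er t) (ia a h) = (cf s t a : KK) := by
  by_cases hst : t = 239 - s
  · subst hst
    rw [br_neg hs]
    rcases a with i | u
    · show ((cor chevE8 s (i : ℕ) : ℤ) : KK) = ((if 239 - s = 239 - s then (cor chevE8 s i).natAbs % 2 else 0 : ℕ) : KK)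
      rw [if_pos rfl, cast_nat_abs]
    · show (0 : KK) = ((if 239 - s = 239 - s then 0 else if tg s (239 - s) = u then 1 else 0 : ℕ) : KK)
      rw [if_pos rfl, Nat.cast_zero]
  · rw [br_rr hs ht hst]
    rcases a with i | u
    · show er (tg s t) (Sum.inl _) = ((if t = 239 - s then (cor chevE8 s i).natAbs % 2 else 0 : ℕ) : KK)
      rw [if_neg hst, Nat.cast_zero]
      unfold er
      split_ifs with h1
      · exact Pi.single_eq_of_ne (by simp) _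
      · rfl
    · have hu : u < 240 := h u rfl
      show er (tg s t) (Sum.inr ⟨u, _⟩) = ((if t = 239 - s then 0 else if tg s t = u then 1 else 0 : ℕ) : KK)
      rw [if_neg hst]
      by_cases h1 : tg s t < 240
      · rw [er_val (by rw [nr]; exact h1)]
        split_ifs <;> simp
      · rw [er_ge (by omega), if_neg (by omega), Nat.cast_zero]
        rfl

/-- the matrix of the quadratic form `v ↦ [v, t₀ v]_a` -/
def NN (s s' : ℕ) (a : Fin 8 ⊕ ℕ) : ℕ := ((tl s').map fun t => cf s t a).sum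

theorem br_TL (h : Ops Fp ta) {s s' : ℕ} (hs : s < 240) (hs0 : s' < 240) (hs' : okil (w4 s') = true)
    (a : Fin 8 ⊕ ℕ) (ha : ∀ u, a = Sum.inr u → u < 240) :
    brK (er s) (TL ta (er s')) (ia a ha) = (NN s s' a : KK) := by
  obtain ⟨h1, ht⟩ := TL_er h hs0 hs'
  rw [h1]
  unfold NN
  generalize tl s' = l at ht
  induction l with
  | nil =>
    rw [lis_nil, ← brL_apply, map_zero]
    show (0 : KK) = ((0 : ℕ) : KK)
    rw [Nat.cast_zero]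
  | cons t l ih =>
    rw [lis_cons, ← brL_apply, map_add, brL_apply, brL_apply, Pi.add_apply,
      br_coord hs (ht t (List.mem_cons_self ..)) a ha, ih fun u hu => ht u (List.mem_cons_of_mem _ hu),
      List.map_cons, List.sum_cons, Nat.cast_add]

/-! ### quadratic forms in characteristic two -/

theorem even_cast {m : ℕ} (h : m % 2 = 0) : (m : KK) = 0 := by
  obtain ⟨k, rfl⟩ := Nat.dvd_of_mod_eq_zero h
  rw [Nat.cast_mul, Nat.cast_ofNat, two_zero, zero_mul]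

theorem quad_zero {n : ℕ} (x : Fin n → KK) (M : Fin n → Fin n → ℕ) (h1 : ∀ i k, i ≠ k → (M i k + M k i) % 2 = 0)
    (h2 : ∀ i, M i i % 2 = 0) : ∑ i, ∑ k, x i * x k * (M i k : KK) = 0 := by
  rw [← Fintype.sum_prod_type' (fun i k => x i * x k * (M i k : KK))]
  apply Finset.sum_involution (fun (p : Fin n × Fin n) _ => (p.2, p.1))
  · intro p _
    by_cases h : p.1 = p.2
    · rw [h, even_cast (h2 _)]; ring
    · have := even_cast (h1 _ _ h)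
      rw [Nat.cast_add] at this
      show x p.1 * x p.2 * (M p.1 p.2 : KK) + x p.2 * x p.1 * (M p.2 p.1 : KK) = 0
      linear_combination x p.1 * x p.2 * this
  · intro p _ hp he
    apply hp
    have h : p.1 = p.2 := (congrArg Prod.snd he)
    rw [h, even_cast (h2 _), mul_zero]
  · intro p _; exact Finset.mem_univ _
  · intro p _; rfl

theorem count_sum {n : ℕ} (x : Fin n → KK) (L : List (Fin n × Fin n)) :
    (L.map fun p => x p.1 * x p.2).sum = ∑ i, ∑ k, x i * x k * ((L.count (i, k) : ℕ) : KK) := by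
  induction L with
  | nil => simp only [_root_.List.map_nil, _root_.List.sum_nil, _root_.List.nodup_nil, _root_.List.count_nil, _root_.Nat.cast_zero, _root_.MulZeroClass.mul_zero, _root_.Finset.sum_const_zero]
  | cons p L ih =>
    rw [List.map_cons, List.sum_cons, ih]
    have h1 : ∀ i k : Fin n, x i * x k * (((p :: L).count (i, k) : ℕ) : KK) =
        x i * x k * ((L.count (i, k) : ℕ) : KK) + (if i = p.1 then if k = p.2 then x i * x k else 0 else 0) := by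
      intro i k
      rw [List.count_cons]
      by_cases hi : i = p.1 <;> by_cases hk : k = p.2
      · have : (p == (i, k)) = true := by rw [hi, hk]; simp
        rw [this, if_pos rfl, if_pos hi, if_pos hk, Nat.cast_add, Nat.cast_one]; ring
      · have : (p == (i, k)) = false := by
          rw [beq_eq_false_iff_ne]; intro h; exact hk (by rw [h])
        rw [this, if_neg (by simp), if_pos hi, if_neg hk]; simp
      · have : (p == (i, k)) = false := by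
          rw [beq_eq_false_iff_ne]; intro h; exact hi (by rw [h])
        rw [this, if_neg (by simp), if_neg hi]; simp
      · have : (p == (i, k)) = false := by
          rw [beq_eq_false_iff_ne]; intro h; exact hi (by rw [h])
        rw [this, if_neg (by simp), if_neg hi]; simp
    simp_rw [h1, Finset.sum_add_distrib]
    rw [add_comm]
    congr 1
    rw [Finset.sum_eq_single p.1, Finset.sum_eq_single p.2]
    · rw [if_pos rfl, if_pos rfl]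
    · intro k _ hk; rw [if_pos rfl, if_neg hk]
    · intro h; exact absurd (Finset.mem_univ _) h
    · intro i _ hi
      exact Finset.sum_eq_zero fun k _ => by rw [if_neg hi]
    · intro h; exact absurd (Finset.mem_univ _) h

/-- the check for a normal form -/
def okq {n : ℕ} (M : Fin n → Fin n → ℕ) (L : List (Fin n × Fin n)) : Bool :=
  (List.finRange n).all fun i => (List.finRange n).all fun k =>
    if i = k then decide ((M i i + L.count (i, i)) % 2 = 0)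
    else decide ((M i k + L.count (i, k) + (M k i + L.count (k, i))) % 2 = 0)

theorem quad_eq {n : ℕ} (x : Fin n → KK) {M : Fin n → Fin n → ℕ} {L : List (Fin n × Fin n)} (h : okq M L = true) :
    ∑ i, ∑ k, x i * x k * (M i k : KK) = (L.map fun p => x p.1 * x p.2).sum := by
  have h1 : ∀ i k, if i = k then (M i i + L.count (i, i)) % 2 = 0
      else (M i k + L.count (i, k) + (M k i + L.count (k, i))) % 2 = 0 := by
    intro i k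
    have := List.all_eq_true.1 (List.all_eq_true.1 h i (List.mem_finRange i)) k (List.mem_finRange k)
    by_cases hik : i = k
    · rw [if_pos hik] at this ⊢; exact of_decide_eq_true this
    · rw [if_neg hik] at this ⊢; exact of_decide_eq_true this
  have h2 := quad_zero x (fun i k => M i k + L.count (i, k)) (fun i k hik => by
    have := h1 i k
    rwa [if_neg hik] at this) (fun i => by
    have := h1 i i
    rwa [if_pos rfl] at this)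
  simp_rw [Nat.cast_add, mul_add, Finset.sum_add_distrib] at h2
  rw [← count_sum] at h2
  have h3 : (2 : KK) = 0 := two_zero
  linear_combination h2 - (L.map fun p => x p.1 * x p.2).sum * h3

/-- the general vector -/
noncomputable def vec {n : ℕ} (S : Fin n → ℕ) (x : Fin n → KK) : LK := ∑ k, x k • er (S k)

/-- **the equations** -/
theorem eqn (h : Ops Fp ta) {n : ℕ} {S : Fin n → ℕ}
    (hS : ((List.finRange n).all fun k => decide (S k < 240) && okil (w4 (S k))) = true) {x : Fin n → KK}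
    (h0 : brK (vec S x) (TL ta (vec S x)) = 0) (a : Fin 8 ⊕ ℕ) (ha : ∀ u, a = Sum.inr u → u < 240)
    {L : List (Fin n × Fin n)} (hL : okq (fun i k => NN (S i) (S k) a) L = true) :
    (L.map fun p => x p.1 * x p.2).sum = 0 := by
  have h1 : ∀ k, S k < 240 ∧ okil (w4 (S k)) = true := by
    intro k
    have := List.all_eq_true.1 hS k (List.mem_finRange k)
    rwa [Bool.and_eq_true, decide_eq_true_eq] at this
  rw [← quad_eq x hL]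
  have h2 := congrFun h0 (ia a ha)
  unfold vec at h2
  rw [← brL_apply, map_sum, LinearMap.sum_apply, Finset.sum_apply] at h2
  refine Eq.trans ?_ (show _ = (0 : KK) from h2)
  refine Finset.sum_congr rfl fun i _ => ?_
  rw [map_smul, LinearMap.smul_apply, Pi.smul_apply, map_sum, map_sum, Finset.sum_apply, Finset.smul_sum]
  refine Finset.sum_congr rfl fun k _ => ?_
  rw [map_smul, map_smul, Pi.smul_apply, brL_apply, br_TL h (h1 i).1 (h1 k).1 (h1 k).2 a ha, smul_eq_mul, smul_eq_mul]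
  ring

/-- membership in a weight space -/
theorem mem_Wt {n : ℕ} {S : Fin n → ℕ} {a : ZMod 17} (hS : ((List.range 240).all fun s =>
      !decide (wt16 s = a) || (List.finRange n).any fun k => decide (S k = s)) = true) {v : LK} (hv : v ∈ Wt a) :
    ∃ x : Fin n → KK, v = vec S x := by
  unfold Wt at hv
  induction hv using Submodule.span_induction with
  | mem v h =>
    obtain ⟨s, hs, hw, rfl⟩ := h
    have h1 := List.all_eq_true.1 hS s (List.mem_range.2 hs)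
    rw [Bool.or_eq_true, Bool.not_eq_true', decide_eq_false_iff_not] at h1
    obtain ⟨k, -, hk⟩ := List.any_eq_true.1 (h1.resolve_left (not_not.2 hw))
    refine ⟨Pi.single k 1, ?_⟩
    unfold vec
    rw [Finset.sum_eq_single k]
    · rw [Pi.single_eq_same, one_smul, of_decide_eq_true hk]
    · intro i _ hi
      rw [Pi.single_eq_of_ne hi, zero_smul]
    · intro h; exact absurd (Finset.mem_univ _) h
  | zero =>
    refine ⟨0, ?_⟩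
    unfold vec
    simp only [_root_.Pi.zero_apply, _root_.zero_smul, _root_.Finset.sum_const_zero]
  | add u v _ _ hu hv =>
    obtain ⟨x, rfl⟩ := hu
    obtain ⟨y, rfl⟩ := hv
    refine ⟨x + y, ?_⟩
    unfold vec
    rw [← Finset.sum_add_distrib]
    exact Finset.sum_congr rfl fun k _ => by rw [Pi.add_apply, add_smul]
  | smul c v _ hv =>
    obtain ⟨x, rfl⟩ := hv
    refine ⟨c • x, ?_⟩
    unfold vec
    rw [Finset.smul_sum]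
    exact Finset.sum_congr rfl fun k _ => by rw [Pi.smul_apply, smul_smul, smul_eq_mul]

/-! ### weight 1 -/

/-- the roots of weight 1 -/
def S1 : Fin 15 → ℕ := ![0, 123, 124, 127, 128, 130, 131, 136, 137, 142, 143, 147, 148, 162, 163]

/-- the roots of weight 3 -/
def S3 : Fin 14 → ℕ := ![1, 2, 125, 129, 153, 154, 156, 157, 166, 167, 171, 172, 174, 184]

private noncomputable def _root_.Cfsg.Agent.KOa0eda52.k0 : type_of% @Decidable.decide := @(fun x0 x1 => @Decidable.rec.{1} _ @(fun x2 => @Bool) @(fun x2 => @Bool.false) @(fun x2 => @Bool.true) @x1)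
private theorem _root_.Cfsg.Agent.KOa0eda52.e0 : @Decidable.decide = @_root_.Cfsg.Agent.KOa0eda52.k0 := by delta _root_.Cfsg.Agent.KOa0eda52.k0; rfl'
private noncomputable def _root_.Cfsg.Agent.KOa0eda52.k1 : type_of% @instDecidableAnd := @(fun x0 x1 x2 x3 => @Decidable.rec.{1} _ @(fun x4 => @Decidable (@And @x0 @x1)) @(fun x4 => @Decidable.isFalse _ (@instDecidableAnd._proof_2 _ _ @x4)) @(fun x4 => @Decidable.rec.{1} _ @(fun x5 => @Decidable (@And @x0 @x1)) @(fun x5 => @Decidable.isFalse _ (@instDecidableAnd._proof_1 _ _ @x5)) @(fun x5 => @Decidable.isTrue _ (@And.intro _ _ @x4 @x5)) @x3) @x2)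
private theorem _root_.Cfsg.Agent.KOa0eda52.e1 : @instDecidableAnd = @_root_.Cfsg.Agent.KOa0eda52.k1 := by delta _root_.Cfsg.Agent.KOa0eda52.k1; rfl'
private noncomputable def _root_.Cfsg.Agent.KOa0eda52.k2 : type_of% @Bool.decEq := @(fun x0 x1 => @Bool.rec.{1} @(fun x2 => @Decidable (@Eq.{1} _ @x2 @x1)) (@Bool.rec.{1} @(fun x2 => @Decidable (@Eq.{1} _ @Bool.false @x2)) (@Decidable.isTrue _ (@rfl.{1} _ _)) (@Decidable.isFalse _ @(fun x2 => @Bool.noConfusion.{0} _ _ _ @x2)) @x1) (@Bool.rec.{1} @(fun x2 => @Decidable (@Eq.{1} _ @Bool.true @x2)) (@Decidable.isFalse _ @(fun x2 => @Bool.noConfusion.{0} _ _ _ @x2)) (@Decidable.isTrue _ (@rfl.{1} _ _)) @x1) @x0)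
private theorem _root_.Cfsg.Agent.KOa0eda52.e2 : @Bool.decEq = @_root_.Cfsg.Agent.KOa0eda52.k2 := by delta _root_.Cfsg.Agent.KOa0eda52.k2; rfl'
private noncomputable def _root_.Cfsg.Agent.KOa0eda52.k3 : type_of% @instDecidableEqBool := @Cfsg.Agent.KOa0eda52.k2
private theorem _root_.Cfsg.Agent.KOa0eda52.e3 : @instDecidableEqBool = @_root_.Cfsg.Agent.KOa0eda52.k3 := by delta _root_.Cfsg.Agent.KOa0eda52.k3; rewrite [← Cfsg.Agent.KOa0eda52.e2]; rfl'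
private theorem _root_.Cfsg.Agent.KOa0eda52.e4.{ku, kv} {α : Type kv} {M : List α → Sort ku} (φ : ∀ l, M l) {z : M List.nil} {s : ∀ a l, M l → M (List.cons a l)} (h0 : φ List.nil = z) (hs : ∀ a l, φ (List.cons a l) = s a l (φ l)) (l : List α) : φ l = @List.rec α M z s l := List.rec h0 (fun a l ih => (hs a l).trans (congrArg (s a l) ih)) l
private noncomputable def _root_.Cfsg.Agent.KOa0eda52.k5.{ku0} : type_of% @List.all.{ku0} := @(fun x0 x1 x2 => @List.rec.{(ku0+1), ku0} @x0 @(fun x3 => (@x0 → @Bool) → @Bool) @(fun x3 => @Bool.true) @(fun x3 x4 x5 x6 => @Bool.rec.{1} @(fun x7 => @Bool) @Bool.false (@x5 @x6) (@x6 @x3)) @x1 @x2)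
private theorem _root_.Cfsg.Agent.KOa0eda52.e5.{ku0} : @List.all.{ku0} = @_root_.Cfsg.Agent.KOa0eda52.k5.{ku0} := by delta _root_.Cfsg.Agent.KOa0eda52.k5; funext a0 a1 a2; refine (congrFun (_root_.Cfsg.Agent.KOa0eda52.e4 (fun a1 a2 => @List.all.{ku0} a0 a1 a2) ?_ (fun c0 c1 => ?_) a1) a2 :) <;> (rfl')
private theorem _root_.Cfsg.Agent.KOa0eda52.e6.{ku} {M : Nat → Sort ku} (φ : ∀ n, M n) {z : M Nat.zero} {s : ∀ n, M n → M (Nat.succ n)} (h0 : φ Nat.zero = z) (hs : ∀ n, φ (Nat.succ n) = s n (φ n)) (n : Nat) : φ n = @Nat.rec M z s n := Nat.rec h0 (fun n ih => (hs n).trans (congrArg (s n) ih)) n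
private noncomputable def _root_.Cfsg.Agent.KOa0eda52.k7.{ku0} : type_of% @Fin.foldr.loop.{ku0} := @(fun x0 x1 x2 x3 x4 x5 => @Nat.rec.{ku0} @(fun x6 => (@LE.le.{0} _ _ @x6 @x1) → @x0 → @x0) @(fun x6 x7 => @x7) @(fun x6 x7 x8 x9 => @x7 (@Nat.le_of_lt _ _ @x8) (@x2 (@Fin.mk _ @x6 @x8) @x9)) @x3 @x4 @x5)
private theorem _root_.Cfsg.Agent.KOa0eda52.e7.{ku0} : @Fin.foldr.loop.{ku0} = @_root_.Cfsg.Agent.KOa0eda52.k7.{ku0} := by delta _root_.Cfsg.Agent.KOa0eda52.k7; funext a0 a1 a2 a3 a4 a5; refine (congrFun (congrFun (_root_.Cfsg.Agent.KOa0eda52.e6 (fun a3 a4 a5 => @Fin.foldr.loop.{ku0} a0 a1 a2 a3 a4 a5) ?_ (fun c0 => ?_) a3) a4) a5 :) <;> (rfl')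
private noncomputable def _root_.Cfsg.Agent.KOa0eda52.k8 : type_of% @List.finRange := @(fun x0 => @Cfsg.Agent.KOa0eda52.k7.{1} _ @x0 @(fun x1 x2 => @x1 :: @x2) @x0 (@Nat.le_refl @x0) [])
private theorem _root_.Cfsg.Agent.KOa0eda52.e8 : @List.finRange = @_root_.Cfsg.Agent.KOa0eda52.k8 := by delta _root_.Cfsg.Agent.KOa0eda52.k8; rewrite [← Cfsg.Agent.KOa0eda52.e7.{1}]; rfl'
private noncomputable def _root_.Cfsg.Agent.KOa0eda52.k9 : type_of% @Bool.and := @(fun x0 x1 => @Bool.rec.{1} @(fun x2 => @Bool) @Bool.false @x1 @x0)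
private theorem _root_.Cfsg.Agent.KOa0eda52.e9 : @Bool.and = @_root_.Cfsg.Agent.KOa0eda52.k9 := by delta _root_.Cfsg.Agent.KOa0eda52.k9; rfl'
private noncomputable def _root_.Cfsg.Agent.KOa0eda52.k10 : type_of% @Nat.decLe := @(fun x0 x1 => @Decidable.rec.{1} _ @(fun x2 => @Decidable (@LE.le.{0} _ _ @x0 @x1)) @(fun x2 => @Decidable.isFalse _ (@Nat.not_le_of_not_ble_eq_true _ _ @x2)) @(fun x2 => @Decidable.isTrue _ (@Nat.le_of_ble_eq_true _ _ @x2)) (@Cfsg.Agent.KOa0eda52.k2 (@Nat.ble @x0 @x1) @Bool.true))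
private theorem _root_.Cfsg.Agent.KOa0eda52.e10 : @Nat.decLe = @_root_.Cfsg.Agent.KOa0eda52.k10 := by delta _root_.Cfsg.Agent.KOa0eda52.k10; rewrite [← Cfsg.Agent.KOa0eda52.e2]; rfl'
private noncomputable def _root_.Cfsg.Agent.KOa0eda52.k11 : type_of% @Nat.decLt := @(fun x0 x1 => @Cfsg.Agent.KOa0eda52.k10 (@Nat.succ @x0) @x1)
private theorem _root_.Cfsg.Agent.KOa0eda52.e11 : @Nat.decLt = @_root_.Cfsg.Agent.KOa0eda52.k11 := by delta _root_.Cfsg.Agent.KOa0eda52.k11; rewrite [← Cfsg.Agent.KOa0eda52.e10]; rfl'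
private noncomputable def _root_.Cfsg.Agent.KOa0eda52.k12.{ku0} : type_of% @Fin.induction.go.{ku0} := @(fun x0 x1 x2 x3 x4 x5 => @Nat.rec.{ku0} @(fun x6 => (x7 : @LT.lt.{0} _ _ @x6 (@HAdd.hAdd.{0, 0, 0} _ _ _ _ @x0 ((1 : ℕ)))) → @x1 (@Fin.mk _ @x6 @x7)) @(fun x6 => @Eq.rec.{ku0, (ku0+1)} (Sort ku0) (@x1 (@OfNat.ofNat.{0} _ (nat_lit 0) _)) @(fun x7 x8 => @x7) @x2 (@x1 (@Fin.mk _ ((0 : ℕ)) @x6)) (@Eq.symm.{(ku0+1)} _ _ _ (@Fin.induction.go._proof_1.{ku0} _ _ @x6))) @(fun x6 x7 x8 => @x3 (@Fin.mk _ @x6 (@Nat.lt_of_succ_lt_succ _ _ @x8)) (@x7 (@Fin.induction.go._proof_2 _ @x6 @x8))) @x4 @x5)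
private theorem _root_.Cfsg.Agent.KOa0eda52.e12.{ku0} : @Fin.induction.go.{ku0} = @_root_.Cfsg.Agent.KOa0eda52.k12.{ku0} := by delta _root_.Cfsg.Agent.KOa0eda52.k12; funext a0 a1 a2 a3 a4 a5; refine (congrFun (_root_.Cfsg.Agent.KOa0eda52.e6 (fun a4 a5 => @Fin.induction.go.{ku0} a0 a1 a2 a3 a4 a5) ?_ (fun c0 => ?_) a4) a5 :) <;> (rfl')
private noncomputable def _root_.Cfsg.Agent.KOa0eda52.k13.{ku0} : type_of% @Fin.induction.{ku0} := @(fun x0 x1 x2 x3 x4 => @Fin.rec.{ku0} (@Nat.add @x0 (nat_lit 1)) @(fun x5 => @x1 @x5) @(fun x5 x6 => @Cfsg.Agent.KOa0eda52.k12.{ku0} _ _ @x2 @x3 @x5 @x6) @x4)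
private theorem _root_.Cfsg.Agent.KOa0eda52.e13.{ku0} : @Fin.induction.{ku0} = @_root_.Cfsg.Agent.KOa0eda52.k13.{ku0} := by delta _root_.Cfsg.Agent.KOa0eda52.k13; rewrite [← Cfsg.Agent.KOa0eda52.e12.{ku0}]; rfl'
private noncomputable def _root_.Cfsg.Agent.KOa0eda52.k14.{ku0} : type_of% @Fin.cases.{ku0} := @(fun x0 x1 x2 x3 x4 => @Cfsg.Agent.KOa0eda52.k13.{ku0} _ @(fun x5 => @x1 @x5) @x2 @(fun x5 x6 => @x3 @x5) @x4)
private theorem _root_.Cfsg.Agent.KOa0eda52.e14.{ku0} : @Fin.cases.{ku0} = @_root_.Cfsg.Agent.KOa0eda52.k14.{ku0} := by delta _root_.Cfsg.Agent.KOa0eda52.k14; rewrite [← Cfsg.Agent.KOa0eda52.e13.{ku0}]; rfl'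
private noncomputable def _root_.Cfsg.Agent.KOa0eda52.k15.{ku0} : type_of% @Fin.cons.{ku0} := @(fun x0 x1 x2 x3 x4 => @Cfsg.Agent.KOa0eda52.k14.{ku0} _ @(fun x5 => @x1 @x5) @x2 @x3 @x4)
private theorem _root_.Cfsg.Agent.KOa0eda52.e15.{ku0} : @Fin.cons.{ku0} = @_root_.Cfsg.Agent.KOa0eda52.k15.{ku0} := by delta _root_.Cfsg.Agent.KOa0eda52.k15; rewrite [← Cfsg.Agent.KOa0eda52.e14.{ku0}]; rfl'
private noncomputable def _root_.Cfsg.Agent.KOa0eda52.k16.{ku0} : type_of% @Fin.elim0.{ku0} := @(fun x0 x1 => @Fin.rec.{ku0} (nat_lit 0) @(fun x2 => @x0) @(fun x2 x3 => @False.rec.{ku0} @(fun x4 => @x0) (@Nat.not_lt_zero @x2 @x3)) @x1)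
private theorem _root_.Cfsg.Agent.KOa0eda52.e16.{ku0} : @Fin.elim0.{ku0} = @_root_.Cfsg.Agent.KOa0eda52.k16.{ku0} := by delta _root_.Cfsg.Agent.KOa0eda52.k16; rfl'
private noncomputable def _root_.Cfsg.Agent.KOa0eda52.k17 : (by first | exact type_of% @Cfsg.Agent.H547.L16.S1 | exact Unit : Sort _) := by first | (refine @Subtype.val _ (fun g => @Cfsg.Agent.H547.L16.S1 = @g) (@Subtype.mk _ _ (@Cfsg.Agent.KOa0eda52.k15.{1} (nat_lit 14) @(fun (x0 : @Fin (@Nat.succ (@OfNat.ofNat.{0} @Nat (nat_lit 14) (@instOfNatNat (nat_lit 14))))) => @Nat) (nat_lit 0) (@Cfsg.Agent.KOa0eda52.k15.{1} (nat_lit 13) @(fun (x0 : @Fin (@Nat.succ (@OfNat.ofNat.{0} @Nat (nat_lit 13) (@instOfNatNat (nat_lit 13))))) => @Nat) (nat_lit 123) (@Cfsg.Agent.KOa0eda52.k15.{1} (nat_lit 12) @(fun (x0 : @Fin (@Nat.succ (@OfNat.ofNat.{0} @Nat (nat_lit 12) (@instOfNatNat (nat_lit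 12))))) => @Nat) (nat_lit 124) (@Cfsg.Agent.KOa0eda52.k15.{1} (nat_lit 11) @(fun (x0 : @Fin (@Nat.succ (@OfNat.ofNat.{0} @Nat (nat_lit 11) (@instOfNatNat (nat_lit 11))))) => @Nat) (nat_lit 127) (@Cfsg.Agent.KOa0eda52.k15.{1} (nat_lit 10) @(fun (x0 : @Fin (@Nat.succ (@OfNat.ofNat.{0} @Nat (nat_lit 10) (@instOfNatNat (nat_lit 10))))) => @Nat) (nat_lit 128) (@Cfsg.Agent.KOa0eda52.k15.{1} (nat_lit 9) @(fun (x0 : @Fin (@Nat.succ (@OfNat.ofNat.{0} @Nat (nat_lit 9) (@instOfNatNat (nat_lit 9))))) => @Nat) (nat_lit 130) (@Cfsg.Agent.KOa0eda52.k15.{1} (nat_lit 8) @(fun (x0 : @Fin (@Nat.succ (@OfNat.ofNat.{0} @Nat (nat_lit 8) (@instOfNatNat (nat_lit 8))))) => @Nat) (nat_lit 131) (@Cfsg.Agent.KOa0eda52.k15.{1} (nat_lit 7) @(fun (x0 : @Fin (@Nat.succ (@OfNat.ofNat.{0} @Nat (nat_lit 7) (@instOfNatNat (nat_lit 7))))) => @Nat) (nat_lit 136) (@Cfsg.Agent.KOa0eda52.k15.{1}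 (nat_lit 6) @(fun (x0 : @Fin (@Nat.succ (@OfNat.ofNat.{0} @Nat (nat_lit 6) (@instOfNatNat (nat_lit 6))))) => @Nat) (nat_lit 137) (@Cfsg.Agent.KOa0eda52.k15.{1} (nat_lit 5) @(fun (x0 : @Fin (@Nat.succ (@OfNat.ofNat.{0} @Nat (nat_lit 5) (@instOfNatNat (nat_lit 5))))) => @Nat) (nat_lit 142) (@Cfsg.Agent.KOa0eda52.k15.{1} (nat_lit 4) @(fun (x0 : @Fin (@Nat.succ (@OfNat.ofNat.{0} @Nat (nat_lit 4) (@instOfNatNat (nat_lit 4))))) => @Nat) (nat_lit 143) (@Cfsg.Agent.KOa0eda52.k15.{1} (nat_lit 3) @(fun (x0 : @Fin (@Nat.succ (@OfNat.ofNat.{0} @Nat (nat_lit 3) (@instOfNatNat (nat_lit 3))))) => @Nat) (nat_lit 147) (@Cfsg.Agent.KOa0eda52.k15.{1} (nat_lit 2) @(fun (x0 : @Fin (@Nat.succ (@OfNat.ofNat.{0} @Nat (nat_lit 2) (@instOfNatNat (nat_lit 2))))) => @Nat) (nat_lit 148) (@Cfsg.Agent.KOa0eda52.k15.{1} (nat_lit 1) @(fun (x0 : @Fin (@Nat.succ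 (@OfNat.ofNat.{0} @Nat (nat_lit 1) (@instOfNatNat (nat_lit 1))))) => @Nat) (nat_lit 162) (@Cfsg.Agent.KOa0eda52.k15.{1} (nat_lit 0) @(fun (x0 : @Fin (@Nat.succ (@OfNat.ofNat.{0} @Nat (nat_lit 0) (@instOfNatNat (nat_lit 0))))) => @Nat) (nat_lit 163) (@Cfsg.Agent.KOa0eda52.k16.{1} @Nat)))))))))))))))) ?_); rewrite [← Cfsg.Agent.KOa0eda52.e16.{1}, ← Cfsg.Agent.KOa0eda52.e15.{1}]; rfl') | exact @Cfsg.Agent.H547.L16.S1 | exact ()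
private theorem _root_.Cfsg.Agent.KOa0eda52.e17 : (by first | exact @Cfsg.Agent.H547.L16.S1 = @_root_.Cfsg.Agent.KOa0eda52.k17 | exact True : Prop) := by first | (delta _root_.Cfsg.Agent.KOa0eda52.k17; exact @Subtype.property _ (fun g => @Cfsg.Agent.H547.L16.S1 = @g) _) | rfl | trivial
private noncomputable def _root_.Cfsg.Agent.KOa0eda52.oLe.{ku} (α : Sort ku) (a b : Nat) (f t : α) : α := @Decidable.rec (@LE.le Nat instLENat a b) (fun _ => α) (fun _ => f) (fun _ => t) (Nat.decLe a b)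
private noncomputable def _root_.Cfsg.Agent.KOa0eda52.k18.{ku} (α : Sort ku) (a b : Nat) (f t : α) : α := @Bool.rec (fun _ => α) f t (Nat.ble a b)
private theorem _root_.Cfsg.Agent.KOa0eda52.e18.{ku} : @_root_.Cfsg.Agent.KOa0eda52.oLe.{ku} = @_root_.Cfsg.Agent.KOa0eda52.k18.{ku} := funext fun α => funext fun a => funext fun b => funext fun f => funext fun t => by delta _root_.Cfsg.Agent.KOa0eda52.oLe _root_.Cfsg.Agent.KOa0eda52.k18; cases h : Nat.ble a b <;> cases Nat.decLe a b <;> rename_i g <;> first | rfl | exact absurd (h.symm.trans (Nat.ble_eq_true_of_le g)) Bool.false_ne_true | exact absurd (Nat.le_of_ble_eq_true h) g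
private noncomputable def _root_.Cfsg.Agent.KOa0eda52.k19.{ku0} : type_of% @List.append.{ku0} := @(fun x0 x1 x2 => @List.rec.{(ku0+1), ku0} @x0 @(fun x3 => (@List.{ku0} @x0) → @List.{ku0} @x0) @(fun x3 => @x3) @(fun x3 x4 x5 x6 => @x3 :: (@x5 @x6)) @x1 @x2)
private theorem _root_.Cfsg.Agent.KOa0eda52.e19.{ku0} : @List.append.{ku0} = @_root_.Cfsg.Agent.KOa0eda52.k19.{ku0} := by delta _root_.Cfsg.Agent.KOa0eda52.k19; funext a0 a1 a2; refine (congrFun (_root_.Cfsg.Agent.KOa0eda52.e4 (fun a1 a2 => @List.append.{ku0} a0 a1 a2) ?_ (fun c0 c1 => ?_) a1) a2 :) <;> (rfl')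
private noncomputable def _root_.Cfsg.Agent.KOa0eda52.k20.{ku0} : type_of% @List.filter.{ku0} := @(fun x0 x1 x2 => @List.rec.{(ku0+1), ku0} @x0 @(fun x3 => @List.{ku0} @x0) [] @(fun x3 x4 x5 => @Bool.rec.{(ku0+1)} @(fun x6 => @List.{ku0} @x0) @x5 (@x3 :: @x5) (@x1 @x3)) @x2)
private theorem _root_.Cfsg.Agent.KOa0eda52.e20.{ku0} : @List.filter.{ku0} = @_root_.Cfsg.Agent.KOa0eda52.k20.{ku0} := by delta _root_.Cfsg.Agent.KOa0eda52.k20; funext a0 a1 a2; refine (_root_.Cfsg.Agent.KOa0eda52.e4 (fun a2 => @List.filter.{ku0} a0 a1 a2) ?_ (fun c0 c1 => ?_) a2 :) <;> (rfl')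
private noncomputable def _root_.Cfsg.Agent.KOa0eda52.k21.{ku0, ku1} : type_of% @List.map.{ku0, ku1} := @(fun x0 x1 x2 x3 => @List.rec.{(ku1+1), ku0} @x0 @(fun x4 => @List.{ku1} @x1) [] @(fun x4 x5 x6 => (@x2 @x4) :: @x6) @x3)
private theorem _root_.Cfsg.Agent.KOa0eda52.e21.{ku0, ku1} : @List.map.{ku0, ku1} = @_root_.Cfsg.Agent.KOa0eda52.k21.{ku0, ku1} := by delta _root_.Cfsg.Agent.KOa0eda52.k21; funext a0 a1 a2 a3; refine (_root_.Cfsg.Agent.KOa0eda52.e4 (fun a3 => @List.map.{ku0, ku1} a0 a1 a2 a3) ?_ (fun c0 c1 => ?_) a3 :) <;> (rfl')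
private noncomputable def _root_.Cfsg.Agent.KOa0eda52.oEq.{ku} (α : Sort ku) (a b : Nat) (f t : α) : α := @Decidable.rec (a = b) (fun _ => α) (fun _ => f) (fun _ => t) (Nat.decEq a b)
private noncomputable def _root_.Cfsg.Agent.KOa0eda52.k22.{ku} (α : Sort ku) (a b : Nat) (f t : α) : α := @Bool.rec (fun _ => α) f t (Nat.beq a b)
private theorem _root_.Cfsg.Agent.KOa0eda52.e22.{ku} : @_root_.Cfsg.Agent.KOa0eda52.oEq.{ku} = @_root_.Cfsg.Agent.KOa0eda52.k22.{ku} := funext fun α => funext fun a => funext fun b => funext fun f => funext fun t => by delta _root_.Cfsg.Agent.KOa0eda52.oEq _root_.Cfsg.Agent.KOa0eda52.k22; cases h : Nat.beq a b <;> cases Nat.decEq a b <;> rename_i g <;> first | rfl | exact absurd g (Nat.ne_of_beq_eq_false h) | exact absurd (Nat.eq_of_beq_eq_true h) g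
private noncomputable def _root_.Cfsg.Agent.KOa0eda52.k26.{ku0} : type_of% @List.find?.{ku0} := @(fun x0 x1 x2 => @List.rec.{(ku0+1), ku0} @x0 @(fun x3 => @Option.{ku0} @x0) (@Option.none.{ku0} _) @(fun x3 x4 x5 => @Bool.rec.{(ku0+1)} @(fun x6 => @Option.{ku0} @x0) @x5 (@Option.some.{ku0} _ @x3) (@x1 @x3)) @x2)
private theorem _root_.Cfsg.Agent.KOa0eda52.e26.{ku0} : @List.find?.{ku0} = @_root_.Cfsg.Agent.KOa0eda52.k26.{ku0} := by delta _root_.Cfsg.Agent.KOa0eda52.k26; funext a0 a1 a2; refine (_root_.Cfsg.Agent.KOa0eda52.e4 (fun a2 => @List.find?.{ku0} a0 a1 a2) ?_ (fun c0 c1 => ?_) a2 :) <;> (rfl')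
private noncomputable def _root_.Cfsg.Agent.KOa0eda52.k27 : (by first | exact type_of% @Cfsg.Agent.H413.L16.row | exact Unit : Sort _) := by first | (refine @Subtype.val _ (fun g => @Cfsg.Agent.H413.L16.row = @g) (@Subtype.mk _ _ (@(fun x0 => @Array.toList.{0} _ (@Decidable.rec.{1} _ @(fun x1 => @Array.{0} (ℕ × (@Array.{0} (ℕ × ℤ)))) @(fun x1 => @Array.mk.{0} _ []) @(fun x1 => @List.get.{0} _ (@Array.toList.{0} _ (@Cfsg.Lie.ChevalleyDatum.chain @Cfsg.Lie.chevE8)) (@Fin.mk _ @x0 @x1)) (@Cfsg.Agent.KOa0eda52.k10 (@Nat.succ @x0) (@List.length.{0} _ (@Array.toList.{0} _ (@Cfsg.Lie.ChevalleyDatum.chain @Cfsg.Lie.chevE8))))))) ?_); rewrite [← Cfsg.Agent.KOa0eda52.e10]; (try delta Cfsg.Agent.H413.L16.row); (try generalize @Cfsg.Lie.chevE8 = g0); rfl') | exact @Cfsg.Agent.H413.L16.row | exact ()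
private theorem _root_.Cfsg.Agent.KOa0eda52.e27 : (by first | exact @Cfsg.Agent.H413.L16.row = @_root_.Cfsg.Agent.KOa0eda52.k27 | exact True : Prop) := by first | (delta _root_.Cfsg.Agent.KOa0eda52.k27; exact @Subtype.property _ (fun g => @Cfsg.Agent.H413.L16.row = @g) _) | rfl | trivial
private noncomputable def _root_.Cfsg.Agent.KOa0eda52.k28 : (by first | exact type_of% @Cfsg.Agent.H413.L16.tg | exact Unit : Sort _) := by first | (refine @Subtype.val _ (fun g => @Cfsg.Agent.H413.L16.tg = @g) (@Subtype.mk _ _ (@(fun x0 x1 => @Option.rec.{1, 0} (ℕ × (@Array.{0} (ℕ × ℤ))) @(fun x2 => ℕ) (nat_lit 240) @(fun x2 => @Prod.fst.{0, 0} _ _ (@Decidable.rec.{1} _ @(fun x3 => ℕ × ℤ) @(fun x3 => (nat_lit 240, @Int.ofNat (nat_lit 0))) @(fun x3 => @List.get.{0} _ (@Array.toList.{0} _ (@Prod.snd.{0, 0} _ _ @x2)) (@Fin.mk _ (nat_lit 0) @x3)) (@Cfsg.Agent.KOa0eda52.k10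 (@Nat.succ (nat_lit 0)) (@List.length.{0} _ (@Array.toList.{0} _ (@Prod.snd.{0, 0} _ _ @x2)))))) (@Cfsg.Agent.KOa0eda52.k26.{0} _ @(fun x2 => @Cfsg.Agent.KOa0eda52.k22.{1} @Bool (@Prod.fst.{0, 0} _ _ @x2) @x1 @Bool.false @Bool.true) (@Cfsg.Agent.KOa0eda52.k27 @x0)))) ?_); rewrite [← Cfsg.Agent.KOa0eda52.e27, ← Cfsg.Agent.KOa0eda52.e22.{1}, ← Cfsg.Agent.KOa0eda52.e26.{0}, ← Cfsg.Agent.KOa0eda52.e10]; (try delta Cfsg.Agent.H413.L16.tg); (try generalize @Cfsg.Agent.H413.L16.row = g0); rfl') | exact @Cfsg.Agent.H413.L16.tg | exact ()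
private theorem _root_.Cfsg.Agent.KOa0eda52.e28 : (by first | exact @Cfsg.Agent.H413.L16.tg = @_root_.Cfsg.Agent.KOa0eda52.k28 | exact True : Prop) := by first | (delta _root_.Cfsg.Agent.KOa0eda52.k28; exact @Subtype.property _ (fun g => @Cfsg.Agent.H413.L16.tg = @g) _) | rfl | trivial
private noncomputable def _root_.Cfsg.Agent.KOa0eda52.k29 : (by first | exact type_of% @Cfsg.Agent.H547.L16.stp | exact Unit : Sort _) := by first | (refine @Subtype.val _ (fun g => @Cfsg.Agent.H547.L16.stp = @g) (@Subtype.mk _ _ (@(fun x0 x1 => @Cfsg.Agent.KOa0eda52.k19.{0} _ @x1 (@Cfsg.Agent.KOa0eda52.k20.{0} _ @(fun x2 => @Cfsg.Agent.KOa0eda52.k18.{1} @Bool (@Nat.succ @x2) (nat_lit 240) @Bool.false @Bool.true) (@Cfsg.Agent.KOa0eda52.k21.{0, 0} _ _ (@Cfsg.Agent.KOa0eda52.k28 @x0) @x1)))) ?_); rewrite [← Cfsg.Agent.KOa0eda52.e28, ← Cfsg.Agent.KOa0eda52.e21.{0,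 0}, ← Cfsg.Agent.KOa0eda52.e18.{1}, ← Cfsg.Agent.KOa0eda52.e20.{0}, ← Cfsg.Agent.KOa0eda52.e19.{0}]; (try delta Cfsg.Agent.H547.L16.stp); (try generalize @Cfsg.Agent.H413.L16.tg = g0); rfl') | exact @Cfsg.Agent.H547.L16.stp | exact ()
private theorem _root_.Cfsg.Agent.KOa0eda52.e29 : (by first | exact @Cfsg.Agent.H547.L16.stp = @_root_.Cfsg.Agent.KOa0eda52.k29 | exact True : Prop) := by first | (delta _root_.Cfsg.Agent.KOa0eda52.k29; exact @Subtype.property _ (fun g => @Cfsg.Agent.H547.L16.stp = @g) _) | rfl | trivial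
private noncomputable def _root_.Cfsg.Agent.KOa0eda52.k30 : (by first | exact type_of% @Cfsg.Agent.H547.L16.il | exact Unit : Sort _) := by first | (refine @Subtype.val _ (fun g => @Cfsg.Agent.H547.L16.il = @g) (@Subtype.mk _ _ (@(fun x0 => @Cfsg.Agent.KOa0eda52.k29 (nat_lit 121) (@Cfsg.Agent.KOa0eda52.k29 (nat_lit 126) (@Cfsg.Agent.KOa0eda52.k29 (nat_lit 141) (@Cfsg.Agent.KOa0eda52.k29 (nat_lit 135) (@x0 :: [])))))) ?_); rewrite [← Cfsg.Agent.KOa0eda52.e29]; (try delta Cfsg.Agent.H547.L16.il); (try generalize @Cfsg.Agent.H547.L16.stp = g0); rfl') | exact @Cfsg.Agent.H547.L16.il | exact ()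
private theorem _root_.Cfsg.Agent.KOa0eda52.e30 : (by first | exact @Cfsg.Agent.H547.L16.il = @_root_.Cfsg.Agent.KOa0eda52.k30 | exact True : Prop) := by first | (delta _root_.Cfsg.Agent.KOa0eda52.k30; exact @Subtype.property _ (fun g => @Cfsg.Agent.H547.L16.il = @g) _) | rfl | trivial
private noncomputable def _root_.Cfsg.Agent.KOa0eda52.k31 : type_of% @Nat.decEq := @(fun x0 x1 => @Bool.rec.{1} @(fun x2 => (@Eq.{1} _ (@Nat.beq @x0 @x1) @x2) → @Decidable (@Eq.{1} _ @x0 @x1)) @(fun x2 => @Decidable.isFalse _ (@Nat.ne_of_beq_eq_false _ _ @x2)) @(fun x2 => @Decidable.isTrue _ (@Nat.eq_of_beq_eq_true _ _ @x2)) (@Nat.beq @x0 @x1) (@Eq.refl.{1} _ (@Nat.beq @x0 @x1)))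
private theorem _root_.Cfsg.Agent.KOa0eda52.e31 : @Nat.decEq = @_root_.Cfsg.Agent.KOa0eda52.k31 := by delta _root_.Cfsg.Agent.KOa0eda52.k31; rfl'
private noncomputable def _root_.Cfsg.Agent.KOa0eda52.k32 : (by first | exact type_of% @Cfsg.Agent.H547.L16.okil | exact Unit : Sort _) := by first | (refine @Subtype.val _ (fun g => @Cfsg.Agent.H547.L16.okil = @g) (@Subtype.mk _ _ (@(fun x0 => @Bool.rec.{1} @(fun x1 => @Bool) @Bool.false (@Cfsg.Agent.KOa0eda52.k5.{0} _ (@Cfsg.Agent.KOa0eda52.k30 @x0) @(fun x1 => @Cfsg.Agent.KOa0eda52.k18.{1} @Bool (@Nat.succ @x1) (nat_lit 240) @Bool.false @Bool.true)) (@Bool.rec.{1} @(fun x1 => @Bool) @Bool.false (@Cfsg.Agent.KOa0eda52.k5.{0} _ (@Cfsg.Agent.KOa0eda52.k29 (nat_lit 126) (@Cfsg.Agent.KOa0eda52.k29 (nat_lit 141) (@Cfsg.Agent.KOa0eda52.k29 (nat_lit 135) (@x0 :: [])))) @(fun x1 => @Decidable.rec.{1}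 _ @(fun x2 => @Bool) @(fun x2 => @Bool.false) @(fun x2 => @Bool.true) (@Cfsg.Agent.KOa0eda52.k1 _ _ (@Cfsg.Agent.KOa0eda52.k10 (@Nat.succ @x1) (nat_lit 240)) (@Decidable.rec.{1} _ @(fun x2 => @Decidable (¬ (@Eq.{1} _ @x1 (@HSub.hSub.{0, 0, 0} _ _ _ _ ((239 : ℕ)) ((121 : ℕ)))))) @(fun x2 => @Decidable.isTrue _ @x2) @(fun x2 => @Decidable.isFalse _ (@absurd.{0} _ _ @x2)) (@Cfsg.Agent.KOa0eda52.k31 @x1 (@Nat.sub (nat_lit 239) (nat_lit 121))))))) (@Bool.rec.{1} @(fun x1 => @Bool) @Bool.false (@Cfsg.Agent.KOa0eda52.k5.{0} _ (@Cfsg.Agent.KOa0eda52.k29 (nat_lit 141) (@Cfsg.Agent.KOa0eda52.k29 (nat_lit 135) (@x0 :: []))) @(fun x1 => @Decidable.rec.{1} _ @(fun x2 => @Bool) @(fun x2 => @Bool.false) @(fun x2 => @Bool.true) (@Cfsg.Agent.KOa0eda52.k1 _ _ (@Cfsg.Agent.KOa0eda52.k10 (@Nat.succ @x1) (nat_lit 240)) (@Decidable.rec.{1} _ @(fun x2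 => @Decidable (¬ (@Eq.{1} _ @x1 (@HSub.hSub.{0, 0, 0} _ _ _ _ ((239 : ℕ)) ((126 : ℕ)))))) @(fun x2 => @Decidable.isTrue _ @x2) @(fun x2 => @Decidable.isFalse _ (@absurd.{0} _ _ @x2)) (@Cfsg.Agent.KOa0eda52.k31 @x1 (@Nat.sub (nat_lit 239) (nat_lit 126))))))) (@Bool.rec.{1} @(fun x1 => @Bool) @Bool.false (@Cfsg.Agent.KOa0eda52.k5.{0} _ (@Cfsg.Agent.KOa0eda52.k29 (nat_lit 135) (@x0 :: [])) @(fun x1 => @Decidable.rec.{1} _ @(fun x2 => @Bool) @(fun x2 => @Bool.false) @(fun x2 => @Bool.true) (@Cfsg.Agent.KOa0eda52.k1 _ _ (@Cfsg.Agent.KOa0eda52.k10 (@Nat.succ @x1) (nat_lit 240)) (@Decidable.rec.{1} _ @(fun x2 => @Decidable (¬ (@Eq.{1} _ @x1 (@HSub.hSub.{0, 0, 0} _ _ _ _ ((239 : ℕ)) ((141 : ℕ)))))) @(fun x2 => @Decidable.isTrue _ @x2) @(fun x2 => @Decidable.isFalse _ (@absurd.{0} _ _ @x2)) (@Cfsg.Agent.KOa0eda52.k31 @x1 (@Nat.sub (nat_lit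 239) (nat_lit 141))))))) (@Decidable.rec.{1} _ @(fun x1 => @Bool) @(fun x1 => @Bool.false) @(fun x1 => @Bool.true) (@Cfsg.Agent.KOa0eda52.k1 _ _ (@Cfsg.Agent.KOa0eda52.k10 (@Nat.succ @x0) (nat_lit 240)) (@Decidable.rec.{1} _ @(fun x1 => @Decidable (¬ (@Eq.{1} _ @x0 (@HSub.hSub.{0, 0, 0} _ _ _ _ ((239 : ℕ)) ((135 : ℕ)))))) @(fun x1 => @Decidable.isTrue _ @x1) @(fun x1 => @Decidable.isFalse _ (@absurd.{0} _ _ @x1)) (@Cfsg.Agent.KOa0eda52.k31 @x0 (@Nat.sub (nat_lit 239) (nat_lit 135))))))))))) ?_); rewrite [← Cfsg.Agent.KOa0eda52.e31, ← Cfsg.Agent.KOa0eda52.e10, ← Cfsg.Agent.KOa0eda52.e1, ← Cfsg.Agent.KOa0eda52.e29, ← Cfsg.Agent.KOa0eda52.e18.{1}, ← Cfsg.Agent.KOa0eda52.e30, ← Cfsg.Agent.KOa0eda52.e5.{0}]; (try delta Cfsg.Agent.H547.L16.okil); (try generalize @Cfsg.Agent.H547.L16.il = g0); (try generalize @Cfsg.Agent.H547.L16.stp =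 g1); rfl') | exact @Cfsg.Agent.H547.L16.okil | exact ()
private theorem _root_.Cfsg.Agent.KOa0eda52.e32 : (by first | exact @Cfsg.Agent.H547.L16.okil = @_root_.Cfsg.Agent.KOa0eda52.k32 | exact True : Prop) := by first | (delta _root_.Cfsg.Agent.KOa0eda52.k32; exact @Subtype.property _ (fun g => @Cfsg.Agent.H547.L16.okil = @g) _) | rfl | trivial
private noncomputable def _root_.Cfsg.Agent.KOa0eda52.k34.{ku0} : type_of% @List.get?Internal.{ku0} := @(fun x0 x1 x2 => @List.rec.{(ku0+1), ku0} @x0 @(fun x3 => ℕ → @Option.{ku0} @x0) @(fun x3 => @Option.none.{ku0} _) @(fun x3 x4 x5 x6 => @Nat.rec.{(ku0+1)} @(fun x7 => @Option.{ku0} @x0) (@Option.some.{ku0} _ @x3) @(fun x7 x8 => @x5 @x7) @x6) @x1 @x2)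
private theorem _root_.Cfsg.Agent.KOa0eda52.e34.{ku0} : @List.get?Internal.{ku0} = @_root_.Cfsg.Agent.KOa0eda52.k34.{ku0} := by delta _root_.Cfsg.Agent.KOa0eda52.k34; funext a0 a1 a2; refine (congrFun (_root_.Cfsg.Agent.KOa0eda52.e4 (fun a1 a2 => @List.get?Internal.{ku0} a0 a1 a2) ?_ (fun c0 c1 => ?_) a1) a2 :) <;> [(funext b0; (rfl')); (funext b0; (cases b0 with | @zero  => (rfl') | @succ b0_0 => (rfl')))]
private noncomputable def _root_.Cfsg.Agent.KOa0eda52.k35 : (by first | exact type_of% @Cfsg.Agent.H547.L16.w4 | exact Unit : Sort _) := by first | (refine @Subtype.val _ (fun g => @Cfsg.Agent.H547.L16.w4 = @g) (@Subtype.mk _ _ (@(fun x0 => @Option.rec.{1, 0} ℕ @(fun x1 => ℕ) (nat_lit 240) @(fun x1 => @x1) (@Cfsg.Agent.KOa0eda52.k34.{0} _ @Cfsg.Agent.H939.L16.WT (@Option.rec.{1, 0} ℕ @(fun x1 => ℕ) (nat_lit 240) @(fun x1 => @x1)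 (@Cfsg.Agent.KOa0eda52.k34.{0} _ @Cfsg.Agent.H939.L16.WT (@Option.rec.{1, 0} ℕ @(fun x1 => ℕ) (nat_lit 240) @(fun x1 => @x1) (@Cfsg.Agent.KOa0eda52.k34.{0} _ @Cfsg.Agent.H939.L16.WT (@Option.rec.{1, 0} ℕ @(fun x1 => ℕ) (nat_lit 240) @(fun x1 => @x1) (@Cfsg.Agent.KOa0eda52.k34.{0} _ @Cfsg.Agent.H939.L16.WT @x0))))))))) ?_); rewrite [← Cfsg.Agent.KOa0eda52.e34.{0}]; (try delta Cfsg.Agent.H547.L16.w4 Cfsg.Agent.H939.L16.wi); (try generalize @Cfsg.Agent.H939.L16.WT = g0); rfl') | exact @Cfsg.Agent.H547.L16.w4 | exact ()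
private theorem _root_.Cfsg.Agent.KOa0eda52.e35 : (by first | exact @Cfsg.Agent.H547.L16.w4 = @_root_.Cfsg.Agent.KOa0eda52.k35 | exact True : Prop) := by first | (delta _root_.Cfsg.Agent.KOa0eda52.k35; exact @Subtype.property _ (fun g => @Cfsg.Agent.H547.L16.w4 = @g) _) | rfl | trivial
private noncomputable def _root_.Cfsg.Agent.KOa0eda52.k36.{ku0} : type_of% @List.countP.go.{ku0} := @(fun x0 x1 x2 x3 => @List.rec.{1, ku0} @x0 @(fun x4 => ℕ → ℕ) @(fun x4 => @x4) @(fun x4 x5 x6 x7 => @Bool.rec.{1} @(fun x8 => ℕ) (@x6 @x7) (@x6 (@Nat.add @x7 (nat_lit 1))) (@x1 @x4)) @x2 @x3)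
private theorem _root_.Cfsg.Agent.KOa0eda52.e36.{ku0} : @List.countP.go.{ku0} = @_root_.Cfsg.Agent.KOa0eda52.k36.{ku0} := by delta _root_.Cfsg.Agent.KOa0eda52.k36; funext a0 a1 a2 a3; refine (congrFun (_root_.Cfsg.Agent.KOa0eda52.e4 (fun a2 a3 => @List.countP.go.{ku0} a0 a1 a2 a3) ?_ (fun c0 c1 => ?_) a2) a3 :) <;> (rfl')
private noncomputable def _root_.Cfsg.Agent.KOa0eda52.k37 : type_of% @instDecidableEqFin := @(fun x0 x1 x2 => @Decidable.rec.{1} _ @(fun x3 => @Decidable (@Eq.{1} _ @x1 @x2)) @(fun x3 => @Decidable.isFalse _ (@instDecidableEqFin._proof_1 @x0 @x1 @x2 @x3)) @(fun x3 => @Decidable.isTrue _ (@Fin.eq_of_val_eq _ _ _ @x3)) (@Cfsg.Agent.KOa0eda52.k31 (@Fin.val _ @x1) (@Fin.val _ @x2)))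
private theorem _root_.Cfsg.Agent.KOa0eda52.e37 : @instDecidableEqFin = @_root_.Cfsg.Agent.KOa0eda52.k37 := by delta _root_.Cfsg.Agent.KOa0eda52.k37; rewrite [← Cfsg.Agent.KOa0eda52.e31]; rfl'
private noncomputable def _root_.Cfsg.Agent.KOa0eda52.k38 : (by first | exact type_of% @Cfsg.Agent.H547.L16.okq | exact Unit : Sort _) := by first | (refine @Subtype.val _ (fun g => @Cfsg.Agent.H547.L16.okq = @g) (@Subtype.mk _ _ (@(fun x0 x1 x2 => @Cfsg.Agent.KOa0eda52.k5.{0} _ (@Cfsg.Agent.KOa0eda52.k7.{1} _ @x0 @(fun x3 x4 => @x3 :: @x4) @x0 (@Nat.le_refl @x0) []) @(fun x3 => @Cfsg.Agent.KOa0eda52.k5.{0} _ (@Cfsg.Agent.KOa0eda52.k7.{1} _ @x0 @(fun x4 x5 => @x4 :: @x5) @x0 (@Nat.le_refl @x0) []) @(fun x4 => @Decidable.rec.{1} _ @(fun x5 => @Bool) @(fun x5 => @Cfsg.Agent.KOa0eda52.k22.{1} @Bool (@Nat.mod (@Nat.add (@Nat.add (@x1 @x3 @x4)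 (@Cfsg.Agent.KOa0eda52.k36.{0} _ @(fun x6 => @Prod.rec.{1, 0, 0} (@Fin @x0) (@Fin @x0) @(fun x7 => @Bool) @(fun x7 x8 => @Bool.rec.{1} @(fun x9 => @Bool) @Bool.false (@Decidable.rec.{1} _ @(fun x9 => @Bool) @(fun x9 => @Bool.false) @(fun x9 => @Bool.true) (@Cfsg.Agent.KOa0eda52.k37 @x0 @x8 @x4)) (@Decidable.rec.{1} _ @(fun x9 => @Bool) @(fun x9 => @Bool.false) @(fun x9 => @Bool.true) (@Cfsg.Agent.KOa0eda52.k37 @x0 @x7 @x3))) @x6) @x2 (nat_lit 0))) (@Nat.add (@x1 @x4 @x3) (@Cfsg.Agent.KOa0eda52.k36.{0} _ @(fun x6 => @Prod.rec.{1, 0, 0} (@Fin @x0) (@Fin @x0) @(fun x7 => @Bool) @(fun x7 x8 => @Bool.rec.{1} @(fun x9 => @Bool) @Bool.false (@Decidable.rec.{1} _ @(fun x9 => @Bool) @(fun x9 => @Bool.false) @(fun x9 => @Bool.true) (@Cfsg.Agent.KOa0eda52.k37 @x0 @x8 @x3)) (@Decidable.rec.{1} _ @(fun x9 => @Bool) @(fun x9 => @Bool.false) @(fun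 x9 => @Bool.true) (@Cfsg.Agent.KOa0eda52.k37 @x0 @x7 @x4))) @x6) @x2 (nat_lit 0)))) (nat_lit 2)) (nat_lit 0) @Bool.false @Bool.true) @(fun x5 => @Cfsg.Agent.KOa0eda52.k22.{1} @Bool (@Nat.mod (@Nat.add (@x1 @x3 @x3) (@Cfsg.Agent.KOa0eda52.k36.{0} _ @(fun x6 => @Prod.rec.{1, 0, 0} (@Fin @x0) (@Fin @x0) @(fun x7 => @Bool) @(fun x7 x8 => @Bool.rec.{1} @(fun x9 => @Bool) @Bool.false (@Decidable.rec.{1} _ @(fun x9 => @Bool) @(fun x9 => @Bool.false) @(fun x9 => @Bool.true) (@Cfsg.Agent.KOa0eda52.k37 @x0 @x8 @x3)) (@Decidable.rec.{1} _ @(fun x9 => @Bool) @(fun x9 => @Bool.false) @(fun x9 => @Bool.true) (@Cfsg.Agent.KOa0eda52.k37 @x0 @x7 @x3))) @x6) @x2 (nat_lit 0))) (nat_lit 2)) (nat_lit 0) @Bool.false @Bool.true) (@Cfsg.Agent.KOa0eda52.k37 @x0 @x3 @x4))))) ?_); rewrite [← Cfsg.Agent.KOa0eda52.e37, ← Cfsg.Agent.KOa0eda52.e36.{0}, ← Cfsg.Agent.KOa0eda52.e22.{1},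 ← Cfsg.Agent.KOa0eda52.e7.{1}, ← Cfsg.Agent.KOa0eda52.e5.{0}]; rfl') | exact @Cfsg.Agent.H547.L16.okq | exact ()
private theorem _root_.Cfsg.Agent.KOa0eda52.e38 : (by first | exact @Cfsg.Agent.H547.L16.okq = @_root_.Cfsg.Agent.KOa0eda52.k38 | exact True : Prop) := by first | (delta _root_.Cfsg.Agent.KOa0eda52.k38; exact @Subtype.property _ (fun g => @Cfsg.Agent.H547.L16.okq = @g) _) | rfl | trivial
private noncomputable def _root_.Cfsg.Agent.KOa0eda52.k39.{ku0, ku1} : type_of% @List.foldr.{ku0, ku1} := @(fun x0 x1 x2 x3 x4 => @List.rec.{(ku1+1), ku0} @x0 @(fun x5 => @x1) @x3 @(fun x5 x6 x7 => @x2 @x5 @x7) @x4)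
private theorem _root_.Cfsg.Agent.KOa0eda52.e39.{ku0, ku1} : @List.foldr.{ku0, ku1} = @_root_.Cfsg.Agent.KOa0eda52.k39.{ku0, ku1} := by delta _root_.Cfsg.Agent.KOa0eda52.k39; funext a0 a1 a2 a3 a4; refine (_root_.Cfsg.Agent.KOa0eda52.e4 (fun a4 => @List.foldr.{ku0, ku1} a0 a1 a2 a3 a4) ?_ (fun c0 c1 => ?_) a4 :) <;> (rfl')
private noncomputable def _root_.Cfsg.Agent.KOa0eda52.k40 : (by first | exact type_of% @Cfsg.Agent.ChevalleyStructure.Columns.cor | exact Unit : Sort _) := by first | (refine @Subtype.val _ (fun g => @Cfsg.Agent.ChevalleyStructure.Columns.cor = @g) (@Subtype.mk _ _ (@(fun (x0 : @Cfsg.Lie.ChevalleyDatum) (x1 : @Nat) (x2 : @Nat) => @Decidable.rec.{1} (@LT.lt.{0} @Nat @instLTNat @x2 (@Array.size.{0} @Int (@Array.getD.{0} (@Array.{0} @Int) (@Cfsg.Lie.ChevalleyDatum.coroot @x0) @x1 (@List.toArray.{0} @Int (@List.nil.{0}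 @Int))))) @(fun (x3 : @Decidable (@LT.lt.{0} @Nat @instLTNat @x2 (@Array.size.{0} @Int (@Array.getD.{0} (@Array.{0} @Int) (@Cfsg.Lie.ChevalleyDatum.coroot @x0) @x1 (@List.toArray.{0} @Int (@List.nil.{0} @Int)))))) => @Int) @(fun (x3 : @Not (@LT.lt.{0} @Nat @instLTNat @x2 (@Array.size.{0} @Int (@Array.getD.{0} (@Array.{0} @Int) (@Cfsg.Lie.ChevalleyDatum.coroot @x0) @x1 (@List.toArray.{0} @Int (@List.nil.{0} @Int)))))) => @Int.ofNat (nat_lit 0)) @(fun (x3 : @LT.lt.{0} @Nat @instLTNat @x2 (@Array.size.{0} @Int (@Array.getD.{0} (@Array.{0} @Int) (@Cfsg.Lie.ChevalleyDatum.coroot @x0) @x1 (@List.toArray.{0} @Int (@List.nil.{0} @Int))))) => @List.get.{0} @Int (@Array.toList.{0} @Int (@Decidable.rec.{1} (@LT.lt.{0} @Nat @instLTNat @x1 (@Array.size.{0} (@Array.{0} @Int) (@Cfsg.Lie.ChevalleyDatum.coroot @x0))) @(fun (x4 : @Decidable (@LT.lt.{0}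 @Nat @instLTNat @x1 (@Array.size.{0} (@Array.{0} @Int) (@Cfsg.Lie.ChevalleyDatum.coroot @x0)))) => @Array.{0} @Int) @(fun (x4 : @Not (@LT.lt.{0} @Nat @instLTNat @x1 (@Array.size.{0} (@Array.{0} @Int) (@Cfsg.Lie.ChevalleyDatum.coroot @x0)))) => @Array.mk.{0} @Int (@List.nil.{0} @Int)) @(fun (x4 : @LT.lt.{0} @Nat @instLTNat @x1 (@Array.size.{0} (@Array.{0} @Int) (@Cfsg.Lie.ChevalleyDatum.coroot @x0))) => @List.get.{0} (@Array.{0} @Int) (@Array.toList.{0} (@Array.{0} @Int) (@Cfsg.Lie.ChevalleyDatum.coroot @x0)) (@Fin.mk (@List.length.{0} (@Array.{0} @Int) (@Array.toList.{0} (@Array.{0} @Int) (@Cfsg.Lie.ChevalleyDatum.coroot @x0))) @x1 @x4)) (@Nat.decLe (@Nat.succ @x1) (@List.length.{0} (@Array.{0} @Int) (@Array.toList.{0} (@Array.{0} @Int) (@Cfsg.Lie.ChevalleyDatum.coroot @x0)))))) (@Fin.mk (@List.length.{0} @Int (@Array.toList.{0}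 @Int (@Decidable.rec.{1} (@LT.lt.{0} @Nat @instLTNat @x1 (@Array.size.{0} (@Array.{0} @Int) (@Cfsg.Lie.ChevalleyDatum.coroot @x0))) @(fun (x4 : @Decidable (@LT.lt.{0} @Nat @instLTNat @x1 (@Array.size.{0} (@Array.{0} @Int) (@Cfsg.Lie.ChevalleyDatum.coroot @x0)))) => @Array.{0} @Int) @(fun (x4 : @Not (@LT.lt.{0} @Nat @instLTNat @x1 (@Array.size.{0} (@Array.{0} @Int) (@Cfsg.Lie.ChevalleyDatum.coroot @x0)))) => @Array.mk.{0} @Int (@List.nil.{0} @Int)) @(fun (x4 : @LT.lt.{0} @Nat @instLTNat @x1 (@Array.size.{0} (@Array.{0} @Int) (@Cfsg.Lie.ChevalleyDatum.coroot @x0))) => @List.get.{0} (@Array.{0} @Int) (@Array.toList.{0} (@Array.{0} @Int) (@Cfsg.Lie.ChevalleyDatum.coroot @x0)) (@Fin.mk (@List.length.{0} (@Array.{0} @Int) (@Array.toList.{0} (@Array.{0} @Int) (@Cfsg.Lie.ChevalleyDatum.coroot @x0))) @x1 @x4)) (@Nat.decLe (@Nat.succ @x1)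 (@List.length.{0} (@Array.{0} @Int) (@Array.toList.{0} (@Array.{0} @Int) (@Cfsg.Lie.ChevalleyDatum.coroot @x0))))))) @x2 @x3)) (@Nat.decLe (@Nat.succ @x2) (@List.length.{0} @Int (@Array.toList.{0} @Int (@Decidable.rec.{1} (@LT.lt.{0} @Nat @instLTNat @x1 (@Array.size.{0} (@Array.{0} @Int) (@Cfsg.Lie.ChevalleyDatum.coroot @x0))) @(fun (x3 : @Decidable (@LT.lt.{0} @Nat @instLTNat @x1 (@Array.size.{0} (@Array.{0} @Int) (@Cfsg.Lie.ChevalleyDatum.coroot @x0)))) => @Array.{0} @Int) @(fun (x3 : @Not (@LT.lt.{0} @Nat @instLTNat @x1 (@Array.size.{0} (@Array.{0} @Int) (@Cfsg.Lie.ChevalleyDatum.coroot @x0)))) => @Array.mk.{0} @Int (@List.nil.{0} @Int)) @(fun (x3 : @LT.lt.{0} @Nat @instLTNat @x1 (@Array.size.{0} (@Array.{0} @Int) (@Cfsg.Lie.ChevalleyDatum.coroot @x0))) => @List.get.{0} (@Array.{0} @Int) (@Array.toList.{0} (@Array.{0} @Int) (@Cfsg.Lie.ChevalleyDatum.coroot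 @x0)) (@Fin.mk (@List.length.{0} (@Array.{0} @Int) (@Array.toList.{0} (@Array.{0} @Int) (@Cfsg.Lie.ChevalleyDatum.coroot @x0))) @x1 @x3)) (@Nat.decLe (@Nat.succ @x1) (@List.length.{0} (@Array.{0} @Int) (@Array.toList.{0} (@Array.{0} @Int) (@Cfsg.Lie.ChevalleyDatum.coroot @x0)))))))))) ?_); rfl') | exact @Cfsg.Agent.ChevalleyStructure.Columns.cor | exact ()
private theorem _root_.Cfsg.Agent.KOa0eda52.e40 : (by first | exact @Cfsg.Agent.ChevalleyStructure.Columns.cor = @_root_.Cfsg.Agent.KOa0eda52.k40 | exact True : Prop) := by first | (delta _root_.Cfsg.Agent.KOa0eda52.k40; exact @Subtype.property _ (fun g => @Cfsg.Agent.ChevalleyStructure.Columns.cor = @g) _) | rfl | trivial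
private noncomputable def _root_.Cfsg.Agent.KOa0eda52.k41 : (by first | exact type_of% @Cfsg.Agent.H547.L16.cf | exact Unit : Sort _) := by first | (refine @Subtype.val _ (fun g => @Cfsg.Agent.H547.L16.cf = @g) (@Subtype.mk _ _ (@(fun x0 x1 x2 => @Sum.rec.{1, 0, 0} (@Fin ((8 : ℕ))) ℕ @(fun x3 => ℕ) @(fun x3 => @Cfsg.Agent.KOa0eda52.k22.{1} ℕ @x1 (@Nat.sub (nat_lit 239) @x0) (nat_lit 0) (@Nat.mod (@Int.rec.{1} @(fun x4 => ℕ) @(fun x4 => @x4) @(fun x4 => @Nat.succ @x4) (@Cfsg.Agent.KOa0eda52.k40 @Cfsg.Lie.chevE8 @x0 (@Fin.val _ @x3))) (nat_lit 2))) @(fun x3 => @Cfsg.Agent.KOa0eda52.k22.{1} ℕ @x1 (@Nat.sub (nat_lit 239) @x0) (@Cfsg.Agent.KOa0eda52.k22.{1} ℕ (@Cfsg.Agent.KOa0eda52.k28 @x0 @x1) @x3 (nat_lit 0) (nat_lit 1)) (nat_lit 0)) @x2)) ?_); rewrite [← Cfsg.Agent.KOa0eda52.e28, ← Cfsg.Agent.KOa0eda52.e40, ← Cfsg.Agent.KOa0eda52.e22.{1}];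 (try delta Cfsg.Agent.H547.L16.cf); (try generalize @Cfsg.Agent.ChevalleyStructure.Columns.cor = g0); (try generalize @Cfsg.Lie.chevE8 = g1); (try generalize @Cfsg.Agent.H413.L16.tg = g2); rfl') | exact @Cfsg.Agent.H547.L16.cf | exact ()
private theorem _root_.Cfsg.Agent.KOa0eda52.e41 : (by first | exact @Cfsg.Agent.H547.L16.cf = @_root_.Cfsg.Agent.KOa0eda52.k41 | exact True : Prop) := by first | (delta _root_.Cfsg.Agent.KOa0eda52.k41; exact @Subtype.property _ (fun g => @Cfsg.Agent.H547.L16.cf = @g) _) | rfl | trivial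
private noncomputable def _root_.Cfsg.Agent.KOa0eda52.k42 : (by first | exact type_of% @Cfsg.Agent.H547.L16.NN | exact Unit : Sort _) := by first | (refine @Subtype.val _ (fun g => @Cfsg.Agent.H547.L16.NN = @g) (@Subtype.mk _ _ (@(fun x0 x1 x2 => @Cfsg.Agent.KOa0eda52.k39.{0, 0} _ _ @(fun x3 x4 => @Nat.add @x3 @x4) (nat_lit 0) (@Cfsg.Agent.KOa0eda52.k21.{0, 0} _ _ @(fun x3 => @Cfsg.Agent.KOa0eda52.k41 @x0 @x3 @x2) (@Cfsg.Agent.KOa0eda52.k30 (@Option.rec.{1, 0} ℕ @(fun x3 => ℕ) (nat_lit 240) @(fun x3 => @x3) (@Cfsg.Agent.KOa0eda52.k34.{0} _ @Cfsg.Agent.H939.L16.WT (@Option.rec.{1, 0} ℕ @(fun x3 => ℕ) (nat_lit 240) @(fun x3 => @x3) (@Cfsg.Agent.KOa0eda52.k34.{0} _ @Cfsg.Agent.H939.L16.WT (@Option.rec.{1, 0} ℕ @(fun x3 => ℕ) (nat_lit 240) @(fun x3 => @x3) (@Cfsg.Agent.KOa0eda52.k34.{0} _ @Cfsg.Agent.H939.L16.WT (@Option.rec.{1, 0}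 ℕ @(fun x3 => ℕ) (nat_lit 240) @(fun x3 => @x3) (@Cfsg.Agent.KOa0eda52.k34.{0} _ @Cfsg.Agent.H939.L16.WT @x1)))))))))))) ?_); rewrite [← Cfsg.Agent.KOa0eda52.e34.{0}, ← Cfsg.Agent.KOa0eda52.e30, ← Cfsg.Agent.KOa0eda52.e41, ← Cfsg.Agent.KOa0eda52.e21.{0, 0}, ← Cfsg.Agent.KOa0eda52.e39.{0, 0}]; (try delta Cfsg.Agent.H547.L16.NN Cfsg.Agent.H547.L16.tl Cfsg.Agent.H547.L16.w4 Cfsg.Agent.H939.L16.wi); (try generalize @Cfsg.Agent.H547.L16.cf = g0); (try generalize @Cfsg.Agent.H547.L16.il = g1); (try generalize @Cfsg.Agent.H939.L16.WT = g2); rfl') | exact @Cfsg.Agent.H547.L16.NN | exact ()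
private theorem _root_.Cfsg.Agent.KOa0eda52.e42 : (by first | exact @Cfsg.Agent.H547.L16.NN = @_root_.Cfsg.Agent.KOa0eda52.k42 | exact True : Prop) := by first | (delta _root_.Cfsg.Agent.KOa0eda52.k42; exact @Subtype.property _ (fun g => @Cfsg.Agent.H547.L16.NN = @g) _) | rfl | trivial

private theorem k1_all :
    (((List.finRange 15).all fun k => decide (S1 k < 240) && okil (w4 (S1 k))) = true) ∧
    (okq (fun i k => NN (S1 i) (S1 k) (Sum.inl 0)) [(13, 13)] = true) ∧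
    (okq (fun i k => NN (S1 i) (S1 k) (Sum.inr 118)) [(1, 1)] = true) ∧
    (okq (fun i k => NN (S1 i) (S1 k) (Sum.inr 98)) [(5, 5)] = true) ∧
    (okq (fun i k => NN (S1 i) (S1 k) (Sum.inl 6)) [(0, 0), (1, 2), (1, 4), (2, 3)] = true) ∧
    (okq (fun i k => NN (S1 i) (S1 k) (Sum.inr 121)) [(1, 2), (1, 4), (2, 2), (2, 3)] = true) ∧
    (okq (fun i k => NN (S1 i) (S1 k) (Sum.inl 1)) [(0, 0), (5, 9), (5, 10), (5, 11), (5, 12), (6, 9), (6, 11), (7, 9), (7, 10), (8, 9)] = true) ∧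
    (okq (fun i k => NN (S1 i) (S1 k) (Sum.inl 2)) [(5, 7), (5, 8), (5, 11), (5, 12), (6, 7), (6, 11), (7, 9), (7, 10), (8, 9), (13, 14)] = true) ∧
    (okq (fun i k => NN (S1 i) (S1 k) (Sum.inr 141)) [(5, 9), (5, 10), (5, 11), (5, 12), (6, 9), (6, 11), (7, 9), (7, 10), (8, 9), (9, 9)] = true) ∧
    (okq (fun i k => NN (S1 i) (S1 k) (Sum.inr 135)) [(5, 7), (5, 8), (5, 11), (5, 12), (6, 7), (6, 11), (7, 7), (7, 9), (7, 10), (8, 9), (13, 14), (14, 14)] = true) ∧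
    (okq (fun i k => NN (S1 i) (S1 k) (Sum.inl 4)) [(0, 0), (1, 3), (1, 4), (2, 3), (5, 6), (5, 8), (5, 10), (5, 12), (6, 7), (6, 9), (6, 11), (7, 10), (8, 9)] = true) ∧
    (okq (fun i k => NN (S1 i) (S1 k) (Sum.inr 126)) [(1, 3), (1, 4), (2, 3), (3, 3), (5, 6), (5, 8), (5, 10), (5, 12), (6, 6), (6, 7), (6, 9), (6, 11), (7, 10), (8, 9)] = true) := by
  (first | (refine of_decide_eq_true ?_; rewrite [Cfsg.Agent.KOa0eda52.e0, Cfsg.Agent.KOa0eda52.e1, Cfsg.Agent.KOa0eda52.e3, Cfsg.Agent.KOa0eda52.e5.{0}, Cfsg.Agent.KOa0eda52.e8, Cfsg.Agent.KOa0eda52.e9, Cfsg.Agent.KOa0eda52.e11, Cfsg.Agent.KOa0eda52.e17, Cfsg.Agent.KOa0eda52.e32, Cfsg.Agent.KOa0eda52.e35, Cfsg.Agent.KOa0eda52.e38, Cfsg.Agent.KOa0eda52.e42]; decide +kernel) | decide +kernel)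

theorem hS1 : ((List.finRange 15).all fun k => decide (S1 k < 240) && okil (w4 (S1 k))) = true :=
  k1_all.1

private noncomputable def _root_.Cfsg.Agent.KOa0eda52.k43 : (by first | exact type_of% @Cfsg.Agent.H547.L16.S3 | exact Unit : Sort _) := by first | (refine @Subtype.val _ (fun g => @Cfsg.Agent.H547.L16.S3 = @g) (@Subtype.mk _ _ (@Cfsg.Agent.KOa0eda52.k15.{1} (nat_lit 13) @(fun (x0 : @Fin (@Nat.succ (@OfNat.ofNat.{0} @Nat (nat_lit 13) (@instOfNatNat (nat_lit 13))))) => @Nat) (nat_lit 1) (@Cfsg.Agent.KOa0eda52.k15.{1} (nat_lit 12) @(fun (x0 : @Fin (@Nat.succ (@OfNat.ofNat.{0} @Nat (nat_lit 12) (@instOfNatNat (nat_lit 12))))) => @Nat) (nat_lit 2) (@Cfsg.Agent.KOa0eda52.k15.{1} (nat_lit 11) @(fun (x0 : @Fin (@Nat.succ (@OfNat.ofNat.{0} @Nat (nat_lit 11) (@instOfNatNat (nat_lit 11))))) => @Nat) (nat_lit 125) (@Cfsg.Agent.KOa0eda52.k15.{1}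 (nat_lit 10) @(fun (x0 : @Fin (@Nat.succ (@OfNat.ofNat.{0} @Nat (nat_lit 10) (@instOfNatNat (nat_lit 10))))) => @Nat) (nat_lit 129) (@Cfsg.Agent.KOa0eda52.k15.{1} (nat_lit 9) @(fun (x0 : @Fin (@Nat.succ (@OfNat.ofNat.{0} @Nat (nat_lit 9) (@instOfNatNat (nat_lit 9))))) => @Nat) (nat_lit 153) (@Cfsg.Agent.KOa0eda52.k15.{1} (nat_lit 8) @(fun (x0 : @Fin (@Nat.succ (@OfNat.ofNat.{0} @Nat (nat_lit 8) (@instOfNatNat (nat_lit 8))))) => @Nat) (nat_lit 154) (@Cfsg.Agent.KOa0eda52.k15.{1} (nat_lit 7) @(fun (x0 : @Fin (@Nat.succ (@OfNat.ofNat.{0} @Nat (nat_lit 7) (@instOfNatNat (nat_lit 7))))) => @Nat) (nat_lit 156) (@Cfsg.Agent.KOa0eda52.k15.{1} (nat_lit 6) @(fun (x0 : @Fin (@Nat.succ (@OfNat.ofNat.{0} @Nat (nat_lit 6) (@instOfNatNat (nat_lit 6))))) => @Nat) (nat_lit 157) (@Cfsg.Agent.KOa0eda52.k15.{1} (nat_lit 5) @(fun (x0 : @Fin (@Nat.succ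 (@OfNat.ofNat.{0} @Nat (nat_lit 5) (@instOfNatNat (nat_lit 5))))) => @Nat) (nat_lit 166) (@Cfsg.Agent.KOa0eda52.k15.{1} (nat_lit 4) @(fun (x0 : @Fin (@Nat.succ (@OfNat.ofNat.{0} @Nat (nat_lit 4) (@instOfNatNat (nat_lit 4))))) => @Nat) (nat_lit 167) (@Cfsg.Agent.KOa0eda52.k15.{1} (nat_lit 3) @(fun (x0 : @Fin (@Nat.succ (@OfNat.ofNat.{0} @Nat (nat_lit 3) (@instOfNatNat (nat_lit 3))))) => @Nat) (nat_lit 171) (@Cfsg.Agent.KOa0eda52.k15.{1} (nat_lit 2) @(fun (x0 : @Fin (@Nat.succ (@OfNat.ofNat.{0} @Nat (nat_lit 2) (@instOfNatNat (nat_lit 2))))) => @Nat) (nat_lit 172) (@Cfsg.Agent.KOa0eda52.k15.{1} (nat_lit 1) @(fun (x0 : @Fin (@Nat.succ (@OfNat.ofNat.{0} @Nat (nat_lit 1) (@instOfNatNat (nat_lit 1))))) => @Nat) (nat_lit 174) (@Cfsg.Agent.KOa0eda52.k15.{1} (nat_lit 0) @(fun (x0 : @Fin (@Nat.succ (@OfNat.ofNat.{0} @Nat (nat_lit 0) (@instOfNatNat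 (nat_lit 0))))) => @Nat) (nat_lit 184) (@Cfsg.Agent.KOa0eda52.k16.{1} @Nat))))))))))))))) ?_); rewrite [← Cfsg.Agent.KOa0eda52.e16.{1}, ← Cfsg.Agent.KOa0eda52.e15.{1}]; rfl') | exact @Cfsg.Agent.H547.L16.S3 | exact ()
private theorem _root_.Cfsg.Agent.KOa0eda52.e43 : (by first | exact @Cfsg.Agent.H547.L16.S3 = @_root_.Cfsg.Agent.KOa0eda52.k43 | exact True : Prop) := by first | (delta _root_.Cfsg.Agent.KOa0eda52.k43; exact @Subtype.property _ (fun g => @Cfsg.Agent.H547.L16.S3 = @g) _) | rfl | trivial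

private theorem k3_all :
    (((List.finRange 14).all fun k => decide (S3 k < 240) && okil (w4 (S3 k))) = true) ∧
    (okq (fun i k => NN (S3 i) (S3 k) (Sum.inr 104)) [(12, 12)] = true) ∧
    (okq (fun i k => NN (S3 i) (S3 k) (Sum.inr 98)) [(8, 8)] = true) ∧
    (okq (fun i k => NN (S3 i) (S3 k) (Sum.inl 7)) [(0, 0), (2, 2)] = true) ∧
    (okq (fun i k => NN (S3 i) (S3 k) (Sum.inr 113)) [(2, 2), (4, 4)] = true) ∧
    (okq (fun i k => NN (S3 i) (S3 k) (Sum.inr 135)) [(12, 13), (13, 13)] = true) ∧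
    (okq (fun i k => NN (S3 i) (S3 k) (Sum.inl 2)) [(4, 4), (8, 8), (12, 12), (12, 13)] = true) ∧
    (okq (fun i k => NN (S3 i) (S3 k) (Sum.inr 141)) [(8, 10), (8, 11), (9, 10), (10, 10)] = true) ∧
    (okq (fun i k => NN (S3 i) (S3 k) (Sum.inl 1)) [(0, 0), (4, 4), (8, 10), (8, 11), (9, 10), (12, 12)] = true) ∧
    (okq (fun i k => NN (S3 i) (S3 k) (Sum.inr 126)) [(2, 3), (3, 3), (4, 6), (4, 7), (5, 6), (6, 6)] = true) ∧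
    (okq (fun i k => NN (S3 i) (S3 k) (Sum.inl 4)) [(0, 0), (2, 3), (4, 4), (4, 6), (4, 7), (5, 6), (8, 8), (12, 12)] = true) ∧
    (okq (fun i k => NN (S3 i) (S3 k) (Sum.inr 121)) [(0, 1), (1, 1), (4, 5), (4, 7), (5, 5), (5, 6), (8, 9), (8, 11), (9, 9), (9, 10)] = true) := by
  (first | (refine of_decide_eq_true ?_; rewrite [Cfsg.Agent.KOa0eda52.e0, Cfsg.Agent.KOa0eda52.e1, Cfsg.Agent.KOa0eda52.e3, Cfsg.Agent.KOa0eda52.e5.{0}, Cfsg.Agent.KOa0eda52.e8, Cfsg.Agent.KOa0eda52.e9, Cfsg.Agent.KOa0eda52.e11, Cfsg.Agent.KOa0eda52.e43, Cfsg.Agent.KOa0eda52.e32, Cfsg.Agent.KOa0eda52.e35, Cfsg.Agent.KOa0eda52.e38, Cfsg.Agent.KOa0eda52.e42]; decide +kernel) | decide +kernel)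

theorem hS3 : ((List.finRange 14).all fun k => decide (S3 k < 240) && okil (w4 (S3 k))) = true :=
  k3_all.1

theorem cov1 : ((List.range 240).all fun s =>
    !decide (wt16 s = 1) || (List.finRange 15).any fun k => decide (S1 k = s)) = true := by decide +kernel

theorem cov3 : ((List.range 240).all fun s =>
    !decide (wt16 s = 3) || (List.finRange 14).any fun k => decide (S3 k = s)) = true := by decide +kernel

theorem k1_h0 : okq (fun i k => NN (S1 i) (S1 k) (Sum.inl 0)) [(13, 13)] = true :=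
  k1_all.2.1

theorem k1_e118 : okq (fun i k => NN (S1 i) (S1 k) (Sum.inr 118)) [(1, 1)] = true :=
  k1_all.2.2.1

theorem k1_e98 : okq (fun i k => NN (S1 i) (S1 k) (Sum.inr 98)) [(5, 5)] = true :=
  k1_all.2.2.2.1

theorem k1_h6 : okq (fun i k => NN (S1 i) (S1 k) (Sum.inl 6)) [(0, 0), (1, 2), (1, 4), (2, 3)] = true :=
  k1_all.2.2.2.2.1

theorem k1_e121 : okq (fun i k => NN (S1 i) (S1 k) (Sum.inr 121)) [(1, 2), (1, 4), (2, 2), (2, 3)] = true :=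
  k1_all.2.2.2.2.2.1

theorem k1_h1 : okq (fun i k => NN (S1 i) (S1 k) (Sum.inl 1)) [(0, 0), (5, 9), (5, 10), (5, 11), (5, 12), (6, 9), (6, 11), (7, 9), (7, 10), (8, 9)] = true :=
  k1_all.2.2.2.2.2.2.1

theorem k1_h2 : okq (fun i k => NN (S1 i) (S1 k) (Sum.inl 2)) [(5, 7), (5, 8), (5, 11), (5, 12), (6, 7), (6, 11), (7, 9), (7, 10), (8, 9), (13, 14)] = true :=
  k1_all.2.2.2.2.2.2.2.1

theorem k1_e141 : okq (fun i k => NN (S1 i) (S1 k) (Sum.inr 141)) [(5, 9), (5, 10), (5, 11), (5, 12), (6, 9), (6, 11), (7, 9), (7, 10), (8, 9), (9, 9)] = true :=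
  k1_all.2.2.2.2.2.2.2.2.1

theorem k1_e135 : okq (fun i k => NN (S1 i) (S1 k) (Sum.inr 135)) [(5, 7), (5, 8), (5, 11), (5, 12), (6, 7), (6, 11), (7, 7), (7, 9), (7, 10), (8, 9), (13, 14), (14, 14)] = true :=
  k1_all.2.2.2.2.2.2.2.2.2.1

theorem k1_h4 : okq (fun i k => NN (S1 i) (S1 k) (Sum.inl 4)) [(0, 0), (1, 3), (1, 4), (2, 3), (5, 6), (5, 8), (5, 10), (5, 12), (6, 7), (6, 9), (6, 11), (7, 10), (8, 9)] = true :=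
  k1_all.2.2.2.2.2.2.2.2.2.2.1

theorem k1_e126 : okq (fun i k => NN (S1 i) (S1 k) (Sum.inr 126)) [(1, 3), (1, 4), (2, 3), (3, 3), (5, 6), (5, 8), (5, 10), (5, 12), (6, 6), (6, 7), (6, 9), (6, 11), (7, 10), (8, 9)] = true :=
  k1_all.2.2.2.2.2.2.2.2.2.2.2

theorem sum15 (f : Fin 15 → LK) : ∑ k, f k = f 0 + f 1 + f 2 + f 3 + f 4 + f 5 + f 6 + f 7 + f 8 + f 9 + f 10 + f 11 +
    f 12 + f 13 + f 14 := by
  simp only [Fin.sum_univ_castSucc, Fin.sum_univ_zero, zero_add]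
  rfl

theorem sum14 (f : Fin 14 → LK) : ∑ k, f k = f 0 + f 1 + f 2 + f 3 + f 4 + f 5 + f 6 + f 7 + f 8 + f 9 + f 10 + f 11 +
    f 12 + f 13 := by
  simp only [Fin.sum_univ_castSucc, Fin.sum_univ_zero, zero_add]
  rfl

/-- **A-SOLVE, weight 1** -/
theorem solve_one (h : Ops Fp ta) {v : LK} (hv : v ∈ Wt 1) (h0 : brK v (T ta v) = 0) :
    ∃ k o1 o3 r1 r2 r3 r0 : KK, RelR o1 o3 r1 r3 ∧ v = vR k o1 o3 r1 r2 r3 r0 := by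
  obtain ⟨x, rfl⟩ := mem_Wt cov1 hv
  rw [← TL_apply] at h0
  have e1 := eqn h hS1 h0 (Sum.inl 0) (fun u h => by cases h) (L := [(13, 13)]) k1_h0
  have e2 := eqn h hS1 h0 (Sum.inr 118) (fun u h => by cases h; decide) (L := [(1, 1)]) k1_e118
  have e3 := eqn h hS1 h0 (Sum.inr 98) (fun u h => by cases h; decide) (L := [(5, 5)]) k1_e98
  have e4 := eqn h hS1 h0 (Sum.inl 6) (fun u h => by cases h) (L := [(0, 0), (1, 2), (1, 4), (2, 3)]) k1_h6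
  have e5 := eqn h hS1 h0 (Sum.inr 121) (fun u h => by cases h; decide) (L := [(1, 2), (1, 4), (2, 2), (2, 3)]) k1_e121
  have e6 := eqn h hS1 h0 (Sum.inl 1) (fun u h => by cases h) (L := [(0, 0), (5, 9), (5, 10), (5, 11), (5, 12), (6, 9), (6, 11), (7, 9), (7, 10), (8, 9)]) k1_h1
  have e7 := eqn h hS1 h0 (Sum.inl 2) (fun u h => by cases h) (L := [(5, 7), (5, 8), (5, 11), (5, 12), (6, 7), (6, 11), (7, 9), (7, 10), (8, 9), (13, 14)]) k1_h2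
  have e8 := eqn h hS1 h0 (Sum.inr 141) (fun u h => by cases h; decide) (L := [(5, 9), (5, 10), (5, 11), (5, 12), (6, 9), (6, 11), (7, 9), (7, 10), (8, 9), (9, 9)]) k1_e141
  have e9 := eqn h hS1 h0 (Sum.inr 135) (fun u h => by cases h; decide) (L := [(5, 7), (5, 8), (5, 11), (5, 12), (6, 7), (6, 11), (7, 7), (7, 9), (7, 10), (8, 9), (13, 14), (14, 14)]) k1_e135
  have e10 := eqn h hS1 h0 (Sum.inl 4) (fun u h => by cases h) (L := [(0, 0), (1, 3), (1, 4), (2, 3), (5, 6), (5, 8), (5, 10), (5, 12), (6, 7), (6, 9), (6, 11), (7, 10), (8, 9)]) k1_h4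
  have e11 := eqn h hS1 h0 (Sum.inr 126) (fun u h => by cases h; decide) (L := [(1, 3), (1, 4), (2, 3), (3, 3), (5, 6), (5, 8), (5, 10), (5, 12), (6, 6), (6, 7), (6, 9), (6, 11), (7, 10), (8, 9)]) k1_e126
  simp only [List.map_cons, List.map_nil, List.sum_cons, List.sum_nil] at e1 e2 e3 e4 e5 e6 e7 e8 e9 e10 e11
  obtain ⟨z0, z124, z123, z162, z142, z130, hc⟩ := Cfsg.Agent.H911.L16.solve1 (K := KK) two_zero (c := x 0) (v128 := x 4)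
    (v124 := x 2) (v127 := x 3) (v123 := x 1) (v163 := x 14) (v162 := x 13) (v148 := x 12) (v143 := x 10) (v137 := x 8)
    (v131 := x 6) (v147 := x 11) (v142 := x 9) (v136 := x 7) (v130 := x 5) (by linear_combination e1)
    (by linear_combination e2) (by linear_combination e3) (by linear_combination e4) (by linear_combination e5)
    (by linear_combination e6) (by linear_combination e7) (by linear_combination e8) (by linear_combination e9)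
    (by linear_combination e10) (by linear_combination e11)
  have hvec : vec S1 x = x 3 • er 127 + x 4 • er 128 + x 6 • er 131 + x 7 • er 136 + x 8 • er 137 + x 10 • er 143 +
      x 11 • er 147 + x 12 • er 148 + x 14 • er 163 := by
    show ∑ k, x k • er (S1 k) = _
    rw [sum15, z0, z123, z124, z130, z142, z162]
    simp only [zero_smul, zero_add, add_zero]
    rfl
  rcases hc with ⟨h1, h2, h3, h4⟩ | ⟨h1, h2, h3, h4⟩ | ⟨h1, h2, h3, h4⟩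
  · refine ⟨x 4, 0, 0, x 11, x 8, x 10, x 12, ⟨zero_mul _, zero_mul _, zero_mul _⟩, ?_⟩
    rw [hvec, h1, h2, h3, h4]
    unfold vR
    simp only [zero_smul, zero_add, add_zero]
    abel
  · refine ⟨x 4, x 6, 0, 0, x 8, x 10, x 12, ⟨mul_zero _, mul_zero _, zero_mul _⟩, ?_⟩
    rw [hvec, h1, h2, h3, h4]
    unfold vR
    simp only [zero_smul, add_zero, smul_add]
    abel
  · refine ⟨x 4, 0, x 14, x 11, x 8, 0, x 12, ⟨zero_mul _, zero_mul _, mul_zero _⟩, ?_⟩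
    rw [hvec, h1, h2, h3, h4]
    unfold vR
    simp only [zero_smul, zero_add, add_zero, smul_add]
    abel

/-! ### weight 3 -/

theorem k3_e104 : okq (fun i k => NN (S3 i) (S3 k) (Sum.inr 104)) [(12, 12)] = true :=
  k3_all.2.1

theorem k3_e98 : okq (fun i k => NN (S3 i) (S3 k) (Sum.inr 98)) [(8, 8)] = true :=
  k3_all.2.2.1

theorem k3_h7 : okq (fun i k => NN (S3 i) (S3 k) (Sum.inl 7)) [(0, 0), (2, 2)] = true :=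
  k3_all.2.2.2.1

theorem k3_e113 : okq (fun i k => NN (S3 i) (S3 k) (Sum.inr 113)) [(2, 2), (4, 4)] = true :=
  k3_all.2.2.2.2.1

theorem k3_e135 : okq (fun i k => NN (S3 i) (S3 k) (Sum.inr 135)) [(12, 13), (13, 13)] = true :=
  k3_all.2.2.2.2.2.1

theorem k3_h2 : okq (fun i k => NN (S3 i) (S3 k) (Sum.inl 2)) [(4, 4), (8, 8), (12, 12), (12, 13)] = true :=
  k3_all.2.2.2.2.2.2.1

theorem k3_e141 : okq (fun i k => NN (S3 i) (S3 k) (Sum.inr 141)) [(8, 10), (8, 11), (9, 10), (10, 10)] = true :=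
  k3_all.2.2.2.2.2.2.2.1

theorem k3_h1 : okq (fun i k => NN (S3 i) (S3 k) (Sum.inl 1)) [(0, 0), (4, 4), (8, 10), (8, 11), (9, 10), (12, 12)] = true :=
  k3_all.2.2.2.2.2.2.2.2.1

theorem k3_e126 : okq (fun i k => NN (S3 i) (S3 k) (Sum.inr 126)) [(2, 3), (3, 3), (4, 6), (4, 7), (5, 6), (6, 6)] = true :=
  k3_all.2.2.2.2.2.2.2.2.2.1

theorem k3_h4 : okq (fun i k => NN (S3 i) (S3 k) (Sum.inl 4)) [(0, 0), (2, 3), (4, 4), (4, 6), (4, 7), (5, 6), (8, 8), (12, 12)] = true :=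
  k3_all.2.2.2.2.2.2.2.2.2.2.1

theorem k3_e121 : okq (fun i k => NN (S3 i) (S3 k) (Sum.inr 121)) [(0, 1), (1, 1), (4, 5), (4, 7), (5, 5), (5, 6), (8, 9), (8, 11), (9, 9), (9, 10)] = true :=
  k3_all.2.2.2.2.2.2.2.2.2.2.2

/-- **A-SOLVE, weight 3** -/
theorem solve_three (h : Ops Fp ta) {v : LK} (hv : v ∈ Wt 3) (h0 : brK v (T ta v) = 0) :
    ∃ K1 K2 A A2 B : KK, A * A2 = 0 ∧ v = vN K1 K2 A A2 B := by
  obtain ⟨x, rfl⟩ := mem_Wt cov3 hv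
  rw [← TL_apply] at h0
  have e1 := eqn h hS3 h0 (Sum.inr 104) (fun u h => by cases h; decide) (L := [(12, 12)]) k3_e104
  have e2 := eqn h hS3 h0 (Sum.inr 98) (fun u h => by cases h; decide) (L := [(8, 8)]) k3_e98
  have e3 := eqn h hS3 h0 (Sum.inl 7) (fun u h => by cases h) (L := [(0, 0), (2, 2)]) k3_h7
  have e4 := eqn h hS3 h0 (Sum.inr 113) (fun u h => by cases h; decide) (L := [(2, 2), (4, 4)]) k3_e113
  have e5 := eqn h hS3 h0 (Sum.inr 135) (fun u h => by cases h; decide) (L := [(12, 13), (13, 13)]) k3_e135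
  have e6 := eqn h hS3 h0 (Sum.inl 2) (fun u h => by cases h) (L := [(4, 4), (8, 8), (12, 12), (12, 13)]) k3_h2
  have e8 := eqn h hS3 h0 (Sum.inr 141) (fun u h => by cases h; decide) (L := [(8, 10), (8, 11), (9, 10), (10, 10)]) k3_e141
  have e9 := eqn h hS3 h0 (Sum.inl 1) (fun u h => by cases h) (L := [(0, 0), (4, 4), (8, 10), (8, 11), (9, 10), (12, 12)]) k3_h1
  have e10 := eqn h hS3 h0 (Sum.inr 126) (fun u h => by cases h; decide) (L := [(2, 3), (3, 3), (4, 6), (4, 7), (5, 6), (6, 6)]) k3_e126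
  have e11 := eqn h hS3 h0 (Sum.inl 4) (fun u h => by cases h) (L := [(0, 0), (2, 3), (4, 4), (4, 6), (4, 7), (5, 6), (8, 8), (12, 12)]) k3_h4
  have e13 := eqn h hS3 h0 (Sum.inr 121) (fun u h => by cases h; decide) (L := [(0, 1), (1, 1), (4, 5), (4, 7), (5, 5), (5, 6), (8, 9), (8, 11), (9, 9), (9, 10)]) k3_e121
  simp only [List.map_cons, List.map_nil, List.sum_cons, List.sum_nil] at e1 e2 e3 e4 e5 e6 e8 e9 e10 e11 e13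
  obtain ⟨z1, z125, z184, z174, z153, z171, z166, h2, h129, hc⟩ := Cfsg.Agent.H911.L16.solve3 (K := KK) two_zero
    (v2 := x 1) (v1 := x 0) (v129 := x 3) (v125 := x 2) (v184 := x 13) (v174 := x 12) (v157 := x 7) (v154 := x 5)
    (v156 := x 6) (v153 := x 4) (v172 := x 11) (v167 := x 9) (v171 := x 10) (v166 := x 8) (by linear_combination e1)
    (by linear_combination e2) (by linear_combination e3) (by linear_combination e4) (by linear_combination e5)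
    (by linear_combination e6) (by linear_combination e8) (by linear_combination e9) (by linear_combination e10)
    (by linear_combination e11) (by linear_combination e13)
  refine ⟨x 7, x 11, x 5, x 6, x 9, ?_, ?_⟩
  · rcases hc with hc | hc <;> rw [hc]
    · exact mul_zero _
    · exact zero_mul _
  · show ∑ k, x k • er (S3 k) = _
    rw [sum14, z1, z125, z184, z174, z153, z171, z166, h2, h129]
    unfold vN
    simp only [zero_smul, zero_add, add_zero, add_smul, smul_add]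
    show x 5 • er 2 + x 9 • er 2 + x 6 • er 129 + x 5 • er 154 + x 6 • er 156 + x 7 • er 157 + x 9 • er 167 +
      x 11 • er 172 = _
    abel

end Cfsg.Agent.H547.L16
end

-- part: H911/L16/GlueF
section
/-!
# S5916 (helper911): the vectors of the families are good, in the frame
-/

set_option autoImplicit false
set_option maxRecDepth 100000
set_option linter.unusedSectionVars false

namespace Cfsg.Agent.H911.L16

open Matrix Cfsg Cfsg.Lie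
open Cfsg.Agent.H939.L64 (KK E2 LK em aK rE fr brK)
open Cfsg.Agent.H413.L16 (er hv Fp16 lin tau16 ops16 frob16)
open Cfsg.Agent.H939.L16
open Cfsg.Agent.H955.L16
open Cfsg.Agent.H280.L16 (PDat Fam1 Fam2 Fam3)

variable {F : Type} [Field F] [Fintype F] {H : Subgroup E2} {f : _root_.Matrix.SpecialLinearGroup (Fin 2) F →* E2}
  {y t0 : _root_.Matrix.SpecialLinearGroup (Fin 2) F} {z : ↥(chevE8.group KK)} {ζ' ζ : KK} {ι : F →+* KK}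
  {P : _root_.Matrix.SpecialLinearGroup (Fin 2) F →* Matrix (Fin 2) (Fin 2) KK}

theorem lsit (S : Fsit H f y t0 z ζ' ζ ι P) : Lsit H f y t0 z ζ' Fp16 (lin tau16) where
  ops := ops16
  prim := S.prim
  yer := fun _ hs => S.y_er hs
  yhv := S.y_hv
  frob := frob16 S.zm

theorem sol {Fp : LK → LK} {ta : LK →ₗ[KK] LK} (h : Ops Fp ta) : Sol ta where
  one _ hv h0 := Cfsg.Agent.H547.L16.solve_one h hv h0
  three _ hv h0 := Cfsg.Agent.H547.L16.solve_three h hv h0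

/-- **the canonical submodules are spanned by good vectors** -/
theorem glueF (S : Fsit H f y t0 z ζ' ζ ι P) (h : z⁻¹ * _root_.Cfsg.Agent.H939.L64.em (f t0) * z = tau16 * X16) (hX : X16 * X16 = 1) {n : ℕ}
    (hn : n = 1 ∨ n = 2 ∨ n = 3) (M : ModF Fp16 P (rz z f) n) (E : Elim Fp16 (lin tau16)) :
    NN (rz z f) n ≤ Submodule.span KK {v | v ∈ NN (rz z f) n ∧ Good Fp16 (lin tau16) v} := by
  classical
  refine (Cfsg.Agent.H493.L16.NN_le S.pd hn).trans (Submodule.span_mono ?_)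
  rintro v ⟨hv, hv'⟩
  exact ⟨hv', glue (lsit S) (S.t_apply h hX) S.tt (sol ops16) E S.pd S.ty M v hv⟩

end Cfsg.Agent.H911.L16
end

-- part: H834/L16/Calc
section
/-!
# S5916: coefficients of brackets in frame coordinates, by lists (helper834)

* `ev nu l` : the vector `∑ nu v ^ e • e_r` of a list of triples `(r, v, e)`;
* `ev_F`, `ev_ta`, `ev_iz`, `ev_T` : the operators `Fp`, `ta`, `iz` on lists;
* `cf_br` : the coordinate of a bracket.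
-/

set_option autoImplicit false
set_option maxRecDepth 100000

namespace Cfsg.Agent.H834.L16

open Cfsg Cfsg.Lie
open Cfsg.Agent.H939.L64 (KK LK brK)
open Cfsg.Agent.H413.L16 (er hv hr tg br_rr br_neg tg_le chain_mod er_ge er_of nr)
open Cfsg.Agent.H939.L16 (Ops xl iz wi)

/-! ### normalization of lists modulo two -/

section norm

variable {α : Type} [DecidableEq α]

def ins (t : α) (l : List α) : List α := if t ∈ l then l.erase t else t :: l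

def nrm (l : List α) : List α := l.foldr ins []

theorem sum_ins {M : Type*} [AddCommMonoid M] (h2 : ∀ x : M, x + x = 0) (f : α → M) (t : α) (l : List α) :
    ((ins t l).map f).sum = f t + (l.map f).sum := by
  unfold ins
  split_ifs with h
  · have h1 := ((List.perm_cons_erase h).map f).sum_eq
    rw [h1, List.map_cons, List.sum_cons, ← add_assoc, h2, zero_add]
  · rw [List.map_cons, List.sum_cons]

theorem sum_nrm {M : Type*} [AddCommMonoid M] (h2 : ∀ x : M, x + x = 0) (f : α → M) (l : List α) :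
    ((nrm l).map f).sum = (l.map f).sum := by
  induction l with
  | nil => rfl
  | cons t l ih =>
    show ((ins t (nrm l)).map f).sum = _
    rw [sum_ins h2, ih, List.map_cons, List.sum_cons]

end norm

theorem kk2 (x : KK) : x + x = 0 := by
  have h := Cfsg.Agent.H876.L64.two_zero
  rw [← two_mul, h, zero_mul]

theorem lk2 (x : LK) : x + x = 0 := by
  rw [← two_smul KK x, Cfsg.Agent.H876.L64.two_zero, zero_smul]

theorem bal (u v w : LK) : brK (u + v) w = brK u w + brK v w := Cfsg.Agent.H971.RV.br_add_left u v w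
theorem bar (u v w : LK) : brK u (v + w) = brK u v + brK u w := Cfsg.Agent.H971.RV.br_add_right u v w
theorem bsl (c : KK) (v w : LK) : brK (c • v) w = c • brK v w := Cfsg.Agent.H971.RV.br_smul_left c v w
theorem bsr (c : KK) (v w : LK) : brK v (c • w) = c • brK v w := Cfsg.Agent.H971.RV.br_smul_right c v w
theorem b0r (v : LK) : brK v 0 = 0 := by
  have h := bsr 0 v 0
  rwa [zero_smul, zero_smul] at h
theorem b0l (v : LK) : brK 0 v = 0 := by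
  have h := bsl 0 0 v
  rwa [zero_smul, zero_smul] at h

/-! ### vectors -/

/-- `(r, v, e)` : `nu v ^ e • e_r` -/
noncomputable def tv (nu : ℕ → KK) (t : ℕ × ℕ × ℕ) : LK := nu t.2.1 ^ t.2.2 • er t.1

/-- the vector of a list -/
noncomputable def ev (nu : ℕ → KK) (l : List (ℕ × ℕ × ℕ)) : LK := (l.map (tv nu)).sum

theorem ev_nil (nu : ℕ → KK) : ev nu [] = 0 := rfl

theorem ev_cons (nu : ℕ → KK) (t : ℕ × ℕ × ℕ) (l : List (ℕ × ℕ × ℕ)) : ev nu (t :: l) = tv nu t + ev nu l := by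
  unfold ev; rw [List.map_cons, List.sum_cons]

theorem ev_append (nu : ℕ → KK) (l l' : List (ℕ × ℕ × ℕ)) : ev nu (l ++ l') = ev nu l + ev nu l' := by
  unfold ev; rw [List.map_append, List.sum_append]

theorem ev_nrm (nu : ℕ → KK) (l : List (ℕ × ℕ × ℕ)) : ev nu (nrm l) = ev nu l := sum_nrm lk2 _ l

/-- the indices are roots -/
def ok (l : List (ℕ × ℕ × ℕ)) : Bool := l.all fun t => Nat.ble (t.1 + 1) 240

theorem ok_cons {t : ℕ × ℕ × ℕ} {l : List (ℕ × ℕ × ℕ)} (h : ok (t :: l) = true) : t.1 < 240 ∧ ok l = true := by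
  unfold ok at h
  rw [List.all_cons, Bool.and_eq_true] at h
  exact ⟨Nat.le_of_ble_eq_true h.1, h.2⟩

/-- the list of `Fp v` -/
def Fl (l : List (ℕ × ℕ × ℕ)) : List (ℕ × ℕ × ℕ) := l.map fun t => (wi t.1, t.2.1, 2 * t.2.2)

/-- the list of `ta v` -/
def tl (l : List (ℕ × ℕ × ℕ)) : List (ℕ × ℕ × ℕ) := l.map fun t => (wi (wi (wi (wi t.1))), t.2)

section ops

variable {Fp : LK → LK} {ta : LK →ₗ[KK] LK}

theorem Fp_zero (h : Ops Fp ta) : Fp 0 = 0 := by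
  have h1 := h.add 0 0
  rw [add_zero] at h1
  exact left_eq_add.1 h1

theorem ev_F (h : Ops Fp ta) (nu : ℕ → KK) {l : List (ℕ × ℕ × ℕ)} (hl : ok l = true) : Fp (ev nu l) = ev nu (Fl l) := by
  induction l with
  | nil => exact Fp_zero h
  | cons t l ih =>
    obtain ⟨h1, h2⟩ := ok_cons hl
    rw [ev_cons, h.add, ih h2]
    show _ = ev nu ((wi t.1, t.2.1, 2 * t.2.2) :: Fl l)
    rw [ev_cons]
    congr 1
    unfold tv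
    rw [h.smul, h.er _ h1, ← pow_mul, mul_comm]

theorem ev_ta (h : Ops Fp ta) (nu : ℕ → KK) {l : List (ℕ × ℕ × ℕ)} (hl : ok l = true) : ta (ev nu l) = ev nu (tl l) := by
  induction l with
  | nil => exact map_zero ta
  | cons t l ih =>
    obtain ⟨h1, h2⟩ := ok_cons hl
    rw [ev_cons, map_add, ih h2]
    show _ = ev nu ((wi (wi (wi (wi t.1))), t.2) :: tl l)
    rw [ev_cons]
    congr 1
    unfold tv
    rw [map_smul, h.ter _ h1]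

end ops

/-- the list of `x_r(1) v` -/
def xll (r : ℕ) (l : List (ℕ × ℕ × ℕ)) : List (ℕ × ℕ × ℕ) :=
  l.flatMap fun t => if Nat.beq (tg r t.1) 240 = true then [t] else [t, (tg r t.1, t.2)]

def okx (r : ℕ) (l : List (ℕ × ℕ × ℕ)) : Bool := l.all fun t => Nat.ble (t.1 + 1) 240 && !(Nat.beq t.1 (239 - r))

theorem xl_add (r : Fin chevE8.nroots) (c : KK) (u v : LK) : xl r c (u + v) = xl r c u + xl r c v := by
  unfold xl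
  rw [bar, smul_add, Pi.add_apply, mul_add, add_smul]
  abel

theorem xl_smul (r : Fin chevE8.nroots) (c a : KK) (v : LK) : xl r c (a • v) = a • xl r c v := by
  unfold xl
  rw [bsr, Pi.smul_apply, smul_eq_mul, smul_add, smul_add, smul_comm c a,
    show c ^ (2:ℕ) * (a * v (Sum.inr r.rev)) = a * (c ^ (2:ℕ) * v (Sum.inr r.rev)) by ring, mul_smul]

theorem xl_zero (r : Fin chevE8.nroots) (c : KK) : xl r c 0 = 0 := by
  have h := xl_smul r c 0 0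
  rwa [zero_smul, zero_smul] at h

theorem xl_er {r : ℕ} (hr : r < chevE8.nroots) {s : ℕ} (hs : s < 240) (hn : s ≠ 239 - r) :
    xl ⟨r, hr⟩ 1 (er s) = er s + er (tg r s) := by
  have hr' : r < 240 := by rw [← nr]; exact hr
  unfold xl
  have h1 : (er s) (Sum.inr (Fin.rev ⟨r, hr⟩)) = 0 := by
    have hs' : s < chevE8.nroots := by rw [nr]; exact hs
    rw [er_of hs']
    refine Pi.single_eq_of_ne ?_ _
    intro h2
    have h3 := congrArg Fin.val (Sum.inr.inj h2)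
    rw [Fin.val_rev] at h3
    have h4 := nr
    have h5 : chevE8.nroots - ((⟨r, hr⟩ : Fin chevE8.nroots) + 1) = s := h3
    have h6 : (((⟨r, hr⟩ : Fin chevE8.nroots)) : ℕ) = r := rfl
    rw [h6, h4] at h5
    omega
  rw [h1, mul_zero, zero_smul, add_zero, one_smul]
  show er s + brK (er r) (er s) = _
  rw [br_rr hr' hs hn]

theorem ev_xl (nu : ℕ → KK) {r : ℕ} (hr : r < chevE8.nroots) {l : List (ℕ × ℕ × ℕ)} (hl : okx r l = true) :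
    xl ⟨r, hr⟩ 1 (ev nu l) = ev nu (xll r l) := by
  induction l with
  | nil => exact xl_zero _ _
  | cons t l ih =>
    unfold okx at hl
    rw [List.all_cons, Bool.and_eq_true, Bool.and_eq_true] at hl
    have h1 : t.1 < 240 := Nat.le_of_ble_eq_true hl.1.1
    have h2 : t.1 ≠ 239 - r := by
      intro h
      have h3 := hl.1.2
      rw [h, Nat.beq_refl] at h3
      exact absurd h3 (by decide)
    rw [ev_cons, xl_add, ih hl.2]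
    have h4 : xll r (t :: l) = (if Nat.beq (tg r t.1) 240 = true then [t] else [t, (tg r t.1, t.2)]) ++ xll r l := by
      unfold xll
      rw [List.flatMap_cons]
    rw [h4, ev_append]
    congr 1
    have h5 : xl ⟨r, hr⟩ 1 (tv nu t) = tv nu t + nu t.2.1 ^ t.2.2 • er (tg r t.1) := by
      unfold tv
      rw [xl_smul, xl_er hr h1 h2, smul_add]
    rw [h5]
    by_cases h6 : Nat.beq (tg r t.1) 240 = true
    · rw [if_pos h6, Nat.eq_of_beq_eq_true h6, er_ge le_rfl, smul_zero, add_zero, ev_cons, ev_nil, add_zero]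
    · rw [if_neg h6, ev_cons, ev_cons, ev_nil, add_zero]
      rfl

/-- the list of `iz v` -/
def izl (l : List (ℕ × ℕ × ℕ)) : List (ℕ × ℕ × ℕ) :=
  nrm (xll 121 (nrm (xll 126 (nrm (xll 141 (nrm (xll 135 l)))))))

def okz (l : List (ℕ × ℕ × ℕ)) : Bool :=
  okx 135 l && okx 141 (nrm (xll 135 l)) && okx 126 (nrm (xll 141 (nrm (xll 135 l)))) &&
    okx 121 (nrm (xll 126 (nrm (xll 141 (nrm (xll 135 l))))))

theorem ev_iz (nu : ℕ → KK) {l : List (ℕ × ℕ × ℕ)} (hl : okz l = true) : iz (ev nu l) = ev nu (izl l) := by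
  unfold okz at hl
  rw [Bool.and_eq_true, Bool.and_eq_true, Bool.and_eq_true] at hl
  obtain ⟨⟨⟨h1, h2⟩, h3⟩, h4⟩ := hl
  unfold iz izl
  rw [ev_xl nu _ h1, ← ev_nrm nu (xll 135 l), ev_xl nu _ h2, ← ev_nrm nu (xll 141 _), ev_xl nu _ h3,
    ← ev_nrm nu (xll 126 _), ev_xl nu _ h4, ← ev_nrm nu (xll 121 _)]

/-- the list of `t0 v` -/
def Tl (l : List (ℕ × ℕ × ℕ)) : List (ℕ × ℕ × ℕ) := izl (tl l)

theorem ev_T {Fp : LK → LK} {ta : LK →ₗ[KK] LK} (h : Ops Fp ta) (nu : ℕ → KK) {l : List (ℕ × ℕ × ℕ)}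
    (hl : ok l = true) (hz : okz (tl l) = true) : iz (ta (ev nu l)) = ev nu (Tl l) := by
  rw [ev_ta h nu hl, ev_iz nu hz]
  rfl

/-! ### packed coordinates of the roots -/

/-- the packed coordinates of the 240 roots, 48 bits each -/
def KEYS : ℕ := 0x28b30d38c2ca24b30d38c2ca24a30d38c2ca24a2cd38c2ca24a2cc38c2ca24a2cc34c2ca24a2cc34b2ca24a2cc34c28a24a2cc34b28a24a2cc30b28a24a2cb30b28a24a28b30b28a24928b30b28a20928b30b28a24a2cc34b2c924a2cc34b28924a2cc30b28924a2cb30b28924a28b30b28924928b30b28920928b30b28924a2cc30a28924a2cb30a28924a28b30a28924928b30a28920928b30a28924a2cb2ca28924a28b2ca28924928b2ca28920928b2ca28924a28a2ca28924928a2ca28920928a2ca28924924a2ca28920924a2ca28920824a2ca28924a2cb2ca24924a28b2ca24924928b2ca24920928b2ca24924a28a2ca24924928a2ca24920928a2ca24924924a2ca24920924a2ca24920824a2ca24924a28a28a24924928a28a24920928a28a2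4924924a28a24920924a28a24920824a28a24924924928a24920924928a24920824928a24920820928a24924a28a28924924928a28924920928a28924924924a28924920924a28924920824a28924924924928924920924928924920824928924920820928924924924924924920924924924920824924924920820924924920820824924924924924920920924924920920824924920920820924920920820824920920820820920920820820820924a28a28924824928a28924820928a28924824924a28924820924a28924820824a2892482492492892482092492892482082492892482082092892482492492492482092492492482082492492482082092492482082082492482492492482482092492482482082492482482082092482482082082482482082082082482492492492082092492492082082492492082082092492082082082492082082082092082492492482082092492482082082492482082082092482082082082482082492492082082092492082082082492082082082092082082492482082082092482082082082482082082492082082082092082082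082482082082081c82082082082072082082081c72082082082081c82082082071c82082081c71c82082082082072082082081c72082082071c72082081c71c72082082082081c82082082071c82082081c71c82082071c71c82081c71c71c82082082082072082082081c72082082071c72082081c71c72082071c71c72081c71c71c72082082082081c82082081c81c82082071c81c82081c71c81c82071c71c81c81c71c71c81c82082081c71c82082071c71c82081c71c71c82071c71c71c81c71c71c71c82082071871c82081c71871c82071c71871c81c71c71871c82081c61871c82071c61871c81c71c61871c82071861871c81c71861871c81c61861871c82082082082072082082072072082081c72072082071c72072081c71c72072071c71c72071c71c71c72072082081c71c72082071c71c72081c71c71c72071c71c71c71c71c71c71c72082071871c72081c71871c72071c71871c71c71c71871c72081c61871c72071c61871c71c71c61871c72071861871c71c71861871c71c61861871c72082071861c72081c71861c72071c71861c71c71c71861c72081c61861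c72071c61861c71c71c61861c72071861861c71c71861861c71c61861861c72081c61461c72071c61461c71c71c61461c72071861461c71c71861461c71c61861461c72071851461c71c71851461c71c61851461c71c61451461c72081c61461872071c61461871c71c61461872071861461871c71861461871c61861461872071851461871c71851461871c61851461871c61451461872071851061871c71851061871c61851061871c61451061871c61441061872071851051871c71851051871c61851051871c61451051871c61441051871c61440c51871c61440c51472071851051861c71851051861c61851051861c61451051861c61441051861c61440c51861c61440c41861c61440c51461c61440c41461c61440841461c61430841461c61030841461c5103084146185103084146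

def ky (s : ℕ) : ℕ := (KEYS >>> (48 * s)) % 281474976710656

/-- the packed zero vector -/
def K0 : ℕ := 35742854185480

private noncomputable def alK {β : Type} (f : β → Bool) (l : List β) : Bool :=
  List.rec true (fun a _ ih => Bool.rec false ih (f a)) l

private theorem alK_eq {β : Type} (f : β → Bool) (l : List β) : alK f l = l.all f := by
  induction l with
  | nil => rfl
  | cons a l ih =>
    show Bool.rec false (alK f l) (f a) = (f a && l.all f)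
    rw [ih]
    cases f a <;> rfl

private noncomputable def hdK (l : List (ℕ × ℤ)) : ℕ := List.rec 240 (fun a _ _ => a.1) l

private theorem hdK_eq (a : Array (ℕ × ℤ)) : hdK a.toList = (a.getD 0 (240, 0)).1 := by
  obtain ⟨_ | _⟩ := a <;> rfl

private noncomputable def _root_.Cfsg.Agent.KOa0eda52.k44 : type_of% @List.range.loop := @(fun x0 x1 => @Nat.rec.{1} @(fun x2 => (@List.{0} ℕ) → @List.{0} ℕ) @(fun x2 => @x2) @(fun x2 x3 x4 => @x3 (@x2 :: @x4)) @x0 @x1)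
private theorem _root_.Cfsg.Agent.KOa0eda52.e44 : @List.range.loop = @_root_.Cfsg.Agent.KOa0eda52.k44 := by delta _root_.Cfsg.Agent.KOa0eda52.k44; funext a0 a1; refine (congrFun (_root_.Cfsg.Agent.KOa0eda52.e6 (fun a0 a1 => @List.range.loop a0 a1) ?_ (fun c0 => ?_) a0) a1 :) <;> (rfl')
private noncomputable def _root_.Cfsg.Agent.KOa0eda52.k45 : type_of% @List.range := @(fun x0 => @Cfsg.Agent.KOa0eda52.k44 @x0 [])
private theorem _root_.Cfsg.Agent.KOa0eda52.e45 : @List.range = @_root_.Cfsg.Agent.KOa0eda52.k45 := by delta _root_.Cfsg.Agent.KOa0eda52.k45; rewrite [← Cfsg.Agent.KOa0eda52.e44]; rfl'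
private noncomputable def _root_.Cfsg.Agent.KOa0eda52.k67 : (by first | exact type_of% @Cfsg.Agent.H834.L16.ky | exact Unit : Sort _) := by first | (refine @Subtype.val _ (fun g => @Cfsg.Agent.H834.L16.ky = @g) (@Subtype.mk _ _ (@(fun x0 => @Nat.mod (@Nat.shiftRight @Cfsg.Agent.H834.L16.KEYS (@Nat.mul (nat_lit 48) @x0)) (nat_lit 281474976710656))) ?_); (try delta Cfsg.Agent.H834.L16.ky); (try generalize @Cfsg.Agent.H834.L16.KEYS = g0); rfl') | exact @Cfsg.Agent.H834.L16.ky | exact ()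
private theorem _root_.Cfsg.Agent.KOa0eda52.e67 : (by first | exact @Cfsg.Agent.H834.L16.ky = @_root_.Cfsg.Agent.KOa0eda52.k67 | exact True : Prop) := by first | (delta _root_.Cfsg.Agent.KOa0eda52.k67; exact @Subtype.property _ (fun g => @Cfsg.Agent.H834.L16.ky = @g) _) | rfl | trivial
private noncomputable def _root_.Cfsg.Agent.KOa0eda52.k68 : (by first | exact type_of% @Cfsg.Agent.H834.L16.hdK | exact Unit : Sort _) := by first | (refine @Subtype.val _ (fun g => @Cfsg.Agent.H834.L16.hdK = @g) (@Subtype.mk _ _ (@(fun x0 => @List.rec.{1, 0} (ℕ × ℤ) @(fun x1 => ℕ) (nat_lit 240) @(fun x1 x2 x3 => @Prod.fst.{0, 0} _ _ @x1) @x0)) ?_); rfl') | exact @Cfsg.Agent.H834.L16.hdK | exact ()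
private theorem _root_.Cfsg.Agent.KOa0eda52.e68 : (by first | exact @Cfsg.Agent.H834.L16.hdK = @_root_.Cfsg.Agent.KOa0eda52.k68 | exact True : Prop) := by first | (delta _root_.Cfsg.Agent.KOa0eda52.k68; exact @Subtype.property _ (fun g => @Cfsg.Agent.H834.L16.hdK = @g) _) | rfl | trivial

theorem ky_ok : ((List.range 240).all fun r => (Cfsg.Agent.H413.L16.row r).all fun e =>
    Nat.beq (ky r + ky e.1) (ky (e.2.getD 0 (240, 0)).1 + K0)) = true := by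
  have h : ((List.range 240).all fun r => alK (fun e =>
      Nat.beq (Nat.add (ky r) (ky e.1)) (Nat.add (ky (hdK e.2.toList)) K0)) (Cfsg.Agent.H413.L16.row r)) = true := by
    (first | (rewrite [Cfsg.Agent.KOa0eda52.e5.{0}, Cfsg.Agent.KOa0eda52.e45, Cfsg.Agent.KOa0eda52.e67, Cfsg.Agent.KOa0eda52.e68, Cfsg.Agent.KOa0eda52.e27]; decide +kernel) | decide +kernel)
  simp only [alK_eq, hdK_eq] at h
  exact h

theorem tg_key {r s : ℕ} (hr : r < 240) (h : tg r s < 240) : ky r + ky s = ky (tg r s) + K0 := by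
  have h1 := List.all_eq_true.1 ky_ok r (List.mem_range.2 hr)
  unfold tg at h ⊢
  cases hf : (Cfsg.Agent.H413.L16.row r).find? (fun e => e.1 == s) with
  | none =>
    rw [hf] at h
    exact absurd h (by simp only [_root_.Array.getD_eq_getD_getElem?, _root_.Option.elim_none, _root_.lt_self_iff_false, _root_.not_false_eq_true])
  | some e =>
    have he := List.mem_of_find?_eq_some hf
    have hes : e.1 = s := by simpa using List.find?_some hf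
    have h2 := Nat.eq_of_beq_eq_true (List.all_eq_true.1 h1 e he)
    rw [hes] at h2
    exact h2

/-! ### the coordinates of a bracket -/

/-- `nu a ^ e * nu b ^ f` -/
noncomputable def qt (nu : ℕ → KK) (q : (ℕ × ℕ) × (ℕ × ℕ)) : KK := nu q.1.1 ^ q.1.2 * nu q.2.1 ^ q.2.2

noncomputable def qv (nu : ℕ → KK) (q : List ((ℕ × ℕ) × (ℕ × ℕ))) : KK := (q.map (qt nu)).sum

theorem qv_nrm (nu : ℕ → KK) (l : List ((ℕ × ℕ) × (ℕ × ℕ))) : qv nu (nrm l) = qv nu l := sum_nrm kk2 _ l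

theorem qv_append (nu : ℕ → KK) (l l' : List ((ℕ × ℕ) × (ℕ × ℕ))) : qv nu (l ++ l') = qv nu l + qv nu l' := by
  unfold qv; rw [List.map_append, List.sum_append]

/-- the ordered pair -/
def srt (a b : ℕ × ℕ) : (ℕ × ℕ) × (ℕ × ℕ) := if Nat.ble (a.1 * 1000 + a.2) (b.1 * 1000 + b.2) = true then (a, b) else (b, a)

theorem qt_srt (nu : ℕ → KK) (a b : ℕ × ℕ) : qt nu (srt a b) = nu a.1 ^ a.2 * nu b.1 ^ b.2 := by
  unfold srt qt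
  split_ifs
  · rfl
  · exact mul_comm _ _

/-- the coordinate at the root `c` -/
def bl (c : ℕ) (l l' : List (ℕ × ℕ × ℕ)) : List ((ℕ × ℕ) × (ℕ × ℕ)) :=
  l.flatMap fun t => (l'.filter fun t' => Nat.beq (ky t.1 + ky t'.1) (ky c + K0) && Nat.beq (tg t.1 t'.1) c).map
    fun t' => srt t.2 t'.2

theorem er_inr {s c : ℕ} (hc : c < chevE8.nroots) : (er s) (Sum.inr ⟨c, hc⟩) = if s = c then 1 else 0 := by
  by_cases hs : s < chevE8.nroots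
  · rw [er_of hs]
    by_cases h : s = c
    · subst h
      rw [if_pos rfl, Pi.single_eq_same]
    · rw [if_neg h]
      exact Pi.single_eq_of_ne (fun h1 => h (congrArg Fin.val (Sum.inr.inj h1)).symm) _
  · rw [if_neg (by omega), er_ge (by rw [← nr]; omega)]
    rfl

theorem br_inr {r s c : ℕ} (hr : r < 240) (hs : s < 240) (hc : c < chevE8.nroots) :
    brK (er r) (er s) (Sum.inr ⟨c, hc⟩) = if tg r s = c then 1 else 0 := by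
  have hc' : c < 240 := by rw [← nr]; exact hc
  by_cases hn : s = 239 - r
  · have h1 : tg r s ≠ c := by
      intro h
      exact ((chain_mod (s := s) (u := 0) hr).2.1 (by omega)).2.1 hn
    rw [if_neg h1, hn, br_neg hr]
    rfl
  · rw [br_rr hr hs hn, er_inr]

theorem cf_br (nu : ℕ → KK) {c : ℕ} (hc : c < chevE8.nroots) {l l' : List (ℕ × ℕ × ℕ)} (hl : ok l = true)
    (hl' : ok l' = true) : brK (ev nu l) (ev nu l') (Sum.inr ⟨c, hc⟩) = qv nu (bl c l l') := by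
  have key : ∀ (t : ℕ × ℕ × ℕ) (l' : List (ℕ × ℕ × ℕ)), t.1 < 240 → ok l' = true →
      brK (tv nu t) (ev nu l') (Sum.inr ⟨c, hc⟩) =
        qv nu ((l'.filter fun t' => Nat.beq (ky t.1 + ky t'.1) (ky c + K0) && Nat.beq (tg t.1 t'.1) c).map
          fun t' => srt t.2 t'.2) := by
    intro t l' ht hl'
    induction l' with
    | nil =>
      rw [ev_nil, b0r]
      rfl
    | cons u l' ih =>
      obtain ⟨h1, h2⟩ := ok_cons hl'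
      rw [ev_cons, bar, Pi.add_apply, ih h2]
      have h3 : brK (tv nu t) (tv nu u) (Sum.inr ⟨c, hc⟩) = if tg t.1 u.1 = c then qt nu (srt t.2 u.2) else 0 := by
        unfold tv
        rw [bsl, bsr, Pi.smul_apply, Pi.smul_apply, br_inr ht h1,
          qt_srt]
        split_ifs
        · rw [smul_eq_mul, smul_eq_mul, mul_one]
        · rw [smul_zero, smul_zero]
      rw [h3]
      by_cases h4 : tg t.1 u.1 = c
      · have h5 := tg_key ht (s := u.1) (by rw [h4, ← nr]; exact hc)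
        rw [h4] at h5
        rw [if_pos h4, List.filter_cons_of_pos (by rw [h4, h5, Nat.beq_refl, Nat.beq_refl]; rfl), List.map_cons]
        unfold qv
        rw [List.map_cons, List.sum_cons]
      · rw [if_neg h4, zero_add, List.filter_cons_of_neg (by
          intro h5
          rw [Bool.and_eq_true] at h5
          exact h4 (Nat.eq_of_beq_eq_true h5.2))]
  induction l with
  | nil =>
    rw [ev_nil, b0l]
    rfl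
  | cons t l ih =>
    obtain ⟨h1, h2⟩ := ok_cons hl
    rw [ev_cons, bal, Pi.add_apply, ih h2, key t l' h1 hl']
    have h4 : bl c (t :: l) l' = ((l'.filter fun t' => Nat.beq (ky t.1 + ky t'.1) (ky c + K0) &&
        Nat.beq (tg t.1 t'.1) c).map fun t' => srt t.2 t'.2) ++ bl c l l' := by
      unfold bl
      rw [List.flatMap_cons]
    rw [h4, qv_append]

end Cfsg.Agent.H834.L16
end

-- part: H834/L16/N012
section
/-!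
# S5916: the elimination `ElimN012` (helper834)
-/

set_option autoImplicit false
set_option maxRecDepth 100000
set_option linter.unusedSimpArgs false

namespace Cfsg.Agent.H834.L16

open Cfsg Cfsg.Lie
open Cfsg.Agent.H939.L64 (KK LK brK)
open Cfsg.Agent.H413.L16 (er nr)
open Cfsg.Agent.H939.L16 (Ops iz)
open Cfsg.Agent.H955.L16

/-! ### the vectors -/

/-- the list of `vR` with the variables number `i` -/
def Rl (i : ℕ) : List (ℕ × ℕ × ℕ) := [(128, i, 1), (127, 3 + i, 1), (131, 3 + i, 1), (136, 6 + i, 1), (163, 6 + i, 1),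
  (147, 9 + i, 1), (137, 12 + i, 1), (143, 15 + i, 1), (148, 18 + i, 1)]

/-- the list of `vN` -/
def Nl : List (ℕ × ℕ × ℕ) := [(157, 21, 1), (172, 22, 1), (2, 23, 1), (154, 23, 1), (129, 24, 1), (156, 24, 1), (2, 25, 1),
  (167, 25, 1)]

theorem ev_Rl (nu : ℕ → KK) (i : ℕ) :
    ev nu (Rl i) = vR (nu i) (nu (3 + i)) (nu (6 + i)) (nu (9 + i)) (nu (12 + i)) (nu (15 + i)) (nu (18 + i)) := by
  unfold ev Rl vR
  simp only [List.map_cons, List.map_nil, List.sum_cons, List.sum_nil, tv, pow_one, smul_add]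
  abel

theorem ev_Nl (nu : ℕ → KK) : ev nu Nl = vN (nu 21) (nu 22) (nu 23) (nu 24) (nu 25) := by
  unfold ev Nl vN
  simp only [List.map_cons, List.map_nil, List.sum_cons, List.sum_nil, tv, pow_one, smul_add]
  abel

/-- the eight vectors -/
def S : Bool → Bool → Bool → List (ℕ × ℕ × ℕ)
  | true, true, true => [(75, 0, 2), (74, 3, 2), (75, 3, 2), (100, 3, 2), (101, 3, 2), (106, 3, 2), (107, 3, 2), (90, 6,
    2), (101, 6, 2), (95, 6, 2), (107, 6, 2), (119, 6, 2), (95, 9, 2), (107, 9, 2), (101, 12, 2), (107, 12, 2), (106,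
    15, 2), (107, 15, 2), (107, 18, 2)]
  | true, true, false => [(57, 21, 8), (223, 22, 8), (25, 23, 8), (56, 23, 8), (57, 23, 8), (228, 24, 8), (47, 24, 8),
    (57, 24, 8), (25, 25, 8), (222, 25, 8), (223, 25, 8)]
  | true, false, true => [(151, 1, 4), (140, 4, 4), (185, 4, 4), (178, 7, 4), (4, 7, 4), (179, 10, 4), (188, 13, 4),
    (186, 16, 4), (189, 19, 4)]
  | true, false, false => [(116, 2, 1), (115, 5, 1), (116, 5, 1), (92, 5, 1), (103, 5, 1), (97, 5, 1), (109, 5, 1), (96,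
    8, 1), (97, 8, 1), (108, 8, 1), (109, 8, 1), (77, 8, 1), (108, 11, 1), (109, 11, 1), (97, 14, 1), (109, 14, 1),
    (103, 17, 1), (109, 17, 1), (109, 20, 1)]
  | false, true, true => [(128, 2, 1), (127, 5, 1), (131, 5, 1), (136, 8, 1), (163, 8, 1), (147, 11, 1), (137, 14, 1),
    (143, 17, 1), (148, 20, 1)]
  | false, true, false => [(105, 1, 4), (93, 4, 4), (105, 4, 4), (60, 4, 4), (61, 4, 4), (63, 4, 4), (64, 4, 4), (53, 7,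
    4), (54, 7, 4), (63, 7, 4), (64, 7, 4), (236, 7, 4), (54, 10, 4), (64, 10, 4), (63, 13, 4), (64, 13, 4), (61, 16,
    4), (64, 16, 4), (64, 19, 4)]
  | false, false, true => [(193, 21, 8), (22, 22, 8), (219, 23, 8), (192, 23, 8), (12, 24, 8), (183, 24, 8), (219, 25,
    8), (21, 25, 8)]
  | false, false, false => [(170, 0, 2), (169, 3, 2), (144, 3, 2), (133, 6, 2), (122, 6, 2), (139, 9, 2), (145, 12, 2),
    (149, 15, 2), (150, 18, 2)]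

private noncomputable def _root_.Cfsg.Agent.KOa0eda52.k66 : type_of% @instDecidableEqNat := @Cfsg.Agent.KOa0eda52.k31
private theorem _root_.Cfsg.Agent.KOa0eda52.e66 : @instDecidableEqNat = @_root_.Cfsg.Agent.KOa0eda52.k66 := by delta _root_.Cfsg.Agent.KOa0eda52.k66; rewrite [← Cfsg.Agent.KOa0eda52.e31]; rfl'
private noncomputable def _root_.Cfsg.Agent.KOa0eda52.k69 : type_of% @Bool.instDecidableForallOfDecidablePred := @(fun x0 x1 => @Decidable.rec.{1} _ @(fun x2 => @Decidable ((x3 : @Bool) → @x0 @x3)) @(fun x2 => @Decidable.isFalse _ (@Bool.instDecidableForallOfDecidablePred._proof_1 @x0 @x2)) @(fun x2 => @Decidable.rec.{1} _ @(fun x3 => @Decidable ((x4 : @Bool) → @x0 @x4)) @(fun x3 => @Decidable.isFalse _ (@Bool.instDecidableForallOfDecidablePred._proof_2 @x0 @x3)) @(fun x3 => @Decidable.isTrue _ (@Bool.instDecidableForallOfDecidablePred._proof_3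 @x0 @x2 @x3)) (@x1 @Bool.false)) (@x1 @Bool.true))
private theorem _root_.Cfsg.Agent.KOa0eda52.e69 : @Bool.instDecidableForallOfDecidablePred = @_root_.Cfsg.Agent.KOa0eda52.k69 := by delta _root_.Cfsg.Agent.KOa0eda52.k69; rfl'
private noncomputable def _root_.Cfsg.Agent.KOa0eda52.k70 : (by first | exact type_of% @Cfsg.Agent.H834.L16.ok | exact Unit : Sort _) := by first | (refine @Subtype.val _ (fun g => @Cfsg.Agent.H834.L16.ok = @g) (@Subtype.mk _ _ (@(fun x0 => @Cfsg.Agent.KOa0eda52.k5.{0} _ @x0 @(fun x1 => @Nat.ble (@Nat.add (@Prod.fst.{0, 0} _ _ @x1) (nat_lit 1)) (nat_lit 240)))) ?_); rewrite [← Cfsg.Agent.KOa0eda52.e5.{0}]; rfl') | exact @Cfsg.Agent.H834.L16.ok | exact ()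
private theorem _root_.Cfsg.Agent.KOa0eda52.e70 : (by first | exact @Cfsg.Agent.H834.L16.ok = @_root_.Cfsg.Agent.KOa0eda52.k70 | exact True : Prop) := by first | (delta _root_.Cfsg.Agent.KOa0eda52.k70; exact @Subtype.property _ (fun g => @Cfsg.Agent.H834.L16.ok = @g) _) | rfl | trivial
private noncomputable def _root_.Cfsg.Agent.KOa0eda52.k71 : (by first | exact type_of% @Cfsg.Agent.H834.L16.okx | exact Unit : Sort _) := by first | (refine @Subtype.val _ (fun g => @Cfsg.Agent.H834.L16.okx = @g) (@Subtype.mk _ _ (@(fun x0 x1 => @Cfsg.Agent.KOa0eda52.k5.{0} _ @x1 @(fun x2 => @Bool.rec.{1} @(fun x3 => @Bool) @Bool.false (@Bool.rec.{1} @(fun x3 => @Bool) @Bool.true @Bool.false (@Nat.beq (@Prod.fst.{0, 0} _ _ @x2) (@Nat.sub (nat_lit 239) @x0))) (@Nat.ble (@Nat.add (@Prod.fst.{0, 0} _ _ @x2) (nat_lit 1)) (nat_lit 240))))) ?_); rewrite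 [← Cfsg.Agent.KOa0eda52.e5.{0}]; rfl') | exact @Cfsg.Agent.H834.L16.okx | exact ()
private theorem _root_.Cfsg.Agent.KOa0eda52.e71 : (by first | exact @Cfsg.Agent.H834.L16.okx = @_root_.Cfsg.Agent.KOa0eda52.k71 | exact True : Prop) := by first | (delta _root_.Cfsg.Agent.KOa0eda52.k71; exact @Subtype.property _ (fun g => @Cfsg.Agent.H834.L16.okx = @g) _) | rfl | trivial
private noncomputable def _root_.Cfsg.Agent.KOa0eda52.k72.{ku0} : type_of% @List.erase.{ku0} := @(fun x0 x1 x2 x3 => @List.rec.{(ku0+1), ku0} @x0 @(fun x4 => @x0 → @List.{ku0} @x0) @(fun x4 => []) @(fun x4 x5 x6 x7 => @Bool.rec.{(ku0+1)} @(fun x8 => @List.{ku0} @x0) (@x4 :: (@x6 @x7)) @x5 (@BEq.beq.{ku0} _ @x1 @x4 @x7)) @x2 @x3)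
private theorem _root_.Cfsg.Agent.KOa0eda52.e72.{ku0} : @List.erase.{ku0} = @_root_.Cfsg.Agent.KOa0eda52.k72.{ku0} := by delta _root_.Cfsg.Agent.KOa0eda52.k72; funext a0 a1 a2 a3; refine (congrFun (_root_.Cfsg.Agent.KOa0eda52.e4 (fun a2 a3 => @List.erase.{ku0} a0 a1 a2 a3) ?_ (fun c0 c1 => ?_) a2) a3 :) <;> (rfl')
private noncomputable def _root_.Cfsg.Agent.KOa0eda52.k74 : (by first | exact type_of% @Cfsg.Agent.H834.L16.ins | exact Unit : Sort _) := by first | (refine @Subtype.val _ (fun g => @Cfsg.Agent.H834.L16.ins = @g) (@Subtype.mk _ _ (@(fun x0 x1 x2 x3 => @Decidable.rec.{1} _ @(fun x4 => @List.{0} @x0) @(fun x4 => @x2 :: @x3) @(fun x4 => @Cfsg.Agent.KOa0eda52.k72.{0} _ (@BEq.mk.{0} _ @(fun x5 x6 => @Decidable.rec.{1} _ @(fun x7 => @Bool) @(fun x7 => @Bool.false) @(fun x7 => @Bool.true) (@x1 @x5 @x6))) @x3 @x2) (@Decidable.rec.{1}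 _ @(fun x4 => @Decidable (@Membership.mem.{0, 0} _ _ _ @x3 @x2)) @(fun x4 => @Decidable.isFalse _ (@decidable_of_decidable_of_iff._proof_1 _ _ (@List.instDecidableMemOfLawfulBEq._proof_1.{0} _ _ _ @x2 @x3) @x4)) @(fun x4 => @Decidable.isTrue _ (@Iff.mp _ _ (@List.instDecidableMemOfLawfulBEq._proof_1.{0} _ _ _ @x2 @x3) @x4)) (@Cfsg.Agent.KOa0eda52.k2 (@List.elem.{0} _ (@BEq.mk.{0} _ @(fun x4 x5 => @Decidable.rec.{1} _ @(fun x6 => @Bool) @(fun x6 => @Bool.false) @(fun x6 => @Bool.true) (@x1 @x4 @x5))) @x2 @x3) @Bool.true)))) ?_); rewrite [← Cfsg.Agent.KOa0eda52.e2, ← Cfsg.Agent.KOa0eda52.e72.{0}]; rfl') | exact @Cfsg.Agent.H834.L16.ins | exact ()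
private theorem _root_.Cfsg.Agent.KOa0eda52.e74 : (by first | exact @Cfsg.Agent.H834.L16.ins = @_root_.Cfsg.Agent.KOa0eda52.k74 | exact True : Prop) := by first | (delta _root_.Cfsg.Agent.KOa0eda52.k74; exact @Subtype.property _ (fun g => @Cfsg.Agent.H834.L16.ins = @g) _) | rfl | trivial
private noncomputable def _root_.Cfsg.Agent.KOa0eda52.k75 : (by first | exact type_of% @Cfsg.Agent.H834.L16.nrm | exact Unit : Sort _) := by first | (refine @Subtype.val _ (fun g => @Cfsg.Agent.H834.L16.nrm = @g) (@Subtype.mk _ _ (@(fun x0 x1 x2 => @Cfsg.Agent.KOa0eda52.k39.{0, 0} _ _ (@Cfsg.Agent.KOa0eda52.k74 _ @x1) [] @x2)) ?_); rewrite [← Cfsg.Agent.KOa0eda52.e74, ← Cfsg.Agent.KOa0eda52.e39.{0, 0}]; (try delta Cfsg.Agent.H834.L16.nrm); (try generalize @Cfsg.Agent.H834.L16.ins = g0); rfl') | exact @Cfsg.Agent.H834.L16.nrm | exact ()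
private theorem _root_.Cfsg.Agent.KOa0eda52.e75 : (by first | exact @Cfsg.Agent.H834.L16.nrm = @_root_.Cfsg.Agent.KOa0eda52.k75 | exact True : Prop) := by first | (delta _root_.Cfsg.Agent.KOa0eda52.k75; exact @Subtype.property _ (fun g => @Cfsg.Agent.H834.L16.nrm = @g) _) | rfl | trivial
private noncomputable def _root_.Cfsg.Agent.KOa0eda52.k76.{ku0, ku1} : type_of% @instDecidableEqProd.{ku0, ku1} := @(fun x0 x1 x2 x3 x4 x5 => @Prod.rec.{1, ku0, ku1} @x0 @x1 @(fun x6 => @Decidable (@Eq.{(max (ku1+1) (ku0+1))} _ @x6 @x5)) @(fun x6 x7 => @Prod.rec.{1, ku0, ku1} @x0 @x1 @(fun x8 => @Decidable (@Eq.{(max (ku1+1) (ku0+1))} _ ((@x6, @x7)) @x8)) @(fun x8 x9 => @Decidable.rec.{1} _ @(fun x10 => @Decidable (@Eq.{(max (ku1+1) (ku0+1))} _ ((@x6, @x7)) ((@x8, @x9)))) @(fun x10 => @Decidable.isFalse _ (@instDecidableEqProd._proof_3.{ku1, ku0}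 _ _ @x6 @x7 @x8 @x9 @x10)) @(fun x10 => @Decidable.rec.{1} _ @(fun x11 => @Decidable (@Eq.{(max (ku1+1) (ku0+1))} _ ((@x6, @x7)) ((@x8, @x9)))) @(fun x11 => @Decidable.isFalse _ (@instDecidableEqProd._proof_2.{ku1, ku0} _ _ @x6 @x7 @x8 @x9 @x11)) @(fun x11 => @Decidable.isTrue _ (@instDecidableEqProd._proof_1.{ku1, ku0} _ _ @x6 @x7 @x8 @x9 @x10 @x11)) (@x3 @x7 @x9)) (@x2 @x6 @x8)) @x5) @x4)
private theorem _root_.Cfsg.Agent.KOa0eda52.e76.{ku0, ku1} : @instDecidableEqProd.{ku0, ku1} = @_root_.Cfsg.Agent.KOa0eda52.k76.{ku0, ku1} := by delta _root_.Cfsg.Agent.KOa0eda52.k76; rfl'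
private noncomputable def _root_.Cfsg.Agent.KOa0eda52.oB.{ku} (α : Sort ku) (c : Bool) (f t : α) : α := @Decidable.rec (c = true) (fun _ => α) (fun _ => f) (fun _ => t) (instDecidableEqBool c true)
private noncomputable def _root_.Cfsg.Agent.KOa0eda52.k77.{ku} (α : Sort ku) (c : Bool) (f t : α) : α := @Bool.rec (fun _ => α) f t c
private theorem _root_.Cfsg.Agent.KOa0eda52.e77.{ku} : @_root_.Cfsg.Agent.KOa0eda52.oB.{ku} = @_root_.Cfsg.Agent.KOa0eda52.k77.{ku} := funext fun α => funext fun c => funext fun f => funext fun t => by cases c <;> rfl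
private noncomputable def _root_.Cfsg.Agent.KOa0eda52.k78.{ku0} : type_of% @List.flatten.{ku0} := @(fun x0 x1 => @List.rec.{(ku0+1), ku0} (@List.{ku0} @x0) @(fun x2 => @List.{ku0} @x0) [] @(fun x2 x3 x4 => @Cfsg.Agent.KOa0eda52.k19.{ku0} _ @x2 @x4) @x1)
private theorem _root_.Cfsg.Agent.KOa0eda52.e78.{ku0} : @List.flatten.{ku0} = @_root_.Cfsg.Agent.KOa0eda52.k78.{ku0} := by delta _root_.Cfsg.Agent.KOa0eda52.k78; rewrite [← Cfsg.Agent.KOa0eda52.e19.{ku0}]; funext a0 a1; refine (_root_.Cfsg.Agent.KOa0eda52.e4 (fun a1 => @List.flatten.{ku0} a0 a1) ?_ (fun c0 c1 => ?_) a1 :) <;> (rfl')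
private noncomputable def _root_.Cfsg.Agent.KOa0eda52.k79 : (by first | exact type_of% @Cfsg.Agent.H834.L16.xll | exact Unit : Sort _) := by first | (refine @Subtype.val _ (fun g => @Cfsg.Agent.H834.L16.xll = @g) (@Subtype.mk _ _ (@(fun x0 x1 => @Cfsg.Agent.KOa0eda52.k78.{0} _ (@Cfsg.Agent.KOa0eda52.k21.{0, 0} _ _ @(fun x2 => @Cfsg.Agent.KOa0eda52.k77.{1} (@List.{0} (ℕ × (ℕ × ℕ))) (@Nat.beq (@Cfsg.Agent.KOa0eda52.k28 @x0 (@Prod.fst.{0, 0} _ _ @x2)) (nat_lit 240)) (@x2 :: (((@Cfsg.Agent.KOa0eda52.k28 @x0 (@Prod.fst.{0, 0} _ _ @x2), @Prod.snd.{0, 0} _ _ @x2)) :: [])) (@x2 :: [])) @x1))) ?_); rewrite [← Cfsg.Agent.KOa0eda52.e28, ← Cfsg.Agent.KOa0eda52.e77.{1}, ← Cfsg.Agent.KOa0eda52.e21.{0, 0}, ← Cfsg.Agent.KOa0eda52.e78.{0}]; (try delta Cfsg.Agent.H834.L16.xll); (try generalize @Cfsg.Agent.H413.L16.tg = g0); rfl') | exact @Cfsg.Agent.H834.L16.xll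 | exact ()
private theorem _root_.Cfsg.Agent.KOa0eda52.e79 : (by first | exact @Cfsg.Agent.H834.L16.xll = @_root_.Cfsg.Agent.KOa0eda52.k79 | exact True : Prop) := by first | (delta _root_.Cfsg.Agent.KOa0eda52.k79; exact @Subtype.property _ (fun g => @Cfsg.Agent.H834.L16.xll = @g) _) | rfl | trivial
private noncomputable def _root_.Cfsg.Agent.KOa0eda52.k80 : (by first | exact type_of% @Cfsg.Agent.H834.L16.okz | exact Unit : Sort _) := by first | (refine @Subtype.val _ (fun g => @Cfsg.Agent.H834.L16.okz = @g) (@Subtype.mk _ _ (@(fun x0 => @Bool.rec.{1} @(fun x1 => @Bool) @Bool.false (@Cfsg.Agent.KOa0eda52.k71 (nat_lit 121) (@Cfsg.Agent.KOa0eda52.k75 _ @(fun x1 x2 => @Cfsg.Agent.KOa0eda52.k76.{0, 0} _ _ @Cfsg.Agent.KOa0eda52.k31 @(fun x3 x4 => @Cfsg.Agent.KOa0eda52.k76.{0, 0} _ _ @Cfsg.Agent.KOa0eda52.k31 @Cfsg.Agent.KOa0eda52.k31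 @x3 @x4) @x1 @x2) (@Cfsg.Agent.KOa0eda52.k79 (nat_lit 126) (@Cfsg.Agent.KOa0eda52.k75 _ @(fun x1 x2 => @Cfsg.Agent.KOa0eda52.k76.{0, 0} _ _ @Cfsg.Agent.KOa0eda52.k31 @(fun x3 x4 => @Cfsg.Agent.KOa0eda52.k76.{0, 0} _ _ @Cfsg.Agent.KOa0eda52.k31 @Cfsg.Agent.KOa0eda52.k31 @x3 @x4) @x1 @x2) (@Cfsg.Agent.KOa0eda52.k79 (nat_lit 141) (@Cfsg.Agent.KOa0eda52.k75 _ @(fun x1 x2 => @Cfsg.Agent.KOa0eda52.k76.{0, 0} _ _ @Cfsg.Agent.KOa0eda52.k31 @(fun x3 x4 => @Cfsg.Agent.KOa0eda52.k76.{0, 0} _ _ @Cfsg.Agent.KOa0eda52.k31 @Cfsg.Agent.KOa0eda52.k31 @x3 @x4) @x1 @x2) (@Cfsg.Agent.KOa0eda52.k79 (nat_lit 135) @x0))))))) (@Bool.rec.{1} @(fun x1 => @Bool) @Bool.false (@Cfsg.Agent.KOa0eda52.k71 (nat_lit 126) (@Cfsg.Agent.KOa0eda52.k75 _ @(fun x1 x2 => @Cfsg.Agent.KOa0eda52.k76.{0, 0} _ _ @Cfsg.Agent.KOa0eda52.k31 @(fun x3 x4 => @Cfsg.Agent.KOa0eda52.k76.{0,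 0} _ _ @Cfsg.Agent.KOa0eda52.k31 @Cfsg.Agent.KOa0eda52.k31 @x3 @x4) @x1 @x2) (@Cfsg.Agent.KOa0eda52.k79 (nat_lit 141) (@Cfsg.Agent.KOa0eda52.k75 _ @(fun x1 x2 => @Cfsg.Agent.KOa0eda52.k76.{0, 0} _ _ @Cfsg.Agent.KOa0eda52.k31 @(fun x3 x4 => @Cfsg.Agent.KOa0eda52.k76.{0, 0} _ _ @Cfsg.Agent.KOa0eda52.k31 @Cfsg.Agent.KOa0eda52.k31 @x3 @x4) @x1 @x2) (@Cfsg.Agent.KOa0eda52.k79 (nat_lit 135) @x0))))) (@Bool.rec.{1} @(fun x1 => @Bool) @Bool.false (@Cfsg.Agent.KOa0eda52.k71 (nat_lit 141) (@Cfsg.Agent.KOa0eda52.k75 _ @(fun x1 x2 => @Cfsg.Agent.KOa0eda52.k76.{0, 0} _ _ @Cfsg.Agent.KOa0eda52.k31 @(fun x3 x4 => @Cfsg.Agent.KOa0eda52.k76.{0, 0} _ _ @Cfsg.Agent.KOa0eda52.k31 @Cfsg.Agent.KOa0eda52.k31 @x3 @x4) @x1 @x2) (@Cfsg.Agent.KOa0eda52.k79 (nat_lit 135) @x0))) (@Cfsg.Agent.KOa0eda52.k71 (nat_lit 135) @x0))))) ?_); rewrite [← Cfsg.Agent.KOa0eda52.e79,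 ← Cfsg.Agent.KOa0eda52.e31, ← Cfsg.Agent.KOa0eda52.e76.{0, 0}, ← Cfsg.Agent.KOa0eda52.e75, ← Cfsg.Agent.KOa0eda52.e71]; (try delta Cfsg.Agent.H834.L16.okz); (try generalize @Cfsg.Agent.H834.L16.okx = g0); (try generalize @Cfsg.Agent.H834.L16.nrm = g1); (try generalize @Cfsg.Agent.H834.L16.xll = g2); rfl') | exact @Cfsg.Agent.H834.L16.okz | exact ()
private theorem _root_.Cfsg.Agent.KOa0eda52.e80 : (by first | exact @Cfsg.Agent.H834.L16.okz = @_root_.Cfsg.Agent.KOa0eda52.k80 | exact True : Prop) := by first | (delta _root_.Cfsg.Agent.KOa0eda52.k80; exact @Subtype.property _ (fun g => @Cfsg.Agent.H834.L16.okz = @g) _) | rfl | trivial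
private noncomputable def _root_.Cfsg.Agent.KOa0eda52.k81 : (by first | exact type_of% @Cfsg.Agent.H834.L16.tl | exact Unit : Sort _) := by first | (refine @Subtype.val _ (fun g => @Cfsg.Agent.H834.L16.tl = @g) (@Subtype.mk _ _ (@(fun x0 => @Cfsg.Agent.KOa0eda52.k21.{0, 0} _ _ @(fun x1 => (@Option.rec.{1, 0} ℕ @(fun x2 => ℕ) (nat_lit 240) @(fun x2 => @x2) (@Cfsg.Agent.KOa0eda52.k34.{0} _ @Cfsg.Agent.H939.L16.WT (@Option.rec.{1, 0} ℕ @(fun x2 => ℕ) (nat_lit 240) @(fun x2 => @x2) (@Cfsg.Agent.KOa0eda52.k34.{0} _ @Cfsg.Agent.H939.L16.WT (@Option.rec.{1, 0} ℕ @(fun x2 => ℕ) (nat_lit 240) @(fun x2 => @x2) (@Cfsg.Agent.KOa0eda52.k34.{0} _ @Cfsg.Agent.H939.L16.WT (@Option.rec.{1, 0} ℕ @(fun x2 => ℕ) (nat_lit 240) @(fun x2 => @x2) (@Cfsg.Agent.KOa0eda52.k34.{0} _ @Cfsg.Agent.H939.L16.WT (@Prod.fst.{0, 0} _ _ @x1)))))))), @Prod.snd.{0, 0}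 _ _ @x1)) @x0)) ?_); rewrite [← Cfsg.Agent.KOa0eda52.e34.{0}, ← Cfsg.Agent.KOa0eda52.e21.{0, 0}]; (try delta Cfsg.Agent.H834.L16.tl Cfsg.Agent.H939.L16.wi); (try generalize @Cfsg.Agent.H939.L16.WT = g0); rfl') | exact @Cfsg.Agent.H834.L16.tl | exact ()
private theorem _root_.Cfsg.Agent.KOa0eda52.e81 : (by first | exact @Cfsg.Agent.H834.L16.tl = @_root_.Cfsg.Agent.KOa0eda52.k81 | exact True : Prop) := by first | (delta _root_.Cfsg.Agent.KOa0eda52.k81; exact @Subtype.property _ (fun g => @Cfsg.Agent.H834.L16.tl = @g) _) | rfl | trivial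
private noncomputable def _root_.Cfsg.Agent.KOa0eda52.k82 : (by first | exact type_of% @Cfsg.Agent.H834.L16.Fl | exact Unit : Sort _) := by first | (refine @Subtype.val _ (fun g => @Cfsg.Agent.H834.L16.Fl = @g) (@Subtype.mk _ _ (@(fun x0 => @Cfsg.Agent.KOa0eda52.k21.{0, 0} _ _ @(fun x1 => (@Option.rec.{1, 0} ℕ @(fun x2 => ℕ) (nat_lit 240) @(fun x2 => @x2) (@Cfsg.Agent.KOa0eda52.k34.{0} _ @Cfsg.Agent.H939.L16.WT (@Prod.fst.{0, 0} _ _ @x1)), (@Prod.fst.{0, 0} _ _ (@Prod.snd.{0, 0} _ _ @x1), @Nat.mul (nat_lit 2) (@Prod.snd.{0, 0} _ _ (@Prod.snd.{0, 0} _ _ @x1))))) @x0)) ?_); rewrite [← Cfsg.Agent.KOa0eda52.e34.{0}, ← Cfsg.Agent.KOa0eda52.e21.{0, 0}]; (try delta Cfsg.Agent.H834.L16.Fl Cfsg.Agent.H939.L16.wi); (try generalize @Cfsg.Agent.H939.L16.WT = g0); rfl') | exact @Cfsg.Agent.H834.L16.Fl | exact ()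
private theorem _root_.Cfsg.Agent.KOa0eda52.e82 : (by first | exact @Cfsg.Agent.H834.L16.Fl = @_root_.Cfsg.Agent.KOa0eda52.k82 | exact True : Prop) := by first | (delta _root_.Cfsg.Agent.KOa0eda52.k82; exact @Subtype.property _ (fun g => @Cfsg.Agent.H834.L16.Fl = @g) _) | rfl | trivial
private noncomputable def _root_.Cfsg.Agent.KOa0eda52.k84.{ku0} : type_of% @List.hasDecEq.{ku0} := @(fun x0 x1 x2 x3 => @List.rec.{(ku0+1), ku0} @x0 @(fun x4 => (x5 : @List.{ku0} @x0) → @Decidable (@Eq.{(ku0+1)} _ @x4 @x5)) @(fun x4 => @List.rec.{1, ku0} @x0 @(fun x5 => @Decidable (@Eq.{(ku0+1)} _ [] @x5)) (@Decidable.isTrue _ (@List.hasDecEq._proof_1.{ku0} _)) @(fun x5 x6 x7 => @Decidable.isFalse _ (@List.hasDecEq._proof_3.{ku0} _ @x5 @x6)) @x4) @(fun x4 x5 x6 x7 => @List.rec.{1, ku0} @x0 @(fun x8 => @Decidable (@Eq.{(ku0+1)} _ (@x4 :: @x5) @x8))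 (@Decidable.isFalse _ (@List.hasDecEq._proof_2.{ku0} _ @x4 @x5)) @(fun x8 x9 x10 => @Decidable.rec.{1} _ @(fun x11 => @Decidable (@Eq.{(ku0+1)} _ (@x4 :: @x5) (@x8 :: @x9))) @(fun x11 => @Decidable.isFalse _ (@List.hasDecEq._proof_6.{ku0} _ @x4 @x5 @x8 @x9 @x11)) @(fun x11 => @Decidable.rec.{1} _ @(fun x12 => @Decidable (@Eq.{(ku0+1)} _ (@x4 :: @x5) (@x8 :: @x9))) @(fun x12 => @Decidable.isFalse _ (@List.hasDecEq._proof_5.{ku0} _ @x4 @x5 @x8 @x9 @x12)) @(fun x12 => @Decidable.isTrue _ (@List.hasDecEq._proof_4.{ku0} _ @x4 @x5 @x8 @x9 @x11 @x12)) (@x6 @x9)) (@x1 @x4 @x8)) @x7) @x2 @x3)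
private theorem _root_.Cfsg.Agent.KOa0eda52.e84.{ku0} : @List.hasDecEq.{ku0} = @_root_.Cfsg.Agent.KOa0eda52.k84.{ku0} := by delta _root_.Cfsg.Agent.KOa0eda52.k84; funext a0 a1 a2 a3; refine (congrFun (_root_.Cfsg.Agent.KOa0eda52.e4 (fun a2 a3 => @List.hasDecEq.{ku0} a0 a1 a2 a3) ?_ (fun c0 c1 => ?_) a2) a3 :) <;> [(funext b0; (cases b0 with | @nil  => (rfl') | @cons b0_0 b0_1 => (rfl'))); (funext b0; (cases b0 with | @nil  => (rfl') | @cons b0_0 b0_1 => (rfl')))]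
private noncomputable def _root_.Cfsg.Agent.KOa0eda52.k85.{ku0} : type_of% @instDecidableEqList.{ku0} := @(fun x0 x1 x2 x3 => @List.rec.{1, ku0} @x0 @(fun x4 => @Decidable (@Eq.{(ku0+1)} _ @x4 @x3)) (@List.rec.{1, ku0} @x0 @(fun x4 => @Decidable (@Eq.{(ku0+1)} _ [] @x4)) (@Decidable.isTrue _ (@List.hasDecEq._proof_1.{ku0} _)) @(fun x4 x5 x6 => @Decidable.isFalse _ (@List.hasDecEq._proof_3.{ku0} _ @x4 @x5)) @x3) @(fun x4 x5 x6 => @List.rec.{1, ku0} @x0 @(fun x7 => @Decidable (@Eq.{(ku0+1)} _ (@x4 :: @x5) @x7)) (@Decidable.isFalse _ (@List.hasDecEq._proof_2.{ku0} _ @x4 @x5)) @(fun x7 x8 x9 => @Decidable.rec.{1} _ @(fun x10 => @Decidable (@Eq.{(ku0+1)} _ (@x4 :: @x5) (@x7 :: @x8))) @(fun x10 => @Decidable.isFalse _ (@List.hasDecEq._proof_6.{ku0} _ @x4 @x5 @x7 @x8 @x10)) @(fun x10 => @Decidable.rec.{1} _ @(fun x11 => @Decidable (@Eq.{(ku0+1)}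 _ (@x4 :: @x5) (@x7 :: @x8))) @(fun x11 => @Decidable.isFalse _ (@List.hasDecEq._proof_5.{ku0} _ @x4 @x5 @x7 @x8 @x11)) @(fun x11 => @Decidable.isTrue _ (@List.hasDecEq._proof_4.{ku0} _ @x4 @x5 @x7 @x8 @x10 @x11)) (@Cfsg.Agent.KOa0eda52.k84.{ku0} _ @x1 @x5 @x8)) (@x1 @x4 @x7)) @x3) @x2)
private theorem _root_.Cfsg.Agent.KOa0eda52.e85.{ku0} : @instDecidableEqList.{ku0} = @_root_.Cfsg.Agent.KOa0eda52.k85.{ku0} := by delta _root_.Cfsg.Agent.KOa0eda52.k85; rewrite [← Cfsg.Agent.KOa0eda52.e84.{ku0}]; rfl'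
private noncomputable def _root_.Cfsg.Agent.KOa0eda52.k86 : (by first | exact type_of% @Cfsg.Agent.H834.L16.izl | exact Unit : Sort _) := by first | (refine @Subtype.val _ (fun g => @Cfsg.Agent.H834.L16.izl = @g) (@Subtype.mk _ _ (@(fun x0 => @Cfsg.Agent.KOa0eda52.k75 _ @(fun x1 x2 => @Cfsg.Agent.KOa0eda52.k76.{0, 0} _ _ @Cfsg.Agent.KOa0eda52.k31 @(fun x3 x4 => @Cfsg.Agent.KOa0eda52.k76.{0, 0} _ _ @Cfsg.Agent.KOa0eda52.k31 @Cfsg.Agent.KOa0eda52.k31 @x3 @x4) @x1 @x2) (@Cfsg.Agent.KOa0eda52.k79 (nat_lit 121) (@Cfsg.Agent.KOa0eda52.k75 _ @(fun x1 x2 => @Cfsg.Agent.KOa0eda52.k76.{0, 0} _ _ @Cfsg.Agent.KOa0eda52.k31 @(fun x3 x4 => @Cfsg.Agent.KOa0eda52.k76.{0, 0} _ _ @Cfsg.Agent.KOa0eda52.k31 @Cfsg.Agent.KOa0eda52.k31 @x3 @x4) @x1 @x2) (@Cfsg.Agent.KOa0eda52.k79 (nat_lit 126) (@Cfsg.Agent.KOa0eda52.k75 _ @(fun x1 x2 => @Cfsg.Agent.KOa0eda52.k76.{0,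 0} _ _ @Cfsg.Agent.KOa0eda52.k31 @(fun x3 x4 => @Cfsg.Agent.KOa0eda52.k76.{0, 0} _ _ @Cfsg.Agent.KOa0eda52.k31 @Cfsg.Agent.KOa0eda52.k31 @x3 @x4) @x1 @x2) (@Cfsg.Agent.KOa0eda52.k79 (nat_lit 141) (@Cfsg.Agent.KOa0eda52.k75 _ @(fun x1 x2 => @Cfsg.Agent.KOa0eda52.k76.{0, 0} _ _ @Cfsg.Agent.KOa0eda52.k31 @(fun x3 x4 => @Cfsg.Agent.KOa0eda52.k76.{0, 0} _ _ @Cfsg.Agent.KOa0eda52.k31 @Cfsg.Agent.KOa0eda52.k31 @x3 @x4) @x1 @x2) (@Cfsg.Agent.KOa0eda52.k79 (nat_lit 135) @x0))))))))) ?_); rewrite [← Cfsg.Agent.KOa0eda52.e79, ← Cfsg.Agent.KOa0eda52.e31, ← Cfsg.Agent.KOa0eda52.e76.{0, 0}, ← Cfsg.Agent.KOa0eda52.e75]; (try delta Cfsg.Agent.H834.L16.izl); (try generalize @Cfsg.Agent.H834.L16.nrm = g0); (try generalize @Cfsg.Agent.H834.L16.xll = g1); rfl') | exact @Cfsg.Agent.H834.L16.izl | exact ()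
private theorem _root_.Cfsg.Agent.KOa0eda52.e86 : (by first | exact @Cfsg.Agent.H834.L16.izl = @_root_.Cfsg.Agent.KOa0eda52.k86 | exact True : Prop) := by first | (delta _root_.Cfsg.Agent.KOa0eda52.k86; exact @Subtype.property _ (fun g => @Cfsg.Agent.H834.L16.izl = @g) _) | rfl | trivial
private noncomputable def _root_.Cfsg.Agent.KOa0eda52.k87 : (by first | exact type_of% @Cfsg.Agent.H834.L16.Tl | exact Unit : Sort _) := by first | (refine @Subtype.val _ (fun g => @Cfsg.Agent.H834.L16.Tl = @g) (@Subtype.mk _ _ (@(fun x0 => @Cfsg.Agent.KOa0eda52.k86 (@Cfsg.Agent.KOa0eda52.k81 @x0))) ?_); rewrite [← Cfsg.Agent.KOa0eda52.e81, ← Cfsg.Agent.KOa0eda52.e86]; (try delta Cfsg.Agent.H834.L16.Tl); (try generalize @Cfsg.Agent.H834.L16.izl = g0); (try generalize @Cfsg.Agent.H834.L16.tl = g1); rfl') | exact @Cfsg.Agent.H834.L16.Tl | exact ()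
private theorem _root_.Cfsg.Agent.KOa0eda52.e87 : (by first | exact @Cfsg.Agent.H834.L16.Tl = @_root_.Cfsg.Agent.KOa0eda52.k87 | exact True : Prop) := by first | (delta _root_.Cfsg.Agent.KOa0eda52.k87; exact @Subtype.property _ (fun g => @Cfsg.Agent.H834.L16.Tl = @g) _) | rfl | trivial
private noncomputable def _root_.Cfsg.Agent.KOa0eda52.k88 : (by first | exact type_of% @Cfsg.Agent.H834.L16.Rl | exact Unit : Sort _) := by first | (refine @Subtype.val _ (fun g => @Cfsg.Agent.H834.L16.Rl = @g) (@Subtype.mk _ _ (@(fun x0 => ((nat_lit 128, (@x0, nat_lit 1))) :: (((nat_lit 127, (@Nat.add (nat_lit 3) @x0, nat_lit 1))) :: (((nat_lit 131, (@Nat.add (nat_lit 3) @x0, nat_lit 1))) :: (((nat_lit 136, (@Nat.add (nat_lit 6) @x0, nat_lit 1))) :: (((nat_lit 163, (@Nat.add (nat_lit 6) @x0, nat_lit 1))) :: (((nat_lit 147, (@Nat.add (nat_lit 9) @x0,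 nat_lit 1))) :: (((nat_lit 137, (@Nat.add (nat_lit 12) @x0, nat_lit 1))) :: (((nat_lit 143, (@Nat.add (nat_lit 15) @x0, nat_lit 1))) :: (((nat_lit 148, (@Nat.add (nat_lit 18) @x0, nat_lit 1))) :: [])))))))))) ?_); rfl') | exact @Cfsg.Agent.H834.L16.Rl | exact ()
private theorem _root_.Cfsg.Agent.KOa0eda52.e88 : (by first | exact @Cfsg.Agent.H834.L16.Rl = @_root_.Cfsg.Agent.KOa0eda52.k88 | exact True : Prop) := by first | (delta _root_.Cfsg.Agent.KOa0eda52.k88; exact @Subtype.property _ (fun g => @Cfsg.Agent.H834.L16.Rl = @g) _) | rfl | trivial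

private theorem S_all :
    (∀ a b c, ok (S a b c) = true) ∧
    (∀ a b c, okz (tl (S a b c)) = true) ∧
    (∀ a b c, ok (Fl (S a b c)) = true) ∧
    (∀ a b c, ok (Fl (Fl (S a b c))) = true) ∧
    (Tl (Fl (Rl 0)) = S true true true) ∧
    (ok (Rl 0) = true ∧ ok (Fl (Rl 0)) = true ∧ okz (tl (Fl (Rl 0))) = true) ∧
    (Fl (Fl (Rl 1)) = S true false true) ∧
    (ok (Rl 1) = true ∧ ok (Fl (Rl 1)) = true) ∧
    (Rl 2 = S false true true) ∧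
    (Fl (Fl (Fl Nl)) = S false false true) ∧
    (ok Nl = true ∧ ok (Fl Nl) = true ∧ ok (Fl (Fl Nl)) = true) ∧
    (Tl (S true true true) = S false false false) ∧
    (Tl (S true false true) = S false true false) ∧
    (Tl (S false true true) = S true false false) ∧
    (Tl (S false false true) = S true true false) := by
  (first | (refine of_decide_eq_true ?_; rewrite [Cfsg.Agent.KOa0eda52.e0, Cfsg.Agent.KOa0eda52.e1, Cfsg.Agent.KOa0eda52.e69, Cfsg.Agent.KOa0eda52.e3, Cfsg.Agent.KOa0eda52.e70, Cfsg.Agent.KOa0eda52.e80, Cfsg.Agent.KOa0eda52.e81, Cfsg.Agent.KOa0eda52.e82, Cfsg.Agent.KOa0eda52.e85.{0}, Cfsg.Agent.KOa0eda52.e76.{0, 0}, Cfsg.Agent.KOa0eda52.e66, Cfsg.Agent.KOa0eda52.e87, Cfsg.Agent.KOa0eda52.e88]; decide +kernel) | decide +kernel)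

theorem okS : ∀ a b c, ok (S a b c) = true :=
  S_all.1

theorem okT : ∀ a b c, okz (tl (S a b c)) = true :=
  S_all.2.1

theorem okFS : ∀ a b c, ok (Fl (S a b c)) = true :=
  S_all.2.2.1

theorem okFFS : ∀ a b c, ok (Fl (Fl (S a b c))) = true :=
  S_all.2.2.2.1

theorem S_ttt : Tl (Fl (Rl 0)) = S true true true :=
  S_all.2.2.2.2.1
theorem S_ttt' : ok (Rl 0) = true ∧ ok (Fl (Rl 0)) = true ∧ okz (tl (Fl (Rl 0))) = true :=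
  S_all.2.2.2.2.2.1
theorem S_tft : Fl (Fl (Rl 1)) = S true false true :=
  S_all.2.2.2.2.2.2.1
theorem S_tft' : ok (Rl 1) = true ∧ ok (Fl (Rl 1)) = true :=
  S_all.2.2.2.2.2.2.2.1
theorem S_ftt : Rl 2 = S false true true :=
  S_all.2.2.2.2.2.2.2.2.1
theorem S_fft : Fl (Fl (Fl Nl)) = S false false true :=
  S_all.2.2.2.2.2.2.2.2.2.1
theorem S_fft' : ok Nl = true ∧ ok (Fl Nl) = true ∧ ok (Fl (Fl Nl)) = true :=
  S_all.2.2.2.2.2.2.2.2.2.2.1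
theorem S_fff : Tl (S true true true) = S false false false :=
  S_all.2.2.2.2.2.2.2.2.2.2.2.1
theorem S_ftf : Tl (S true false true) = S false true false :=
  S_all.2.2.2.2.2.2.2.2.2.2.2.2.1
theorem S_tff : Tl (S false true true) = S true false false :=
  S_all.2.2.2.2.2.2.2.2.2.2.2.2.2.1
theorem S_ttf : Tl (S false false true) = S true true false :=
  S_all.2.2.2.2.2.2.2.2.2.2.2.2.2.2

/-! ### the coefficients -/

def saL (a d : Bool) (u : ℕ) : List ((ℕ × ℕ) × (ℕ × ℕ)) :=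
  (bl u (S a true true) (Fl (S false false d)) ++ bl u (S a true false) (Fl (S false true d))) ++
    (bl u (S a false true) (Fl (S true false d)) ++ bl u (S a false false) (Fl (S true true d)))

def sbL (b d : Bool) (u : ℕ) : List ((ℕ × ℕ) × (ℕ × ℕ)) :=
  (bl u (S true b true) (Fl (Fl (S false d true))) ++ bl u (S true b false) (Fl (Fl (S true d true)))) ++
    (bl u (S false b true) (Fl (Fl (S false d false))) ++ bl u (S false b false) (Fl (Fl (S true d false))))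

section eqs

variable {Fp : LK → LK} {ta : LK →ₗ[KK] LK} {nu : ℕ → KK} {s : Bool → Bool → Bool → LK}

theorem ss_eq (hs : ∀ a b c, s a b c = ev nu (S a b c)) (hSS : SS3 s) (a b c a' b' c' : Bool) {u : ℕ} (hu : u < 240)
    {q : List ((ℕ × ℕ) × (ℕ × ℕ))} (hq : nrm (bl u (S a b c) (S a' b' c')) = q) : qv nu q = 0 := by
  have hu' : u < chevE8.nroots := by rw [nr]; exact hu
  have h1 := congrFun (hSS a b c a' b' c') (Sum.inr ⟨u, hu'⟩)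
  rw [hs, hs, cf_br nu hu' (okS _ _ _) (okS _ _ _)] at h1
  rw [← hq, qv_nrm]
  exact h1

theorem sa_eq (h : Ops Fp ta) (hs : ∀ a b c, s a b c = ev nu (S a b c)) (hSA : SA Fp s) (a d : Bool) {u : ℕ} (hu : u < 240)
    {q : List ((ℕ × ℕ) × (ℕ × ℕ))} (hq : nrm (saL a d u) = q) : qv nu q = 0 := by
  have hu' : u < chevE8.nroots := by rw [nr]; exact hu
  have h1 := congrFun (hSA a d) (Sum.inr ⟨u, hu'⟩)
  simp only [Fintype.sum_bool, hs, Bool.not_true, Bool.not_false, ev_F h nu (okS _ _ _), Pi.add_apply,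
    cf_br nu hu' (okS _ _ _) (okFS _ _ _)] at h1
  rw [← hq, qv_nrm]
  unfold saL
  rw [qv_append, qv_append, qv_append]
  exact h1

theorem sb_eq (h : Ops Fp ta) (hs : ∀ a b c, s a b c = ev nu (S a b c)) (hSB : SB Fp s) (b d : Bool) {u : ℕ} (hu : u < 240)
    {q : List ((ℕ × ℕ) × (ℕ × ℕ))} (hq : nrm (sbL b d u) = q) : qv nu q = 0 := by
  have hu' : u < chevE8.nroots := by rw [nr]; exact hu
  have h1 := congrFun (hSB b d) (Sum.inr ⟨u, hu'⟩)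
  simp only [Fintype.sum_bool, hs, Bool.not_true, Bool.not_false, ev_F h nu (okS _ _ _), ev_F h nu (okFS _ _ _),
    Pi.add_apply, cf_br nu hu' (okS _ _ _) (okFFS _ _ _)] at h1
  rw [← hq, qv_nrm]
  unfold sbL
  rw [qv_append, qv_append, qv_append]
  exact h1

end eqs

private noncomputable def _root_.Cfsg.Agent.KOa0eda52.k89 : (by first | exact type_of% @Cfsg.Agent.H834.L16.srt | exact Unit : Sort _) := by first | (refine @Subtype.val _ (fun g => @Cfsg.Agent.H834.L16.srt = @g) (@Subtype.mk _ _ (@(fun x0 x1 => @Cfsg.Agent.KOa0eda52.k77.{1} ((ℕ × ℕ) × (ℕ × ℕ)) (@Nat.ble (@Nat.add (@Nat.mul (@Prod.fst.{0, 0} _ _ @x0) (nat_lit 1000)) (@Prod.snd.{0, 0} _ _ @x0)) (@Nat.add (@Nat.mul (@Prod.fst.{0, 0} _ _ @x1) (nat_lit 1000)) (@Prod.snd.{0, 0} _ _ @x1))) ((@x1, @x0)) ((@x0, @x1)))) ?_); rewrite [← Cfsg.Agent.KOa0eda52.e77.{1}]; rfl')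 | exact @Cfsg.Agent.H834.L16.srt | exact ()
private theorem _root_.Cfsg.Agent.KOa0eda52.e89 : (by first | exact @Cfsg.Agent.H834.L16.srt = @_root_.Cfsg.Agent.KOa0eda52.k89 | exact True : Prop) := by first | (delta _root_.Cfsg.Agent.KOa0eda52.k89; exact @Subtype.property _ (fun g => @Cfsg.Agent.H834.L16.srt = @g) _) | rfl | trivial
private noncomputable def _root_.Cfsg.Agent.KOa0eda52.k90 : (by first | exact type_of% @Cfsg.Agent.H834.L16.bl | exact Unit : Sort _) := by first | (refine @Subtype.val _ (fun g => @Cfsg.Agent.H834.L16.bl = @g) (@Subtype.mk _ _ (@(fun x0 x1 x2 => @Cfsg.Agent.KOa0eda52.k78.{0} _ (@Cfsg.Agent.KOa0eda52.k21.{0, 0} _ _ @(fun x3 => @Cfsg.Agent.KOa0eda52.k21.{0, 0} _ _ @(fun x4 => @Cfsg.Agent.KOa0eda52.k89 (@Prod.snd.{0, 0} _ _ @x3) (@Prod.snd.{0, 0} _ _ @x4)) (@Cfsg.Agent.KOa0eda52.k20.{0} _ @(fun x4 => @Bool.rec.{1}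 @(fun x5 => @Bool) @Bool.false (@Nat.beq (@Cfsg.Agent.KOa0eda52.k28 (@Prod.fst.{0, 0} _ _ @x3) (@Prod.fst.{0, 0} _ _ @x4)) @x0) (@Nat.beq (@Nat.add (@Cfsg.Agent.KOa0eda52.k67 (@Prod.fst.{0, 0} _ _ @x3)) (@Cfsg.Agent.KOa0eda52.k67 (@Prod.fst.{0, 0} _ _ @x4))) (@Nat.add (@Cfsg.Agent.KOa0eda52.k67 @x0) @Cfsg.Agent.H834.L16.K0))) @x2)) @x1))) ?_); rewrite [← Cfsg.Agent.KOa0eda52.e67, ← Cfsg.Agent.KOa0eda52.e28, ← Cfsg.Agent.KOa0eda52.e20.{0}, ← Cfsg.Agent.KOa0eda52.e89, ← Cfsg.Agent.KOa0eda52.e21.{0, 0}, ← Cfsg.Agent.KOa0eda52.e78.{0}]; (try delta Cfsg.Agent.H834.L16.bl); (try generalize @Cfsg.Agent.H834.L16.srt = g0); (try generalize @Cfsg.Agent.H413.L16.tg = g1); (try generalize @Cfsg.Agent.H834.L16.ky = g2); (try generalize @Cfsg.Agent.H834.L16.K0 = g3); rfl') | exact @Cfsg.Agent.H834.L16.bl | exact ()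
private theorem _root_.Cfsg.Agent.KOa0eda52.e90 : (by first | exact @Cfsg.Agent.H834.L16.bl = @_root_.Cfsg.Agent.KOa0eda52.k90 | exact True : Prop) := by first | (delta _root_.Cfsg.Agent.KOa0eda52.k90; exact @Subtype.property _ (fun g => @Cfsg.Agent.H834.L16.bl = @g) _) | rfl | trivial
private noncomputable def _root_.Cfsg.Agent.KOa0eda52.k91 : (by first | exact type_of% @Cfsg.Agent.H834.L16.saL | exact Unit : Sort _) := by first | (refine @Subtype.val _ (fun g => @Cfsg.Agent.H834.L16.saL = @g) (@Subtype.mk _ _ (@(fun x0 x1 x2 => @Cfsg.Agent.KOa0eda52.k19.{0} _ (@Cfsg.Agent.KOa0eda52.k19.{0} _ (@Cfsg.Agent.KOa0eda52.k90 @x2 (@Cfsg.Agent.H834.L16.S @x0 @Bool.true @Bool.true) (@Cfsg.Agent.KOa0eda52.k82 (@Cfsg.Agent.H834.L16.S @Bool.false @Bool.false @x1))) (@Cfsg.Agent.KOa0eda52.k90 @x2 (@Cfsg.Agent.H834.L16.S @x0 @Bool.true @Bool.false)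 (@Cfsg.Agent.KOa0eda52.k82 (@Cfsg.Agent.H834.L16.S @Bool.false @Bool.true @x1)))) (@Cfsg.Agent.KOa0eda52.k19.{0} _ (@Cfsg.Agent.KOa0eda52.k90 @x2 (@Cfsg.Agent.H834.L16.S @x0 @Bool.false @Bool.true) (@Cfsg.Agent.KOa0eda52.k82 (@Cfsg.Agent.H834.L16.S @Bool.true @Bool.false @x1))) (@Cfsg.Agent.KOa0eda52.k90 @x2 (@Cfsg.Agent.H834.L16.S @x0 @Bool.false @Bool.false) (@Cfsg.Agent.KOa0eda52.k82 (@Cfsg.Agent.H834.L16.S @Bool.true @Bool.true @x1)))))) ?_); rewrite [← Cfsg.Agent.KOa0eda52.e82, ← Cfsg.Agent.KOa0eda52.e90, ← Cfsg.Agent.KOa0eda52.e19.{0}]; (try delta Cfsg.Agent.H834.L16.saL); (try generalize @Cfsg.Agent.H834.L16.bl = g0); (try generalize @Cfsg.Agent.H834.L16.S = g1); (try generalize @Cfsg.Agent.H834.L16.Fl = g2); rfl') | exact @Cfsg.Agent.H834.L16.saL | exact ()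
private theorem _root_.Cfsg.Agent.KOa0eda52.e91 : (by first | exact @Cfsg.Agent.H834.L16.saL = @_root_.Cfsg.Agent.KOa0eda52.k91 | exact True : Prop) := by first | (delta _root_.Cfsg.Agent.KOa0eda52.k91; exact @Subtype.property _ (fun g => @Cfsg.Agent.H834.L16.saL = @g) _) | rfl | trivial

set_option synthInstance.maxSize 4000 in
private theorem ss_all :
    (nrm (bl 78 (S true false true) (S false false true)) = [((7, 4), (25, 8))]) ∧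
    (nrm (bl 52 (S true true true) (S false true false)) = [((6, 2), (7, 4))]) ∧
    (nrm (bl 85 (S true false true) (S true true false)) = [((7, 4), (23, 8)), ((7, 4), (25, 8))]) ∧
    (nrm (bl 137 (S false false false) (S true false false)) = [((5, 1), (9, 2))]) ∧
    (nrm (bl 92 (S true true true) (S false true true)) = [((5, 1), (6, 2))]) ∧
    (nrm (bl 156 (S false false false) (S false true true)) = [((3, 2), (14, 1)), ((5, 1), (15,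
    2))]) ∧
    (nrm (bl 143 (S false false false) (S true false false)) = [((2, 1), (3, 2)), ((3, 2), (5, 1)),
    ((5, 1), (12, 2))]) ∧
    (nrm (bl 157 (S false false false) (S false true true)) = [((6, 2), (20, 1)), ((9, 2), (17,
    1)), ((12, 2), (14, 1)), ((5, 1), (18, 2))]) ∧
    (nrm (bl 31 (S false false false) (S false false true)) = [((6, 2), (22, 8))]) ∧
    (nrm (bl 168 (S true true true) (S false false true)) = [((6, 2), (23, 8))]) ∧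
    (nrm (bl 68 (S true true true) (S true false false)) = [((6, 2), (8, 1))]) ∧
    (nrm (bl 199 (S true true true) (S true true false)) = [((6, 2), (25, 8))]) ∧
    (nrm (bl 154 (S false false false) (S false true true)) = [((6, 2), (11, 1)), ((8, 1), (12,
    2))]) ∧
    (nrm (bl 212 (S false true true) (S false false true)) = [((17, 1), (21, 8)), ((20, 1), (24,
    8))]) ∧
    (nrm (bl 184 (S false false false) (S false true true)) = [((0, 2), (8, 1)), ((3, 2), (14, 1))]) ∧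
    (nrm (bl 199 (S false true true) (S false false true)) = [((8, 1), (24, 8))]) ∧
    (nrm (saL true true 81) = [((4, 4), (4, 8))]) ∧
    (nrm (saL true false 120) = [((3, 2), (3, 4)), ((4, 4), (5, 2))]) ∧
    (nrm (saL false false 204) = [((6, 4), (11, 1)), ((3, 4), (17, 1)), ((7, 4), (7, 8)), ((5, 2), (23,
    8)), ((5, 2), (25, 8)), ((3, 2), (24, 16))]) ∧
    (nrm (saL true true 84) = [((6, 2), (24, 16)), ((1, 8), (7, 4)), ((4, 8), (13, 4)), ((0, 4), (5,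
    1)), ((3, 4), (17, 1))]) ∧
    (nrm (saL true true 66) = [((8, 2), (23, 8))]) ∧
    (nrm (saL false false 195) = [((5, 1), (15, 4)), ((8, 1), (9, 4)), ((4, 4), (4, 8)), ((4, 8), (7,
    4)), ((8, 2), (23, 8)), ((8, 2), (25, 8))]) ∧
    (nrm (saL false true 95) = [((8, 1), (21, 16)), ((8, 1), (25, 16)), ((14, 1), (23, 16)), ((4, 4),
    (8, 2)), ((4, 8), (22, 8)), ((16, 8), (25, 8)), ((3, 4), (6, 2))]) ∧
    (nrm (saL true false 165) = [((6, 2), (12, 4)), ((6, 2), (6, 4)), ((6, 4), (9, 2)), ((7, 4), (8,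
    2)), ((7, 4), (11, 2)), ((8, 2), (13, 4)), ((5, 1), (25, 16))]) ∧
    (nrm (saL false true 107) = [((8, 1), (22, 16)), ((11, 1), (21, 16)), ((20, 1), (23, 16)), ((1, 4),
    (8, 2)), ((4, 4), (8, 2)), ((2, 2), (4, 4)), ((4, 4), (5, 2)), ((5, 2), (7, 4)), ((5, 2), (10, 4)), ((5, 2), (13,
    4)), ((2, 2), (16, 4)), ((5, 2), (16, 4)), ((5, 2), (19, 4)), ((7, 8), (21, 8)), ((13, 8), (22, 8)), ((19, 8),
    (25, 8)), ((0, 2), (3, 4)), ((0, 2), (15, 4)), ((3, 2), (3, 4)), ((3, 2), (6, 4)), ((3, 2), (9, 4)), ((3, 2), (12,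
    4)), ((3, 2), (15, 4)), ((3, 2), (18, 4)), ((0, 4), (6, 2)), ((3, 4), (6, 2))]) := by
  (first | (refine of_decide_eq_true ?_; rewrite [Cfsg.Agent.KOa0eda52.e0, Cfsg.Agent.KOa0eda52.e1, Cfsg.Agent.KOa0eda52.e85.{0}, Cfsg.Agent.KOa0eda52.e76.{0, 0}, Cfsg.Agent.KOa0eda52.e66, Cfsg.Agent.KOa0eda52.e75, Cfsg.Agent.KOa0eda52.e90, Cfsg.Agent.KOa0eda52.e91]; decide +kernel) | decide +kernel)

theorem ss_pmpmmp_78 : nrm (bl 78 (S true false true) (S false false true)) = [((7, 4), (25, 8))] :=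
  ss_all.1
theorem ss_pppmpm_52 : nrm (bl 52 (S true true true) (S false true false)) = [((6, 2), (7, 4))] :=
  ss_all.2.1
theorem ss_pmpppm_85 : nrm (bl 85 (S true false true) (S true true false)) = [((7, 4), (23, 8)), ((7, 4), (25, 8))] :=
  ss_all.2.2.1
theorem ss_mmmpmm_137 : nrm (bl 137 (S false false false) (S true false false)) = [((5, 1), (9, 2))] :=
  ss_all.2.2.2.1
theorem ss_pppmpp_92 : nrm (bl 92 (S true true true) (S false true true)) = [((5, 1), (6, 2))] :=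
  ss_all.2.2.2.2.1
theorem ss_mmmmpp_156 : nrm (bl 156 (S false false false) (S false true true)) = [((3, 2), (14, 1)), ((5, 1), (15,
    2))] :=
  ss_all.2.2.2.2.2.1
theorem ss_mmmpmm_143 : nrm (bl 143 (S false false false) (S true false false)) = [((2, 1), (3, 2)), ((3, 2), (5, 1)),
    ((5, 1), (12, 2))] :=
  ss_all.2.2.2.2.2.2.1
theorem ss_mmmmpp_157 : nrm (bl 157 (S false false false) (S false true true)) = [((6, 2), (20, 1)), ((9, 2), (17,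
    1)), ((12, 2), (14, 1)), ((5, 1), (18, 2))] :=
  ss_all.2.2.2.2.2.2.2.1
theorem ss_mmmmmp_31 : nrm (bl 31 (S false false false) (S false false true)) = [((6, 2), (22, 8))] :=
  ss_all.2.2.2.2.2.2.2.2.1
theorem ss_pppmmp_168 : nrm (bl 168 (S true true true) (S false false true)) = [((6, 2), (23, 8))] :=
  ss_all.2.2.2.2.2.2.2.2.2.1
theorem ss_ppppmm_68 : nrm (bl 68 (S true true true) (S true false false)) = [((6, 2), (8, 1))] :=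
  ss_all.2.2.2.2.2.2.2.2.2.2.1
theorem ss_pppppm_199 : nrm (bl 199 (S true true true) (S true true false)) = [((6, 2), (25, 8))] :=
  ss_all.2.2.2.2.2.2.2.2.2.2.2.1
theorem ss_mmmmpp_154 : nrm (bl 154 (S false false false) (S false true true)) = [((6, 2), (11, 1)), ((8, 1), (12,
    2))] :=
  ss_all.2.2.2.2.2.2.2.2.2.2.2.2.1
theorem ss_mppmmp_212 : nrm (bl 212 (S false true true) (S false false true)) = [((17, 1), (21, 8)), ((20, 1), (24,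
    8))] :=
  ss_all.2.2.2.2.2.2.2.2.2.2.2.2.2.1
theorem ss_mmmmpp_184 : nrm (bl 184 (S false false false) (S false true true)) = [((0, 2), (8, 1)), ((3, 2), (14, 1))] :=
  ss_all.2.2.2.2.2.2.2.2.2.2.2.2.2.2.1
theorem ss_mppmmp_199 : nrm (bl 199 (S false true true) (S false false true)) = [((8, 1), (24, 8))] :=
  ss_all.2.2.2.2.2.2.2.2.2.2.2.2.2.2.2.1
theorem sa_pp_81 : nrm (saL true true 81) = [((4, 4), (4, 8))] :=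
  ss_all.2.2.2.2.2.2.2.2.2.2.2.2.2.2.2.2.1
theorem sa_pm_120 : nrm (saL true false 120) = [((3, 2), (3, 4)), ((4, 4), (5, 2))] :=
  ss_all.2.2.2.2.2.2.2.2.2.2.2.2.2.2.2.2.2.1
theorem sa_mm_204 : nrm (saL false false 204) = [((6, 4), (11, 1)), ((3, 4), (17, 1)), ((7, 4), (7, 8)), ((5, 2), (23,
    8)), ((5, 2), (25, 8)), ((3, 2), (24, 16))] :=
  ss_all.2.2.2.2.2.2.2.2.2.2.2.2.2.2.2.2.2.2.1
theorem sa_pp_84 : nrm (saL true true 84) = [((6, 2), (24, 16)), ((1, 8), (7, 4)), ((4, 8), (13, 4)), ((0, 4), (5,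
    1)), ((3, 4), (17, 1))] :=
  ss_all.2.2.2.2.2.2.2.2.2.2.2.2.2.2.2.2.2.2.2.1
theorem sa_pp_66 : nrm (saL true true 66) = [((8, 2), (23, 8))] :=
  ss_all.2.2.2.2.2.2.2.2.2.2.2.2.2.2.2.2.2.2.2.2.1
theorem sa_mm_195 : nrm (saL false false 195) = [((5, 1), (15, 4)), ((8, 1), (9, 4)), ((4, 4), (4, 8)), ((4, 8), (7,
    4)), ((8, 2), (23, 8)), ((8, 2), (25, 8))] :=
  ss_all.2.2.2.2.2.2.2.2.2.2.2.2.2.2.2.2.2.2.2.2.2.1
theorem sa_mp_95 : nrm (saL false true 95) = [((8, 1), (21, 16)), ((8, 1), (25, 16)), ((14, 1), (23, 16)), ((4, 4),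
    (8, 2)), ((4, 8), (22, 8)), ((16, 8), (25, 8)), ((3, 4), (6, 2))] :=
  ss_all.2.2.2.2.2.2.2.2.2.2.2.2.2.2.2.2.2.2.2.2.2.2.1
theorem sa_pm_165 : nrm (saL true false 165) = [((6, 2), (12, 4)), ((6, 2), (6, 4)), ((6, 4), (9, 2)), ((7, 4), (8,
    2)), ((7, 4), (11, 2)), ((8, 2), (13, 4)), ((5, 1), (25, 16))] :=
  ss_all.2.2.2.2.2.2.2.2.2.2.2.2.2.2.2.2.2.2.2.2.2.2.2.1
theorem sa_mp_107 : nrm (saL false true 107) = [((8, 1), (22, 16)), ((11, 1), (21, 16)), ((20, 1), (23, 16)), ((1, 4),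
    (8, 2)), ((4, 4), (8, 2)), ((2, 2), (4, 4)), ((4, 4), (5, 2)), ((5, 2), (7, 4)), ((5, 2), (10, 4)), ((5, 2), (13,
    4)), ((2, 2), (16, 4)), ((5, 2), (16, 4)), ((5, 2), (19, 4)), ((7, 8), (21, 8)), ((13, 8), (22, 8)), ((19, 8),
    (25, 8)), ((0, 2), (3, 4)), ((0, 2), (15, 4)), ((3, 2), (3, 4)), ((3, 2), (6, 4)), ((3, 2), (9, 4)), ((3, 2), (12,
    4)), ((3, 2), (15, 4)), ((3, 2), (18, 4)), ((0, 4), (6, 2)), ((3, 4), (6, 2))] :=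
  ss_all.2.2.2.2.2.2.2.2.2.2.2.2.2.2.2.2.2.2.2.2.2.2.2.2
private noncomputable def _root_.Cfsg.Agent.KOa0eda52.k92 : (by first | exact type_of% @Cfsg.Agent.H834.L16.sbL | exact Unit : Sort _) := by first | (refine @Subtype.val _ (fun g => @Cfsg.Agent.H834.L16.sbL = @g) (@Subtype.mk _ _ (@(fun x0 x1 x2 => @Cfsg.Agent.KOa0eda52.k19.{0} _ (@Cfsg.Agent.KOa0eda52.k19.{0} _ (@Cfsg.Agent.KOa0eda52.k90 @x2 (@Cfsg.Agent.H834.L16.S @Bool.true @x0 @Bool.true) (@Cfsg.Agent.KOa0eda52.k82 (@Cfsg.Agent.KOa0eda52.k82 (@Cfsg.Agent.H834.L16.S @Bool.false @x1 @Bool.true)))) (@Cfsg.Agent.KOa0eda52.k90 @x2 (@Cfsg.Agent.H834.L16.S @Bool.true @x0 @Bool.false) (@Cfsg.Agent.KOa0eda52.k82 (@Cfsg.Agent.KOa0eda52.k82 (@Cfsg.Agent.H834.L16.S @Bool.true @x1 @Bool.true))))) (@Cfsg.Agent.KOa0eda52.k19.{0} _ (@Cfsg.Agent.KOa0eda52.k90 @x2 (@Cfsg.Agent.H834.L16.S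 @Bool.false @x0 @Bool.true) (@Cfsg.Agent.KOa0eda52.k82 (@Cfsg.Agent.KOa0eda52.k82 (@Cfsg.Agent.H834.L16.S @Bool.false @x1 @Bool.false)))) (@Cfsg.Agent.KOa0eda52.k90 @x2 (@Cfsg.Agent.H834.L16.S @Bool.false @x0 @Bool.false) (@Cfsg.Agent.KOa0eda52.k82 (@Cfsg.Agent.KOa0eda52.k82 (@Cfsg.Agent.H834.L16.S @Bool.true @x1 @Bool.false))))))) ?_); rewrite [← Cfsg.Agent.KOa0eda52.e82, ← Cfsg.Agent.KOa0eda52.e90, ← Cfsg.Agent.KOa0eda52.e19.{0}]; (try delta Cfsg.Agent.H834.L16.sbL); (try generalize @Cfsg.Agent.H834.L16.bl = g0); (try generalize @Cfsg.Agent.H834.L16.S = g1); (try generalize @Cfsg.Agent.H834.L16.Fl = g2); rfl') | exact @Cfsg.Agent.H834.L16.sbL | exact ()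
private theorem _root_.Cfsg.Agent.KOa0eda52.e92 : (by first | exact @Cfsg.Agent.H834.L16.sbL = @_root_.Cfsg.Agent.KOa0eda52.k92 | exact True : Prop) := by first | (delta _root_.Cfsg.Agent.KOa0eda52.k92; exact @Subtype.property _ (fun g => @Cfsg.Agent.H834.L16.sbL = @g) _) | rfl | trivial

set_option synthInstance.maxSize 4000 in
private theorem sb_all :
    (nrm (sbL true false 216) = [((6, 2), (24, 32)), ((5, 1), (12, 8)), ((3, 8), (17, 1))]) ∧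
    (nrm (sbL true false 213) = [((3, 2), (23, 32)), ((3, 2), (25, 32)), ((16, 16), (25, 8)), ((2, 1),
    (6, 8)), ((5, 1), (12, 8))]) ∧
    (nrm (sbL true false 220) = [((4, 16), (25, 8)), ((8, 1), (9, 8)), ((6, 8), (14, 1)), ((4, 4), (8,
    4)), ((5, 4), (7, 4))]) ∧
    (nrm (sbL true false 13) = [((3, 2), (23, 32)), ((4, 4), (11, 4)), ((7, 4), (17, 4)), ((5, 4), (10,
    4)), ((8, 4), (16, 4))]) ∧
    (nrm (sbL false false 95) = [((16, 4), (23, 32)), ((2, 1), (7, 16)), ((5, 1), (7, 16)), ((1, 16),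
    (8, 1)), ((3, 8), (22, 8)), ((15, 8), (25, 8)), ((5, 4), (6, 2))]) := by
  (first | (refine of_decide_eq_true ?_; rewrite [Cfsg.Agent.KOa0eda52.e0, Cfsg.Agent.KOa0eda52.e1, Cfsg.Agent.KOa0eda52.e85.{0}, Cfsg.Agent.KOa0eda52.e76.{0, 0}, Cfsg.Agent.KOa0eda52.e66, Cfsg.Agent.KOa0eda52.e75, Cfsg.Agent.KOa0eda52.e92]; decide +kernel) | decide +kernel)

theorem sb_pm_216 : nrm (sbL true false 216) = [((6, 2), (24, 32)), ((5, 1), (12, 8)), ((3, 8), (17, 1))] :=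
  sb_all.1
theorem sb_pm_213 : nrm (sbL true false 213) = [((3, 2), (23, 32)), ((3, 2), (25, 32)), ((16, 16), (25, 8)), ((2, 1),
    (6, 8)), ((5, 1), (12, 8))] :=
  sb_all.2.1
theorem sb_pm_220 : nrm (sbL true false 220) = [((4, 16), (25, 8)), ((8, 1), (9, 8)), ((6, 8), (14, 1)), ((4, 4), (8,
    4)), ((5, 4), (7, 4))] :=
  sb_all.2.2.1
theorem sb_pm_13 : nrm (sbL true false 13) = [((3, 2), (23, 32)), ((4, 4), (11, 4)), ((7, 4), (17, 4)), ((5, 4), (10,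
    4)), ((8, 4), (16, 4))] :=
  sb_all.2.2.2.1
theorem sb_mm_95 : nrm (sbL false false 95) = [((16, 4), (23, 32)), ((2, 1), (7, 16)), ((5, 1), (7, 16)), ((1, 16),
    (8, 1)), ((3, 8), (22, 8)), ((15, 8), (25, 8)), ((5, 4), (6, 2))] :=
  sb_all.2.2.2.2

/-- the value of the variables -/
noncomputable def nuv (k o1 o3 r1 r2 r3 r0 : ℕ → KK) (K1 K2 A A2 B : KK) (n : ℕ) : KK :=
  [k 0, k 1, k 2, o1 0, o1 1, o1 2, o3 0, o3 1, o3 2, r1 0, r1 1, r1 2, r2 0, r2 1, r2 2, r3 0, r3 1, r3 2, r0 0, r0 1, r0 2,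
    K1, K2, A, A2, B].getD n 0

theorem iz_zero : iz 0 = 0 := by
  unfold iz
  rw [xl_zero, xl_zero, xl_zero, xl_zero]

theorem vR_zero : vR 0 0 0 0 0 0 0 = 0 := by
  unfold vR
  simp only [zero_smul, add_zero]

theorem vN_zero : vN 0 0 0 0 0 = 0 := by
  unfold vN
  simp only [zero_smul, add_zero]

/-- **the elimination of type N, `(0,1,2)`** -/
theorem elimN012 {Fp : LK → LK} {ta : LK →ₗ[KK] LK} (h : Ops Fp ta) : ElimN012 Fp ta := by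
  intro s k o1 o3 r1 r2 r3 r0 K1 K2 A A2 B _ _ e1 e2 e3 e4 hne hT hSS hSA hSB
  have hF0 := Fp_zero h
  -- the vectors
  have hs : ∀ a b c, s a b c = ev (nuv k o1 o3 r1 r2 r3 r0 K1 K2 A A2 B) (S a b c) := by
    have f1 : s true true true = ev (nuv k o1 o3 r1 r2 r3 r0 K1 K2 A A2 B) (S true true true) := by
      obtain ⟨o1', o2', o3'⟩ := S_ttt'
      rw [e1, ← S_ttt, ← ev_T h _ o2' o3', ← ev_F h _ o1', ev_Rl]
      rfl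
    have f2 : s true false true = ev (nuv k o1 o3 r1 r2 r3 r0 K1 K2 A A2 B) (S true false true) := by
      obtain ⟨o1', o2'⟩ := S_tft'
      rw [e2, ← S_tft, ← ev_F h _ o2', ← ev_F h _ o1', ev_Rl]
      rfl
    have f3 : s false true true = ev (nuv k o1 o3 r1 r2 r3 r0 K1 K2 A A2 B) (S false true true) := by
      rw [e3, ← S_ftt, ev_Rl]
      rfl
    have f4 : s false false true = ev (nuv k o1 o3 r1 r2 r3 r0 K1 K2 A A2 B) (S false false true) := by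
      obtain ⟨o1', o2', o3'⟩ := S_fft'
      rw [e4, ← S_fft, ← ev_F h _ o3', ← ev_F h _ o2', ← ev_F h _ o1', ev_Nl]
      rfl
    have f5 : s false false false = ev (nuv k o1 o3 r1 r2 r3 r0 K1 K2 A A2 B) (S false false false) := by
      rw [← S_fff, ← ev_T h _ (okS _ _ _) (okT _ _ _), ← f1]
      exact hT true true true
    have f6 : s false true false = ev (nuv k o1 o3 r1 r2 r3 r0 K1 K2 A A2 B) (S false true false) := by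
      rw [← S_ftf, ← ev_T h _ (okS _ _ _) (okT _ _ _), ← f2]
      exact hT true false true
    have f7 : s true false false = ev (nuv k o1 o3 r1 r2 r3 r0 K1 K2 A A2 B) (S true false false) := by
      rw [← S_tff, ← ev_T h _ (okS _ _ _) (okT _ _ _), ← f3]
      exact hT false true true
    have f8 : s true true false = ev (nuv k o1 o3 r1 r2 r3 r0 K1 K2 A A2 B) (S true true false) := by
      rw [← S_ttf, ← ev_T h _ (okS _ _ _) (okT _ _ _), ← f4]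
      exact hT false false true
    intro a b c
    cases a <;> cases b <;> cases c
    · exact f5
    · exact f4
    · exact f6
    · exact f3
    · exact f7
    · exact f2
    · exact f8
    · exact f1
  -- the equations
  have Ess_pmpmmp_78 : (o3 1) ^ (4:ℕ) * B ^ (8:ℕ) + 0 = 0 := ss_eq hs hSS true false true false false true (by decide)
      ss_pmpmmp_78
  have Ess_pppmpm_52 : (o3 0) ^ (2:ℕ) * (o3 1) ^ (4:ℕ) + 0 = 0 := ss_eq hs hSS true true true false true false (by decide)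
      ss_pppmpm_52
  have Ess_pmpppm_85 : (o3 1) ^ (4:ℕ) * A ^ (8:ℕ) + ((o3 1) ^ (4:ℕ) * B ^ (8:ℕ) + 0) = 0 := ss_eq hs hSS true false true true true false
      (by decide) ss_pmpppm_85
  have Ess_mmmpmm_137 : (o1 2) ^ (1:ℕ) * (r1 0) ^ (2:ℕ) + 0 = 0 := ss_eq hs hSS false false false true false false (by decide)
      ss_mmmpmm_137
  have Ess_pppmpp_92 : (o1 2) ^ (1:ℕ) * (o3 0) ^ (2:ℕ) + 0 = 0 := ss_eq hs hSS true true true false true true (by decide)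
      ss_pppmpp_92
  have Ess_mmmmpp_156 : (o1 0) ^ (2:ℕ) * (r2 2) ^ (1:ℕ) + ((o1 2) ^ (1:ℕ) * (r3 0) ^ (2:ℕ) + 0) = 0 := ss_eq hs hSS false false false
      false true true (by decide) ss_mmmmpp_156
  have Ess_mmmpmm_143 : (k 2) ^ (1:ℕ) * (o1 0) ^ (2:ℕ) + ((o1 0) ^ (2:ℕ) * (o1 2) ^ (1:ℕ) + ((o1 2) ^ (1:ℕ) * (r2 0) ^ (2:ℕ) + 0)) = 0 := ss_eq
      hs hSS false false false true false false (by decide) ss_mmmpmm_143
  have Ess_mmmmpp_157 : (o3 0) ^ (2:ℕ) * (r0 2) ^ (1:ℕ) + ((r1 0) ^ (2:ℕ) * (r3 2) ^ (1:ℕ) + ((r2 0) ^ (2:ℕ) * (r2 2) ^ (1:ℕ) + ((o1 2) ^ (1:ℕ) *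
      (r0 0) ^ (2:ℕ) + 0))) = 0 := ss_eq hs hSS false false false false true true (by decide) ss_mmmmpp_157
  have Ess_mmmmmp_31 : (o3 0) ^ (2:ℕ) * K2 ^ (8:ℕ) + 0 = 0 := ss_eq hs hSS false false false false false true (by decide)
      ss_mmmmmp_31
  have Ess_pppmmp_168 : (o3 0) ^ (2:ℕ) * A ^ (8:ℕ) + 0 = 0 := ss_eq hs hSS true true true false false true (by decide)
      ss_pppmmp_168
  have Ess_ppppmm_68 : (o3 0) ^ (2:ℕ) * (o3 2) ^ (1:ℕ) + 0 = 0 := ss_eq hs hSS true true true true false false (by decide)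
      ss_ppppmm_68
  have Ess_pppppm_199 : (o3 0) ^ (2:ℕ) * B ^ (8:ℕ) + 0 = 0 := ss_eq hs hSS true true true true true false (by decide)
      ss_pppppm_199
  have Ess_mmmmpp_154 : (o3 0) ^ (2:ℕ) * (r1 2) ^ (1:ℕ) + ((o3 2) ^ (1:ℕ) * (r2 0) ^ (2:ℕ) + 0) = 0 := ss_eq hs hSS false false false
      false true true (by decide) ss_mmmmpp_154
  have Ess_mppmmp_212 : (r3 2) ^ (1:ℕ) * K1 ^ (8:ℕ) + ((r0 2) ^ (1:ℕ) * A2 ^ (8:ℕ) + 0) = 0 := ss_eq hs hSS false true true false false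
      true (by decide) ss_mppmmp_212
  have Ess_mmmmpp_184 : (k 0) ^ (2:ℕ) * (o3 2) ^ (1:ℕ) + ((o1 0) ^ (2:ℕ) * (r2 2) ^ (1:ℕ) + 0) = 0 := ss_eq hs hSS false false false
      false true true (by decide) ss_mmmmpp_184
  have Ess_mppmmp_199 : (o3 2) ^ (1:ℕ) * A2 ^ (8:ℕ) + 0 = 0 := ss_eq hs hSS false true true false false true (by decide)
      ss_mppmmp_199
  have Esa_pp_81 : (o1 1) ^ (4:ℕ) * (o1 1) ^ (8:ℕ) + 0 = 0 := sa_eq h hs hSA true true (by decide) sa_pp_81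
  have Esa_pm_120 : (o1 0) ^ (2:ℕ) * (o1 0) ^ (4:ℕ) + ((o1 1) ^ (4:ℕ) * (o1 2) ^ (2:ℕ) + 0) = 0 := sa_eq h hs hSA true false (by decide)
      sa_pm_120
  have Esa_mm_204 : (o3 0) ^ (4:ℕ) * (r1 2) ^ (1:ℕ) + ((o1 0) ^ (4:ℕ) * (r3 2) ^ (1:ℕ) + ((o3 1) ^ (4:ℕ) * (o3 1) ^ (8:ℕ) + ((o1 2) ^ (2:ℕ) * A ^ (8:ℕ)
      + ((o1 2) ^ (2:ℕ) * B ^ (8:ℕ) + ((o1 0) ^ (2:ℕ) * A2 ^ (16:ℕ) + 0))))) = 0 := sa_eq h hs hSA false false (by decide) sa_mm_204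
  have Esa_pp_84 : (o3 0) ^ (2:ℕ) * A2 ^ (16:ℕ) + ((k 1) ^ (8:ℕ) * (o3 1) ^ (4:ℕ) + ((o1 1) ^ (8:ℕ) * (r2 1) ^ (4:ℕ) + ((k 0) ^ (4:ℕ) * (o1 2) ^ (1:ℕ) +
      ((o1 0) ^ (4:ℕ) * (r3 2) ^ (1:ℕ) + 0)))) = 0 := sa_eq h hs hSA true true (by decide) sa_pp_84
  have Esa_pp_66 : (o3 2) ^ (2:ℕ) * A ^ (8:ℕ) + 0 = 0 := sa_eq h hs hSA true true (by decide) sa_pp_66
  have Esa_mm_195 : (o1 2) ^ (1:ℕ) * (r3 0) ^ (4:ℕ) + ((o3 2) ^ (1:ℕ) * (r1 0) ^ (4:ℕ) + ((o1 1) ^ (4:ℕ) * (o1 1) ^ (8:ℕ) + ((o1 1) ^ (8:ℕ) * (o3 1)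
      ^ (4:ℕ) + ((o3 2) ^ (2:ℕ) * A ^ (8:ℕ) + ((o3 2) ^ (2:ℕ) * B ^ (8:ℕ) + 0))))) = 0 := sa_eq h hs hSA false false (by decide) sa_mm_195
  have Esa_mp_95 : (o3 2) ^ (1:ℕ) * K1 ^ (16:ℕ) + ((o3 2) ^ (1:ℕ) * B ^ (16:ℕ) + ((r2 2) ^ (1:ℕ) * A ^ (16:ℕ) + ((o1 1) ^ (4:ℕ) * (o3 2) ^ (2:ℕ) + ((o1
      1) ^ (8:ℕ) * K2 ^ (8:ℕ) + ((r3 1) ^ (8:ℕ) * B ^ (8:ℕ) + ((o1 0) ^ (4:ℕ) * (o3 0) ^ (2:ℕ) + 0)))))) = 0 := sa_eq h hs hSA false true (by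
      decide) sa_mp_95
  have Esa_pm_165 : (o3 0) ^ (2:ℕ) * (r2 0) ^ (4:ℕ) + ((o3 0) ^ (2:ℕ) * (o3 0) ^ (4:ℕ) + ((o3 0) ^ (4:ℕ) * (r1 0) ^ (2:ℕ) + ((o3 1) ^ (4:ℕ) * (o3 2)
      ^ (2:ℕ) + ((o3 1) ^ (4:ℕ) * (r1 2) ^ (2:ℕ) + ((o3 2) ^ (2:ℕ) * (r2 1) ^ (4:ℕ) + ((o1 2) ^ (1:ℕ) * B ^ (16:ℕ) + 0)))))) = 0 := sa_eq h hs hSA
      true false (by decide) sa_pm_165
  have Esa_mp_107 : (o3 2) ^ (1:ℕ) * K2 ^ (16:ℕ) + ((r1 2) ^ (1:ℕ) * K1 ^ (16:ℕ) + ((r0 2) ^ (1:ℕ) * A ^ (16:ℕ) + ((k 1) ^ (4:ℕ) * (o3 2) ^ (2:ℕ) + ((o1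
      1) ^ (4:ℕ) * (o3 2) ^ (2:ℕ) + ((k 2) ^ (2:ℕ) * (o1 1) ^ (4:ℕ) + ((o1 1) ^ (4:ℕ) * (o1 2) ^ (2:ℕ) + ((o1 2) ^ (2:ℕ) * (o3 1) ^ (4:ℕ) + ((o1 2) ^
      (2:ℕ) * (r1 1) ^ (4:ℕ) + ((o1 2) ^ (2:ℕ) * (r2 1) ^ (4:ℕ) + ((k 2) ^ (2:ℕ) * (r3 1) ^ (4:ℕ) + ((o1 2) ^ (2:ℕ) * (r3 1) ^ (4:ℕ) + ((o1 2) ^ (2:ℕ) *
      (r0 1) ^ (4:ℕ) + ((o3 1) ^ (8:ℕ) * K1 ^ (8:ℕ) + ((r2 1) ^ (8:ℕ) * K2 ^ (8:ℕ) + ((r0 1) ^ (8:ℕ) * B ^ (8:ℕ) + ((k 0) ^ (2:ℕ) * (o1 0) ^ (4:ℕ) + ((k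
      0) ^ (2:ℕ) * (r3 0) ^ (4:ℕ) + ((o1 0) ^ (2:ℕ) * (o1 0) ^ (4:ℕ) + ((o1 0) ^ (2:ℕ) * (o3 0) ^ (4:ℕ) + ((o1 0) ^ (2:ℕ) * (r1 0) ^ (4:ℕ) + ((o1 0) ^
      (2:ℕ) * (r2 0) ^ (4:ℕ) + ((o1 0) ^ (2:ℕ) * (r3 0) ^ (4:ℕ) + ((o1 0) ^ (2:ℕ) * (r0 0) ^ (4:ℕ) + ((k 0) ^ (4:ℕ) * (o3 0) ^ (2:ℕ) + ((o1 0) ^ (4:ℕ) *
      (o3 0) ^ (2:ℕ) + 0))))))))))))))))))))))))) = 0 := sa_eq h hs hSA false true (by decide) sa_mp_107
  have Esb_pm_216 : (o3 0) ^ (2:ℕ) * A2 ^ (32:ℕ) + ((o1 2) ^ (1:ℕ) * (r2 0) ^ (8:ℕ) + ((o1 0) ^ (8:ℕ) * (r3 2) ^ (1:ℕ) + 0)) = 0 := sb_eq h hs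
      hSB true false (by decide) sb_pm_216
  have Esb_pm_213 : (o1 0) ^ (2:ℕ) * A ^ (32:ℕ) + ((o1 0) ^ (2:ℕ) * B ^ (32:ℕ) + ((r3 1) ^ (16:ℕ) * B ^ (8:ℕ) + ((k 2) ^ (1:ℕ) * (o3 0) ^ (8:ℕ) + ((o1
      2) ^ (1:ℕ) * (r2 0) ^ (8:ℕ) + 0)))) = 0 := sb_eq h hs hSB true false (by decide) sb_pm_213
  have Esb_pm_220 : (o1 1) ^ (16:ℕ) * B ^ (8:ℕ) + ((o3 2) ^ (1:ℕ) * (r1 0) ^ (8:ℕ) + ((o3 0) ^ (8:ℕ) * (r2 2) ^ (1:ℕ) + ((o1 1) ^ (4:ℕ) * (o3 2) ^ (4:ℕ)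
      + ((o1 2) ^ (4:ℕ) * (o3 1) ^ (4:ℕ) + 0)))) = 0 := sb_eq h hs hSB true false (by decide) sb_pm_220
  have Esb_pm_13 : (o1 0) ^ (2:ℕ) * A ^ (32:ℕ) + ((o1 1) ^ (4:ℕ) * (r1 2) ^ (4:ℕ) + ((o3 1) ^ (4:ℕ) * (r3 2) ^ (4:ℕ) + ((o1 2) ^ (4:ℕ) * (r1 1) ^ (4:ℕ)
      + ((o3 2) ^ (4:ℕ) * (r3 1) ^ (4:ℕ) + 0)))) = 0 := sb_eq h hs hSB true false (by decide) sb_pm_13
  have Esb_mm_95 : (r3 1) ^ (4:ℕ) * A ^ (32:ℕ) + ((k 2) ^ (1:ℕ) * (o3 1) ^ (16:ℕ) + ((o1 2) ^ (1:ℕ) * (o3 1) ^ (16:ℕ) + ((k 1) ^ (16:ℕ) * (o3 2) ^ (1:ℕ)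
      + ((o1 0) ^ (8:ℕ) * K2 ^ (8:ℕ) + ((r3 0) ^ (8:ℕ) * B ^ (8:ℕ) + ((o1 2) ^ (4:ℕ) * (o3 0) ^ (2:ℕ) + 0)))))) = 0 := sb_eq h hs hSB false
      false (by decide) sb_mm_95
  -- the vectors are not zero
  have G0 : ¬ (k 0 = 0 ∧ o1 0 = 0 ∧ o3 0 = 0 ∧ r1 0 = 0 ∧ r2 0 = 0 ∧ r3 0 = 0 ∧ r0 0 = 0) := by
    rintro ⟨a1, a2, a3, a4, a5, a6, a7⟩
    refine hne true true true ?_
    rw [e1, a1, a2, a3, a4, a5, a6, a7, vR_zero, hF0]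
    unfold T
    rw [map_zero, iz_zero]
  have G2 : ¬ (k 2 = 0 ∧ o1 2 = 0 ∧ o3 2 = 0 ∧ r1 2 = 0 ∧ r2 2 = 0 ∧ r3 2 = 0 ∧ r0 2 = 0) := by
    rintro ⟨a1, a2, a3, a4, a5, a6, a7⟩
    refine hne false true true ?_
    rw [e3, a1, a2, a3, a4, a5, a6, a7, vR_zero]
  have G3 : ¬ (K1 = 0 ∧ K2 = 0 ∧ A = 0 ∧ A2 = 0 ∧ B = 0) := by
    rintro ⟨a1, a2, a3, a4, a5⟩
    refine hne false false true ?_
    rw [e4, a1, a2, a3, a4, a5, vN_zero, hF0, hF0, hF0]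
  clear e1 e2 e3 e4 hne hT hSS hSA hSB hs
  -- the case analysis
  have z1 : o1 1 = 0 := by simpa using Esa_pp_81
  have z0 : o1 0 = 0 := by simpa [z1] using Esa_pm_120
  have y1 : o3 1 = 0 := by
    by_contra hc
    have b : B = 0 := by simpa [hc] using Ess_pmpmmp_78
    have y0 : o3 0 = 0 := by simpa [hc] using Ess_pppmpm_52
    have a : A = 0 := by simpa [hc, b] using Ess_pmpppm_85
    exact hc (by simpa [z0, z1, b, y0, a] using Esa_mm_204)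
  have z2 : o1 2 = 0 := by
    by_contra hc
    have y0 : o3 0 = 0 := by simpa [hc] using Ess_pppmpp_92
    have a1 : r1 0 = 0 := by simpa [hc] using Ess_mmmpmm_137
    have a3 : r3 0 = 0 := by simpa [hc, z0] using Ess_mmmmpp_156
    have a2 : r2 0 = 0 := by simpa [hc, z0] using Ess_mmmpmm_143
    have a0 : r0 0 = 0 := by simpa [hc, y0, a1, a2] using Ess_mmmmpp_157
    have ak : k 0 = 0 := by simpa [hc, y0, y1, z0, z1] using Esa_pp_84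
    exact G0 ⟨ak, z0, y0, a1, a2, a3, a0⟩
  have y0 : o3 0 = 0 := by
    by_contra hc
    have a : A = 0 := by simpa [hc] using Ess_pppmmp_168
    have b : B = 0 := by simpa [hc] using Ess_pppppm_199
    have k2 : K2 = 0 := by simpa [hc] using Ess_mmmmmp_31
    have y2 : o3 2 = 0 := by simpa [hc] using Ess_ppppmm_68
    have a12 : r1 2 = 0 := by simpa [hc, y2] using Ess_mmmmpp_154
    have a2 : A2 = 0 := by simpa [hc, z2, z0] using Esb_pm_216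
    have a22 : r2 2 = 0 := by simpa [hc, z1, z2, y2, b] using Esb_pm_220
    have ak2 : k 2 = 0 := by simpa [hc, z0, z2, b] using Esb_pm_213
    by_cases h3 : r3 2 = 0
    · have a02 : r0 2 = 0 := by simpa [hc, h3, a22, z2] using Ess_mmmmpp_157
      exact G2 ⟨ak2, z2, y2, a12, a22, h3, a02⟩
    · have k1 : K1 = 0 := by simpa [h3, a2] using Ess_mppmmp_212
      exact G3 ⟨k1, k2, a, a2, b⟩
  have y2 : o3 2 = 0 := by
    by_contra hc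
    have a2 : A2 = 0 := by simpa [hc] using Ess_mppmmp_199
    have k0 : k 0 = 0 := by simpa [hc, z0] using Ess_mmmmpp_184
    have a : A = 0 := by simpa [hc] using Esa_pp_66
    have r31 : r3 1 = 0 := by simpa [hc, z0, z1, z2, y1] using Esb_pm_13
    have r10 : r1 0 = 0 := by simpa [hc, z1, z2, y0, y1] using Esb_pm_220
    have b : B = 0 := by simpa [hc, z1, z2, r10, a] using Esa_mm_195
    have r21 : r2 1 = 0 := by simpa [hc, y0, y1, b] using Esa_pm_165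
    have k1 : K1 = 0 := by simpa [hc, z0, z1, y0, a, b, r31] using Esa_mp_95
    have kk1 : k 1 = 0 := by simpa [hc, z0, z2, y1, y0, a, b, r31] using Esb_mm_95
    have k2 : K2 = 0 := by simpa [hc, z0, z1, z2, y0, y1, k0, kk1, k1, a, b, r31, r21, r10] using Esa_mp_107
    exact G3 ⟨k1, k2, a, a2, b⟩
  intro i hi
  have hi' : i = 0 ∨ i = 1 ∨ i = 2 := by omega
  rcases hi' with rfl | rfl | rfl
  · exact ⟨z0, y0⟩
  · exact ⟨z1, y1⟩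
  · exact ⟨z2, y2⟩

end Cfsg.Agent.H834.L16
end

private theorem dce_7138fcd33294 : _root_.True := by
  try have : _root_.True := by simp only [_root_.Cfsg.Agent.H834.L16.tv.eq_1]
  exact _root_.True.intro
end

-- part: H280/L16/ModF_mg
section
prune_inst 0xfffdfffffcfbffffff7e7faedffffdfbbb3fffe6dff9cbffeee3ff2bdfff8acbedfbaf8feb11fe1ef6e29c18ff7bd3fbffffffea6ffc7ffffdfff45ffbffdfffffbd08719e9cb40ffc6ffffbf07f8e7f000000000000000000000000000000004200000000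
set_option linter.all false
open scoped Cfsg.Agent.FastGrp

-- part: H280/L16/Alt
section
/-!
# S5916: alternating tensors of families vanish (helper280)

`act M β` : the action of a `2 × 2` matrix on both indices of `β`. An alternating array with one, two or three pairs of
indices of types `M, N, R` is zero if there are no fixed vectors and no smaller families (`alt1`, `alt2`, `alt3`).
-/

set_option autoImplicit false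
set_option linter.unusedSectionVars false

namespace Cfsg.Agent.H280.L16

open Matrix

section Act

variable {k : Type*} [Field k] {W : Type*} [AddCommGroup W] [Module k W]

/-- the action on both indices -/
def act (M : Matrix (Fin 2) (Fin 2) k) (β : Fin 2 → Fin 2 → W) (a a' : Fin 2) : W :=
  ∑ b, ∑ b', (M b a * M b' a') • β b b'

theorem act_zero (M : Matrix (Fin 2) (Fin 2) k) {β : Fin 2 → Fin 2 → W} (h : ∀ b b', β b b' = 0) (a a' : Fin 2) :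
    act M β a a' = 0 := by
  unfold act
  simp [h]

theorem act_add (M : Matrix (Fin 2) (Fin 2) k) (β β' : Fin 2 → Fin 2 → W) (a a' : Fin 2) :
    act M (fun b b' => β b b' + β' b b') a a' = act M β a a' + act M β' a a' := by
  unfold act
  simp only [smul_add, Finset.sum_add_distrib]

theorem act_comm (M N : Matrix (Fin 2) (Fin 2) k) (X : Fin 2 → Fin 2 → Fin 2 → Fin 2 → W) (a a' c c' : Fin 2) :
    act M (fun b b' => act N (fun d d' => X b b' d d') c c') a a' =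
      act N (fun d d' => act M (fun b b' => X b b' d d') a a') c c' := by
  unfold act
  simp only [Fin.sum_univ_two, smul_add, smul_smul]
  have h1 : ∀ x y z w : k, x * y * (z * w) = z * w * (x * y) := fun x y z w => by ring
  simp only [h1 (M _ _)]
  abel

variable [CharP k 2]

theorem add_self_W (k : Type*) [Field k] [CharP k 2] {W : Type*} [AddCommGroup W] [Module k W] (x : W) : x + x = 0 := by
  have h2 : (2 : k) = 0 := by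
    have := CharP.cast_eq_zero k 2
    exact_mod_cast this
  rw [← two_smul k, h2, zero_smul]

theorem eq_of_add_W (k : Type*) [Field k] [CharP k 2] {W : Type*} [AddCommGroup W] [Module k W] {x z : W}
    (h : x + z = 0) : x = z := by
  have h1 := add_self_W k z
  rw [← h1] at h
  exact add_right_cancel h

theorem act_C (M : Matrix (Fin 2) (Fin 2) k) (hM : M.det = 1) (β : Fin 2 → Fin 2 → W) :
    act M β 0 1 + act M β 1 0 = β 0 1 + β 1 0 := by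
  rw [Matrix.det_fin_two] at hM
  have h2 : (2 : k) = 0 := by
    have := CharP.cast_eq_zero k 2
    exact_mod_cast this
  unfold act
  simp only [Fin.sum_univ_two]
  have e0 : (M 0 0 * M 0 1) • β 0 0 + (M 0 1 * M 0 0) • β 0 0 = 0 := by
    rw [mul_comm (M 0 1)]; exact add_self_W k _
  have e1 : (M 1 0 * M 1 1) • β 1 1 + (M 1 1 * M 1 0) • β 1 1 = 0 := by
    rw [mul_comm (M 1 1)]; exact add_self_W k _
  have e2 : (M 0 0 * M 1 1) • β 0 1 + (M 0 1 * M 1 0) • β 0 1 = β 0 1 := by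
    rw [← add_smul, show M 0 0 * M 1 1 + M 0 1 * M 1 0 = 1 by linear_combination hM + (M 0 1 * M 1 0) * h2, one_smul]
  have e3 : (M 1 0 * M 0 1) • β 1 0 + (M 1 1 * M 0 0) • β 1 0 = β 1 0 := by
    rw [← add_smul, show M 1 0 * M 0 1 + M 1 1 * M 0 0 = 1 by linear_combination hM + (M 0 1 * M 1 0) * h2, one_smul]
  calc _ = ((M 0 0 * M 0 1) • β 0 0 + (M 0 1 * M 0 0) • β 0 0) + ((M 1 0 * M 1 1) • β 1 1 + (M 1 1 * M 1 0) • β 1 1) +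
        ((M 0 0 * M 1 1) • β 0 1 + (M 0 1 * M 1 0) • β 0 1) + ((M 1 0 * M 0 1) • β 1 0 + (M 1 1 * M 0 0) • β 1 0) := by abel
    _ = _ := by rw [e0, e1, e2, e3, zero_add, zero_add]

theorem act_D (M : Matrix (Fin 2) (Fin 2) k) {β : Fin 2 → Fin 2 → W} (h : β 0 1 = β 1 0) (a : Fin 2) :
    act M β a a = ∑ b, (M b a) ^ 2 • β b b := by
  unfold act
  simp only [Fin.sum_univ_two]
  have e1 : (M 0 a * M 1 a) • β 0 1 + (M 1 a * M 0 a) • β 1 0 = 0 := by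
    rw [h, mul_comm (M 1 a)]; exact add_self_W k _
  calc _ = (M 0 a * M 0 a) • β 0 0 + (M 1 a * M 1 a) • β 1 1 + ((M 0 a * M 1 a) • β 0 1 + (M 1 a * M 0 a) • β 1 0) := by
        abel
    _ = _ := by rw [e1, add_zero, pow_two, pow_two]

theorem act_E (M : Matrix (Fin 2) (Fin 2) k) (hM : M.det = 1) {β : Fin 2 → Fin 2 → W} (h0 : ∀ b, β b b = 0)
    (h : β 0 1 = β 1 0) : act M β 0 1 = β 0 1 := by
  rw [Matrix.det_fin_two] at hM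
  have h2 : (2 : k) = 0 := by
    have := CharP.cast_eq_zero k 2
    exact_mod_cast this
  unfold act
  simp only [Fin.sum_univ_two]
  rw [h0, h0, ← h, smul_zero, smul_zero, zero_add, add_zero, ← add_smul,
    show M 0 0 * M 1 1 + M 1 0 * M 0 1 = 1 by linear_combination hM + (M 0 1 * M 1 0) * h2, one_smul]

end Act

section Alt

variable {k : Type*} [Field k] [CharP k 2] {G : Type*} [Group G] {V : Type*} [AddCommGroup V] [Module k V]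
  {ρ : Representation k G V}

/-- the cases of an index -/
theorem fin2 (a a' : Fin 2) : a = a' ∨ (a = 0 ∧ a' = 1) ∨ (a = 1 ∧ a' = 0) := by
  (revert a a'; simp only [_root_.Fin.forall_fin_succ, Fin.isValue, _root_.zero_ne_one, _root_.and_false, _root_.and_true, _root_.false_or, _root_.Fin.succ_ne_zero, _root_.or_false, _root_.Fin.succ_zero_eq_one, _root_.IsEmpty.forall_iff, _root_.or_true, _root_.and_self])

/-- **one pair of indices** -/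
theorem alt1 {M : G → Matrix (Fin 2) (Fin 2) k} (hM : ∀ g, (M g).det = 1) {K : Fin 2 → Fin 2 → V}
    (hK : ∀ g a a', ρ g (K a a') = act (M g) K a a') (hs : ∀ a a', K a a' = K a' a) (ha : ∀ a, K a a = 0)
    (hfix : ∀ v, (∀ g, ρ g v = v) → v = 0) (a a' : Fin 2) : K a a' = 0 := by
  have h1 : K 0 1 = 0 := hfix _ fun g => by rw [hK, act_E _ (hM g) ha (hs 0 1)]
  rcases fin2 a a' with rfl | ⟨rfl, rfl⟩ | ⟨rfl, rfl⟩
  · exact ha _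
  · exact h1
  · rw [hs, h1]

/-- alternating arrays with two pairs of indices -/
structure Alt2 (ρ : Representation k G V) (M N : G → Matrix (Fin 2) (Fin 2) k) (X : Fin 2 → Fin 2 → Fin 2 → Fin 2 → V) :
    Prop where
  act : ∀ g a a' c c', ρ g (X a a' c c') = act (M g) (fun b b' => act (N g) (fun d d' => X b b' d d') c c') a a'
  sym : ∀ a a' c c', X a a' c c' = X a' a c' c
  alt : ∀ a c, X a a c c = 0

theorem Alt2.swap {M N : G → Matrix (Fin 2) (Fin 2) k} {X : Fin 2 → Fin 2 → Fin 2 → Fin 2 → V} (h : Alt2 ρ M N X) :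
    Alt2 ρ N M fun c c' a a' => X a a' c c' where
  act g c c' a a' := by rw [h.act, act_comm]
  sym c c' a a' := h.sym _ _ _ _
  alt c a := h.alt _ _

/-- no smaller families -/
structure No2 (ρ : Representation k G V) (M N : G → Matrix (Fin 2) (Fin 2) k) : Prop where
  fix : ∀ v, (∀ g, ρ g v = v) → v = 0
  m : ∀ w : Fin 2 → V, (∀ g a, ρ g (w a) = ∑ b, (M g b a) ^ 2 • w b) → ∀ a, w a = 0
  n : ∀ w : Fin 2 → V, (∀ g a, ρ g (w a) = ∑ b, (N g b a) ^ 2 • w b) → ∀ a, w a = 0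
  dm : ∀ g, (M g).det = 1
  dn : ∀ g, (N g).det = 1

theorem No2.swap {M N : G → Matrix (Fin 2) (Fin 2) k} (h : No2 ρ M N) : No2 ρ N M := ⟨h.fix, h.n, h.m, h.dn, h.dm⟩

/-- the contraction of the second pair: only fixed vectors are needed -/
theorem Alt2.contract {M N : G → Matrix (Fin 2) (Fin 2) k} {X : Fin 2 → Fin 2 → Fin 2 → Fin 2 → V} (h : Alt2 ρ M N X)
    (hM : ∀ g, (M g).det = 1) (hN : ∀ g, (N g).det = 1) (hfix : ∀ v, (∀ g, ρ g v = v) → v = 0) (a a' : Fin 2) :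
    X a a' 0 1 + X a a' 1 0 = 0 := by
  refine alt1 (K := fun a a' => X a a' 0 1 + X a a' 1 0) hM (fun g a a' => ?_) (fun a a' => ?_) (fun a => ?_) hfix a a'
  · rw [map_add, h.act, h.act, ← act_add]
    unfold L16.act
    refine Finset.sum_congr rfl fun b _ => Finset.sum_congr rfl fun b' _ => ?_
    congr 1
    exact act_C (N g) (hN g) (fun d d' => X b b' d d')
  · show X a a' 0 1 + X a a' 1 0 = X a' a 0 1 + X a' a 1 0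
    rw [h.sym a' a 0 1, h.sym a' a 1 0, add_comm]
  · show X a a 0 1 + X a a 1 0 = 0
    rw [h.sym a a 1 0]
    exact add_self_W k _

/-- the diagonal of the first pair vanishes -/
theorem Alt2.diag {M N : G → Matrix (Fin 2) (Fin 2) k} {X : Fin 2 → Fin 2 → Fin 2 → Fin 2 → V} (h : Alt2 ρ M N X)
    (no : No2 ρ M N) (a c c' : Fin 2) : X a a c c' = 0 := by
  have s2 : ∀ a a', X a a' 0 1 = X a a' 1 0 := fun a a' => eq_of_add_W k (h.contract no.dm no.dn no.fix a a')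
  have s1 : ∀ c c', X 0 1 c c' = X 1 0 c c' := fun c c' => eq_of_add_W k (h.swap.contract no.dn no.dm no.fix c c')
  have h1 : ∀ a, X a a 0 1 = 0 := by
    refine no.m (fun a => X a a 0 1) fun g a => ?_
    rw [h.act, act_D (M g) (β := fun b b' => L16.act (N g) (fun d d' => X b b' d d') 0 1)]
    · refine Finset.sum_congr rfl fun b _ => ?_
      rw [act_E (N g) (no.dn g) (β := fun d d' => X b b d d') (fun d => h.alt b d) (s2 b b)]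
    · show L16.act (N g) (X 0 1) 0 1 = L16.act (N g) (X 1 0) 0 1
      rw [show X 0 1 = X 1 0 from funext fun c => funext fun c' => s1 c c']
  rcases fin2 c c' with rfl | ⟨rfl, rfl⟩ | ⟨rfl, rfl⟩
  · exact h.alt _ _
  · exact h1 a
  · rw [← s2, h1]

/-- **two pairs of indices** -/
theorem Alt2.zero {M N : G → Matrix (Fin 2) (Fin 2) k} {X : Fin 2 → Fin 2 → Fin 2 → Fin 2 → V} (h : Alt2 ρ M N X)
    (no : No2 ρ M N) (a a' c c' : Fin 2) : X a a' c c' = 0 := by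
  have s2 : ∀ a a', X a a' 0 1 = X a a' 1 0 := fun a a' => eq_of_add_W k (h.contract no.dm no.dn no.fix a a')
  have s1 : ∀ c c', X 0 1 c c' = X 1 0 c c' := fun c c' => eq_of_add_W k (h.swap.contract no.dn no.dm no.fix c c')
  have d1 := h.diag no
  have d2 : ∀ a a' c, X a a' c c = 0 := fun a a' c => h.swap.diag no.swap c a a'
  have h1 : X 0 1 0 1 = 0 := by
    refine no.fix _ fun g => ?_
    rw [h.act, act_E (M g) (no.dm g) (β := fun b b' => L16.act (N g) (fun d d' => X b b' d d') 0 1)]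
    · exact act_E (N g) (no.dn g) (β := fun d d' => X 0 1 d d') (fun d => d2 0 1 d) (s2 0 1)
    · intro b
      exact act_zero _ (fun d d' => d1 b d d') _ _
    · show L16.act (N g) (X 0 1) 0 1 = L16.act (N g) (X 1 0) 0 1
      rw [show X 0 1 = X 1 0 from funext fun c => funext fun c' => s1 c c']
  rcases fin2 a a' with rfl | ⟨rfl, rfl⟩ | ⟨rfl, rfl⟩
  · exact d1 _ _ _
  · rcases fin2 c c' with rfl | ⟨rfl, rfl⟩ | ⟨rfl, rfl⟩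
    · exact d2 _ _ _
    · exact h1
    · rw [← s2, h1]
  · rw [← s1]
    rcases fin2 c c' with rfl | ⟨rfl, rfl⟩ | ⟨rfl, rfl⟩
    · exact d2 _ _ _
    · exact h1
    · rw [← s2, h1]

/-- alternating arrays with three pairs of indices -/
structure Alt3 (ρ : Representation k G V) (M N R : G → Matrix (Fin 2) (Fin 2) k)
    (X : Fin 2 → Fin 2 → Fin 2 → Fin 2 → Fin 2 → Fin 2 → V) : Prop where
  act : ∀ g a a' c c' e e', ρ g (X a a' c c' e e') = act (M g) (fun b b' => act (N g) (fun d d' =>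
    act (R g) (fun f f' => X b b' d d' f f') e e') c c') a a'
  sym : ∀ a a' c c' e e', X a a' c c' e e' = X a' a c' c e' e
  alt : ∀ a c e, X a a c c e e = 0

/-- no smaller families -/
structure No3 (ρ : Representation k G V) (M N R : G → Matrix (Fin 2) (Fin 2) k) : Prop where
  fix : ∀ v, (∀ g, ρ g v = v) → v = 0
  m : ∀ w : Fin 2 → V, (∀ g a, ρ g (w a) = ∑ b, (M g b a) ^ 2 • w b) → ∀ a, w a = 0
  n : ∀ w : Fin 2 → V, (∀ g a, ρ g (w a) = ∑ b, (N g b a) ^ 2 • w b) → ∀ a, w a = 0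
  r : ∀ w : Fin 2 → V, (∀ g a, ρ g (w a) = ∑ b, (R g b a) ^ 2 • w b) → ∀ a, w a = 0
  mn : ∀ w : Fin 2 → Fin 2 → V, (∀ g a c, ρ g (w a c) = ∑ b, ∑ d, ((M g b a) ^ 2 * (N g d c) ^ 2) • w b d) →
    ∀ a c, w a c = 0
  mr : ∀ w : Fin 2 → Fin 2 → V, (∀ g a c, ρ g (w a c) = ∑ b, ∑ d, ((M g b a) ^ 2 * (R g d c) ^ 2) • w b d) →
    ∀ a c, w a c = 0
  nr : ∀ w : Fin 2 → Fin 2 → V, (∀ g a c, ρ g (w a c) = ∑ b, ∑ d, ((N g b a) ^ 2 * (R g d c) ^ 2) • w b d) →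
    ∀ a c, w a c = 0
  dm : ∀ g, (M g).det = 1
  dn : ∀ g, (N g).det = 1
  dr : ∀ g, (R g).det = 1

theorem flip_no {M N : G → Matrix (Fin 2) (Fin 2) k}
    (h : ∀ w : Fin 2 → Fin 2 → V, (∀ g a c, ρ g (w a c) = ∑ b, ∑ d, ((M g b a) ^ 2 * (N g d c) ^ 2) • w b d) →
      ∀ a c, w a c = 0) (w : Fin 2 → Fin 2 → V)
    (hw : ∀ g a c, ρ g (w a c) = ∑ b, ∑ d, ((N g b a) ^ 2 * (M g d c) ^ 2) • w b d) (a c : Fin 2) : w a c = 0 := by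
  refine h (fun a c => w c a) (fun g a c => ?_) c a
  rw [hw, Finset.sum_comm]
  exact Finset.sum_congr rfl fun b _ => Finset.sum_congr rfl fun d _ => by rw [mul_comm]

theorem No3.swap12 {M N R : G → Matrix (Fin 2) (Fin 2) k} (h : No3 ρ M N R) : No3 ρ N M R :=
  ⟨h.fix, h.n, h.m, h.r, flip_no h.mn, h.nr, h.mr, h.dn, h.dm, h.dr⟩

theorem No3.swap23 {M N R : G → Matrix (Fin 2) (Fin 2) k} (h : No3 ρ M N R) : No3 ρ M R N :=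
  ⟨h.fix, h.m, h.r, h.n, h.mr, h.mn, flip_no h.nr, h.dm, h.dr, h.dn⟩

section

variable {M N R : G → Matrix (Fin 2) (Fin 2) k} {X : Fin 2 → Fin 2 → Fin 2 → Fin 2 → Fin 2 → Fin 2 → V}

theorem Alt3.swap12 (h : Alt3 ρ M N R X) : Alt3 ρ N M R fun c c' a a' e e' => X a a' c c' e e' where
  act g c c' a a' e e' := by rw [h.act, act_comm]
  sym c c' a a' e e' := h.sym _ _ _ _ _ _
  alt c a e := h.alt _ _ _

theorem Alt3.swap23 (h : Alt3 ρ M N R X) : Alt3 ρ M R N fun a a' e e' c c' => X a a' c c' e e' where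
  act g a a' e e' c c' := by
    rw [h.act]
    unfold L16.act
    refine Finset.sum_congr rfl fun b _ => Finset.sum_congr rfl fun b' _ => ?_
    congr 1
    exact act_comm (N g) (R g) (fun d d' f f' => X b b' d d' f f') c c' e e'
  sym a a' e e' c c' := h.sym _ _ _ _ _ _
  alt a e c := h.alt _ _ _

/-- symmetric in the third pair -/
theorem Alt3.s3 (h : Alt3 ρ M N R X) (no : No3 ρ M N R) (a a' c c' : Fin 2) : X a a' c c' 0 1 = X a a' c c' 1 0 := by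
  apply eq_of_add_W k
  have h2 : Alt2 ρ M N fun a a' c c' => X a a' c c' 0 1 + X a a' c c' 1 0 := by
    refine ⟨fun g a a' c c' => ?_, fun a a' c c' => ?_, fun a c => ?_⟩
    · rw [map_add, h.act, h.act, ← act_add]
      unfold L16.act
      refine Finset.sum_congr rfl fun b _ => Finset.sum_congr rfl fun b' _ => ?_
      congr 1
      show L16.act (N g) (fun d d' => L16.act (R g) (fun f f' => X b b' d d' f f') 0 1) c c' +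
        L16.act (N g) (fun d d' => L16.act (R g) (fun f f' => X b b' d d' f f') 1 0) c c' =
        L16.act (N g) (fun d d' => X b b' d d' 0 1 + X b b' d d' 1 0) c c'
      rw [← act_add]
      unfold L16.act
      refine Finset.sum_congr rfl fun d _ => Finset.sum_congr rfl fun d' _ => ?_
      congr 1
      exact act_C (R g) (no.dr g) (fun f f' => X b b' d d' f f')
    · show X a a' c c' 0 1 + X a a' c c' 1 0 = X a' a c' c 0 1 + X a' a c' c 1 0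
      rw [h.sym a' a c' c 0 1, h.sym a' a c' c 1 0, add_comm]
    · show X a a c c 0 1 + X a a c c 1 0 = 0
      rw [h.sym a a c c 1 0]
      exact add_self_W k _
  exact h2.zero ⟨no.fix, no.m, no.n, no.dm, no.dn⟩ a a' c c'

theorem Alt3.s2 (h : Alt3 ρ M N R X) (no : No3 ρ M N R) (a a' e e' : Fin 2) : X a a' 0 1 e e' = X a a' 1 0 e e' :=
  h.swap23.s3 no.swap23 a a' e e'

theorem Alt3.s1 (h : Alt3 ρ M N R X) (no : No3 ρ M N R) (c c' e e' : Fin 2) : X 0 1 c c' e e' = X 1 0 c c' e e' :=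
  h.swap12.s2 no.swap12 c c' e e'

/-- the diagonal of the first two pairs -/
theorem Alt3.d12 (h : Alt3 ρ M N R X) (no : No3 ρ M N R) (a c e e' : Fin 2) : X a a c c e e' = 0 := by
  have s3 := h.s3 no
  have h1 : ∀ a c, X a a c c 0 1 = 0 := by
    refine no.mn (fun a c => X a a c c 0 1) fun g a c => ?_
    rw [h.act, act_D (M g) (β := fun b b' => L16.act (N g) (fun d d' =>
      L16.act (R g) (fun f f' => X b b' d d' f f') 0 1) c c)]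
    · refine Finset.sum_congr rfl fun b _ => ?_
      rw [act_D (N g) (β := fun d d' => L16.act (R g) (fun f f' => X b b d d' f f') 0 1), Finset.smul_sum]
      · refine Finset.sum_congr rfl fun d _ => ?_
        rw [act_E (R g) (no.dr g) (β := fun f f' => X b b d d f f') (fun f => h.alt b d f) (s3 b b d d), smul_smul]
      · show L16.act (R g) (X b b 0 1) 0 1 = L16.act (R g) (X b b 1 0) 0 1
        rw [show X b b 0 1 = X b b 1 0 from funext fun f => funext fun f' => h.s2 no b b f f']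
    · have e1 : X 0 1 = X 1 0 := funext fun d => funext fun d' => funext fun f => funext fun f' => h.s1 no d d' f f'
      show L16.act (N g) (fun d d' => L16.act (R g) (X 0 1 d d') 0 1) c c =
        L16.act (N g) (fun d d' => L16.act (R g) (X 1 0 d d') 0 1) c c
      rw [e1]
  rcases fin2 e e' with rfl | ⟨rfl, rfl⟩ | ⟨rfl, rfl⟩
  · exact h.alt _ _ _
  · exact h1 a c
  · rw [← s3, h1]

theorem Alt3.d13 (h : Alt3 ρ M N R X) (no : No3 ρ M N R) (a c c' e : Fin 2) : X a a c c' e e = 0 :=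
  h.swap23.d12 no.swap23 a e c c'

/-- the diagonal of the first pair -/
theorem Alt3.d1 (h : Alt3 ρ M N R X) (no : No3 ρ M N R) (a c c' e e' : Fin 2) : X a a c c' e e' = 0 := by
  have s3 := h.s3 no
  have s2 := h.s2 no
  have h1 : ∀ a, X a a 0 1 0 1 = 0 := by
    refine no.m (fun a => X a a 0 1 0 1) fun g a => ?_
    rw [h.act, act_D (M g) (β := fun b b' => L16.act (N g) (fun d d' =>
      L16.act (R g) (fun f f' => X b b' d d' f f') 0 1) 0 1)]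
    · refine Finset.sum_congr rfl fun b _ => ?_
      rw [act_E (N g) (no.dn g) (β := fun d d' => L16.act (R g) (fun f f' => X b b d d' f f') 0 1)]
      · rw [act_E (R g) (no.dr g) (β := fun f f' => X b b 0 1 f f') (fun f => h.d13 no b 0 1 f) (s3 b b 0 1)]
      · intro d
        exact act_zero _ (fun f f' => h.d12 no b d f f') _ _
      · show L16.act (R g) (X b b 0 1) 0 1 = L16.act (R g) (X b b 1 0) 0 1
        rw [show X b b 0 1 = X b b 1 0 from funext fun f => funext fun f' => s2 b b f f']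
    · have e1 : X 0 1 = X 1 0 := funext fun d => funext fun d' => funext fun f => funext fun f' => h.s1 no d d' f f'
      show L16.act (N g) (fun d d' => L16.act (R g) (X 0 1 d d') 0 1) 0 1 =
        L16.act (N g) (fun d d' => L16.act (R g) (X 1 0 d d') 0 1) 0 1
      rw [e1]
  rcases fin2 c c' with rfl | ⟨rfl, rfl⟩ | ⟨rfl, rfl⟩
  · exact h.d12 no _ _ _ _
  · rcases fin2 e e' with rfl | ⟨rfl, rfl⟩ | ⟨rfl, rfl⟩
    · exact h.d13 no _ _ _ _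
    · exact h1 a
    · rw [← s3, h1]
  · rw [← s2]
    rcases fin2 e e' with rfl | ⟨rfl, rfl⟩ | ⟨rfl, rfl⟩
    · exact h.d13 no _ _ _ _
    · exact h1 a
    · rw [← s3, h1]

theorem Alt3.d2 (h : Alt3 ρ M N R X) (no : No3 ρ M N R) (a a' c e e' : Fin 2) : X a a' c c e e' = 0 :=
  h.swap12.d1 no.swap12 c a a' e e'

theorem Alt3.d3 (h : Alt3 ρ M N R X) (no : No3 ρ M N R) (a a' c c' e : Fin 2) : X a a' c c' e e = 0 :=
  h.swap23.d2 no.swap23 a a' e c c'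

/-- **three pairs of indices** -/
theorem Alt3.zero (h : Alt3 ρ M N R X) (no : No3 ρ M N R) (a a' c c' e e' : Fin 2) : X a a' c c' e e' = 0 := by
  have s3 := h.s3 no
  have s2 := h.s2 no
  have s1 := h.s1 no
  have h1 : X 0 1 0 1 0 1 = 0 := by
    refine no.fix _ fun g => ?_
    rw [h.act, act_E (M g) (no.dm g) (β := fun b b' => L16.act (N g) (fun d d' =>
      L16.act (R g) (fun f f' => X b b' d d' f f') 0 1) 0 1)]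
    · rw [act_E (N g) (no.dn g) (β := fun d d' => L16.act (R g) (fun f f' => X 0 1 d d' f f') 0 1)]
      · exact act_E (R g) (no.dr g) (β := fun f f' => X 0 1 0 1 f f') (fun f => h.d3 no 0 1 0 1 f) (s3 0 1 0 1)
      · intro d
        exact act_zero _ (fun f f' => h.d2 no 0 1 d f f') _ _
      · show L16.act (R g) (X 0 1 0 1) 0 1 = L16.act (R g) (X 0 1 1 0) 0 1
        rw [show X 0 1 0 1 = X 0 1 1 0 from funext fun f => funext fun f' => s2 0 1 f f']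
    · intro b
      exact act_zero _ (fun d d' => act_zero _ (fun f f' => h.d1 no b d d' f f') _ _) _ _
    · have e1 : X 0 1 = X 1 0 := funext fun d => funext fun d' => funext fun f => funext fun f' => s1 d d' f f'
      show L16.act (N g) (fun d d' => L16.act (R g) (X 0 1 d d') 0 1) 0 1 =
        L16.act (N g) (fun d d' => L16.act (R g) (X 1 0 d d') 0 1) 0 1
      rw [e1]
  have h2 : ∀ e e', X 0 1 0 1 e e' = 0 := by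
    intro e e'
    rcases fin2 e e' with rfl | ⟨rfl, rfl⟩ | ⟨rfl, rfl⟩
    · exact h.d3 no _ _ _ _ _
    · exact h1
    · rw [← s3, h1]
  have h3 : ∀ c c' e e', X 0 1 c c' e e' = 0 := by
    intro c c' e e'
    rcases fin2 c c' with rfl | ⟨rfl, rfl⟩ | ⟨rfl, rfl⟩
    · exact h.d2 no _ _ _ _ _
    · exact h2 _ _
    · rw [← s2, h2]
  rcases fin2 a a' with rfl | ⟨rfl, rfl⟩ | ⟨rfl, rfl⟩
  · exact h.d1 no _ _ _ _ _
  · exact h3 _ _ _ _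
  · rw [← s1, h3]

end

end Alt

end Cfsg.Agent.H280.L16
end

-- part: H280/L16/Brk
section
/-!
# S5916: the bracket of families (helper280)

`br` bilinear, alternating, invariant. `ss1`, `ss2`, `ss3`: the vectors of a family commute if there are no smaller
families. `half`: the half invariants.
-/

set_option autoImplicit false
set_option linter.unusedSectionVars false

namespace Cfsg.Agent.H280.L16

open Matrix

variable {k : Type*} [Field k] [CharP k 2] {F : Type*} [Field F]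
  {P : _root_.Matrix.SpecialLinearGroup (Fin 2) F →* Matrix (Fin 2) (Fin 2) k}
  {V : Type*} [AddCommGroup V] [Module k V] {ρ : Representation k (_root_.Matrix.SpecialLinearGroup (Fin 2) F) V}

/-- an invariant alternating bracket -/
structure Brk (ρ : Representation k (_root_.Matrix.SpecialLinearGroup (Fin 2) F) V) (br : V →ₗ[k] V →ₗ[k] V) : Prop where
  inv : ∀ g u v, ρ g (br u v) = br (ρ g u) (ρ g v)
  alt : ∀ v, br v v = 0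

variable {br : V →ₗ[k] V →ₗ[k] V}

theorem Brk.comm (h : Brk ρ br) (u v : V) : br u v = br v u := by
  have h1 := h.alt (u + v)
  simp only [map_add, LinearMap.add_apply, h.alt, zero_add, add_zero] at h1
  rw [add_comm] at h1
  exact eq_of_add_W k h1

variable (P) in
/-- the matrix of exponent `i` -/
def PM (i : ℕ) (g : _root_.Matrix.SpecialLinearGroup (Fin 2) F) : Matrix (Fin 2) (Fin 2) k := Matrix.of fun a b => (P g a b) ^ 2 ^ i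

theorem PM_apply (i : ℕ) (g : _root_.Matrix.SpecialLinearGroup (Fin 2) F) (a b : Fin 2) : PM P i g a b = (P g a b) ^ 2 ^ i := rfl

theorem det_PM (hdet : ∀ s, P s 0 0 * P s 1 1 - P s 0 1 * P s 1 0 = 1) (i : ℕ) (g : _root_.Matrix.SpecialLinearGroup (Fin 2) F) :
    (PM P i g).det = 1 := by
  rw [Matrix.det_fin_two, PM_apply, PM_apply, PM_apply, PM_apply, ← mul_pow, ← mul_pow, ← sub_pow_char_pow, hdet,
    one_pow]

theorem PM_sq (i : ℕ) (g : _root_.Matrix.SpecialLinearGroup (Fin 2) F) (a b : Fin 2) : (PM P i g a b) ^ 2 = (P g a b) ^ 2 ^ (i + 1) := by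
  rw [PM_apply, ← pow_mul, ← pow_succ]

/-! ### one index -/

theorem act_fam1 (h : Brk ρ br) {i : ℕ} {w : Fin 2 → V} (hw : Fam1 P ρ i w) (g : _root_.Matrix.SpecialLinearGroup (Fin 2) F)
    (a a' : Fin 2) : ρ g (br (w a) (w a')) = act (PM P i g) (fun b b' => br (w b) (w b')) a a' := by
  rw [h.inv, hw, hw]
  unfold act
  simp only [map_sum, LinearMap.sum_apply, map_smul, LinearMap.smul_apply, PM_apply, smul_smul, Finset.smul_sum]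
  rw [Finset.sum_comm]
  refine Finset.sum_congr rfl fun b _ => Finset.sum_congr rfl fun b' _ => ?_
  rw [mul_comm]

variable (hdet : ∀ s, P s 0 0 * P s 1 1 - P s 0 1 * P s 1 0 = 1) (hfix : ∀ v, (∀ g, ρ g v = v) → v = 0)

include hdet hfix

theorem ss1 (h : Brk ρ br) {i : ℕ} {w : Fin 2 → V} (hw : Fam1 P ρ i w) (a a' : Fin 2) : br (w a) (w a') = 0 :=
  alt1 (K := fun a a' => br (w a) (w a')) (det_PM hdet i) (fun g a a' => act_fam1 h hw g a a')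
    (fun _ _ => h.comm _ _) (fun _ => h.alt _) hfix a a'

/-! ### two indices -/

omit hdet hfix in
theorem alt_fam2 (h : Brk ρ br) {i j : ℕ} {w : Fin 2 → Fin 2 → V} (hw : Fam2 P ρ i j w) :
    Alt2 ρ (PM P i) (PM P j) fun a a' c c' => br (w a c) (w a' c') where
  act g a a' c c' := by
    rw [h.inv, hw, hw]
    unfold act
    simp only [map_sum, LinearMap.sum_apply, map_smul, LinearMap.smul_apply, PM_apply, smul_smul, Finset.smul_sum]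
    have e : ∀ T : Fin 2 → Fin 2 → Fin 2 → Fin 2 → V, ∑ b, ∑ d, ∑ b', ∑ d', T b d b' d' =
        ∑ b', ∑ b, ∑ d', ∑ d, T b d b' d' := by
      intro T
      simp only [Fin.sum_univ_two]
      abel
    rw [e]
    refine Finset.sum_congr rfl fun b _ => Finset.sum_congr rfl fun b' _ => Finset.sum_congr rfl fun d _ =>
      Finset.sum_congr rfl fun d' _ => ?_
    congr 1
    ring
  sym a a' c c' := h.comm _ _
  alt a c := h.alt _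

theorem ss2 (h : Brk ρ br) {i j : ℕ} (n1 : ∀ w, Fam1 P ρ (i + 1) w → w = 0) (n2 : ∀ w, Fam1 P ρ (j + 1) w → w = 0)
    {w : Fin 2 → Fin 2 → V} (hw : Fam2 P ρ i j w) (a c a' c' : Fin 2) : br (w a c) (w a' c') = 0 := by
  refine (alt_fam2 h hw).zero ⟨hfix, fun w hw => ?_, fun w hw => ?_, det_PM hdet i, det_PM hdet j⟩ a a' c c'
  · exact congrFun (n1 w fun g a => by rw [hw]; simp only [PM_sq])
  · exact congrFun (n2 w fun g a => by rw [hw]; simp only [PM_sq])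

/-- **the half invariant** -/
theorem half2 (h : Brk ρ br) {i j : ℕ} {z : Fin 2 → Fin 2 → V} (hz : Fam2 P ρ i j z) :
    br (z 0 0) (z 1 1) + br (z 0 1) (z 1 0) = 0 :=
  (alt_fam2 h hz).contract (det_PM hdet i) (det_PM hdet j) hfix 0 1

/-! ### three indices -/

omit hdet hfix in
theorem alt_fam3 (h : Brk ρ br) {i j l : ℕ} {w : Fin 2 → Fin 2 → Fin 2 → V} (hw : Fam3 P ρ i j l w) :
    Alt3 ρ (PM P i) (PM P j) (PM P l) fun a a' c c' e e' => br (w a c e) (w a' c' e') where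
  act g a a' c c' e e' := by
    rw [h.inv, hw, hw]
    unfold act
    simp only [map_sum, LinearMap.sum_apply, map_smul, LinearMap.smul_apply, PM_apply, smul_smul, Finset.smul_sum]
    have e0 : ∀ T : Fin 2 → Fin 2 → Fin 2 → Fin 2 → Fin 2 → Fin 2 → V,
        ∑ b, ∑ d, ∑ f, ∑ b', ∑ d', ∑ f', T b d f b' d' f' =
        ∑ b', ∑ b, ∑ d', ∑ d, ∑ f', ∑ f, T b d f b' d' f' := by
      intro T
      simp only [Fin.sum_univ_two]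
      abel
    rw [e0]
    refine Finset.sum_congr rfl fun b _ => Finset.sum_congr rfl fun b' _ => Finset.sum_congr rfl fun d _ =>
      Finset.sum_congr rfl fun d' _ => Finset.sum_congr rfl fun f _ => Finset.sum_congr rfl fun f' _ => ?_
    congr 1
    ring
  sym a a' c c' e e' := h.comm _ _
  alt a c e := h.alt _

theorem ss3 (h : Brk ρ br) {i j l : ℕ} (n1 : ∀ m w, Fam1 P ρ m w → w = 0)
    (n2 : ∀ w, Fam2 P ρ (i + 1) (j + 1) w → w = 0) (n3 : ∀ w, Fam2 P ρ (i + 1) (l + 1) w → w = 0)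
    (n4 : ∀ w, Fam2 P ρ (j + 1) (l + 1) w → w = 0) {w : Fin 2 → Fin 2 → Fin 2 → V} (hw : Fam3 P ρ i j l w)
    (a c e a' c' e' : Fin 2) : br (w a c e) (w a' c' e') = 0 := by
  have k1 : ∀ m, ∀ w : Fin 2 → V, (∀ g a, ρ g (w a) = ∑ b, (PM P m g b a) ^ 2 • w b) → ∀ a, w a = 0 := by
    intro m w hw
    exact congrFun (n1 (m + 1) w fun g a => by rw [hw]; simp only [PM_sq])
  have k2 : ∀ m n, (∀ w, Fam2 P ρ (m + 1) (n + 1) w → w = 0) → ∀ w : Fin 2 → Fin 2 → V,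
      (∀ g a c, ρ g (w a c) = ∑ b, ∑ d, ((PM P m g b a) ^ 2 * (PM P n g d c) ^ 2) • w b d) → ∀ a c, w a c = 0 := by
    intro m n hn w hw a c
    exact congrFun (congrFun (hn w fun g a c => by rw [hw]; simp only [PM_sq]) a) c
  exact (alt_fam3 h hw).zero ⟨hfix, k1 i, k1 j, k1 l, k2 i j n2, k2 i l n3, k2 j l n4, det_PM hdet i, det_PM hdet j,
    det_PM hdet l⟩ a a' c c' e e'

/-! ### the half invariant of a family with many indices -/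

omit hdet hfix in
/-- the contraction property of `PM` -/
theorem PM_contr (hdet : ∀ s, P s 0 0 * P s 1 1 - P s 0 1 * P s 1 0 = 1) (i : ℕ) (g : _root_.Matrix.SpecialLinearGroup (Fin 2) F)
    (y u : Fin 2) : ∑ x, PM P i g y x * PM P i g u (1 - x) = if u = 1 - y then 1 else 0 := by
  have h1 := det_PM hdet i g
  rw [Matrix.det_fin_two] at h1
  have h2 : (2 : k) = 0 := by
    have := CharP.cast_eq_zero k 2
    exact_mod_cast this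
  rw [Fin.sum_univ_two]
  fin_cases y <;> fin_cases u
  · show PM P i g 0 0 * PM P i g 0 1 + PM P i g 0 1 * PM P i g 0 0 = 0
    linear_combination (PM P i g 0 0 * PM P i g 0 1) * h2
  · show PM P i g 0 0 * PM P i g 1 1 + PM P i g 0 1 * PM P i g 1 0 = 1
    linear_combination h1 + (PM P i g 0 1 * PM P i g 1 0) * h2
  · show PM P i g 1 0 * PM P i g 0 1 + PM P i g 1 1 * PM P i g 0 0 = 1
    linear_combination h1 + (PM P i g 0 1 * PM P i g 1 0) * h2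
  · show PM P i g 1 0 * PM P i g 1 1 + PM P i g 1 1 * PM P i g 1 0 = 0
    linear_combination (PM P i g 1 0 * PM P i g 1 1) * h2

omit hdet hfix in
/-- the general contraction -/
theorem contr {X : Type*} [Fintype X] [DecidableEq X] {σ : X → X} {N : Matrix X X k}
    (hN : ∀ y u, ∑ x, N y x * N u (σ x) = if u = σ y then 1 else 0) (f f' : X → V) (br : V →ₗ[k] V →ₗ[k] V) :
    ∑ x, br (∑ y, N y x • f y) (∑ u, N u (σ x) • f' u) = ∑ y, br (f y) (f' (σ y)) := by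
  have e1 : ∀ x, br (∑ y, N y x • f y) (∑ u, N u (σ x) • f' u) = ∑ y, ∑ u, (N y x * N u (σ x)) • br (f y) (f' u) := by
    intro x
    simp only [map_sum, LinearMap.sum_apply, map_smul, LinearMap.smul_apply, smul_smul, Finset.smul_sum]
    rw [Finset.sum_comm]
    refine Finset.sum_congr rfl fun y _ => Finset.sum_congr rfl fun u _ => ?_
    rw [mul_comm]
  rw [Finset.sum_congr rfl fun x _ => e1 x, Finset.sum_comm]
  refine Finset.sum_congr rfl fun y _ => ?_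
  rw [Finset.sum_comm]
  have e2 : ∀ u, ∑ x, (N y x * N u (σ x)) • br (f y) (f' u) = if u = σ y then br (f y) (f' u) else 0 := by
    intro u
    rw [← Finset.sum_smul, hN]
    split
    · rw [one_smul]
    · rw [zero_smul]
  rw [Finset.sum_congr rfl fun u _ => e2 u, Finset.sum_ite_eq' Finset.univ (σ y), if_pos (Finset.mem_univ _)]

/-- **the half invariant, general form** -/
theorem halfX (h : Brk ρ br) {X : Type*} [Fintype X] [DecidableEq X] {σ : X → X} (hσ : ∀ x, σ (σ x) = x)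
    (hσ' : ∀ x, σ x ≠ x) {i : ℕ} {N : _root_.Matrix.SpecialLinearGroup (Fin 2) F → Matrix X X k}
    (hN : ∀ g y u, ∑ x, N g y x * N g u (σ x) = if u = σ y then 1 else 0) {z : Fin 2 → X → V}
    (hz : ∀ g a x, ρ g (z a x) = ∑ b, (P g b a) ^ 2 ^ i • ∑ y, N g y x • z b y) :
    ∑ x, br (z 0 x) (z 1 (σ x)) = 0 := by
  refine alt1 (K := fun a a' => ∑ x, br (z a x) (z a' (σ x))) (det_PM hdet i) (fun g a a' => ?_) (fun a a' => ?_)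
    (fun a => ?_) hfix 0 1
  · rw [map_sum]
    have e1 : ∀ a x, ρ g (z a x) = ∑ y, N g y x • ∑ b, (P g b a) ^ 2 ^ i • z b y := by
      intro a x
      rw [hz]
      simp only [Finset.smul_sum]
      rw [Finset.sum_comm]
      refine Finset.sum_congr rfl fun y _ => Finset.sum_congr rfl fun b _ => ?_
      rw [smul_comm]
    have e2 : ∀ x, ρ g (br (z a x) (z a' (σ x))) = br (∑ y, N g y x • ∑ b, (P g b a) ^ 2 ^ i • z b y)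
        (∑ u, N g u (σ x) • ∑ b, (P g b a') ^ 2 ^ i • z b u) := by
      intro x
      rw [h.inv, e1, e1]
    rw [Finset.sum_congr rfl fun x _ => e2 x, contr (hN g)]
    unfold act
    simp only [map_sum, LinearMap.sum_apply, map_smul, LinearMap.smul_apply, PM_apply, smul_smul, Finset.smul_sum]
    rw [Finset.sum_comm]
    have e3 : ∀ T : Fin 2 → X → Fin 2 → V, ∑ b', ∑ y, ∑ b, T b' y b = ∑ b, ∑ b', ∑ y, T b' y b := by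
      intro T
      rw [Finset.sum_comm' (t' := Finset.univ) (s' := fun _ => Finset.univ) (by simp only [_root_.Finset.mem_univ, _root_.and_self, _root_.implies_true])]
      rw [Finset.sum_congr rfl fun y _ => Finset.sum_comm, Finset.sum_comm]
      refine Finset.sum_congr rfl fun b _ => ?_
      rw [Finset.sum_comm]
    rw [e3]
    refine Finset.sum_congr rfl fun b _ => Finset.sum_congr rfl fun b' _ => Finset.sum_congr rfl fun y _ => ?_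
    rw [mul_comm]
  · show ∑ x, br (z a x) (z a' (σ x)) = ∑ x, br (z a' x) (z a (σ x))
    refine Fintype.sum_equiv ⟨σ, σ, hσ, hσ⟩ _ _ fun x => ?_
    show br (z a x) (z a' (σ x)) = br (z a' (σ x)) (z a (σ (σ x)))
    rw [hσ, h.comm]
  · refine Finset.sum_involution (fun x _ => σ x) (fun x _ => ?_) (fun x _ _ => hσ' x) (fun x _ => Finset.mem_univ _)
      (fun x _ => hσ x)
    rw [hσ, h.comm (z a (σ x))]
    exact add_self_W k _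

end Cfsg.Agent.H280.L16
end

-- part: H280/L16/EqG
section
/-!
# S5916: general facts for the equations of the families (helper280)
-/

set_option autoImplicit false
set_option linter.unusedSectionVars false

namespace Cfsg.Agent.H280.L16

open Matrix

/-- the index of a sign -/
def bi (b : Bool) : Fin 2 := if b then 0 else 1

theorem bi_not (b : Bool) : bi (!b) = 1 - bi b := by cases b <;> rfl

theorem sum_bi {M : Type*} [AddCommMonoid M] (f : Fin 2 → M) : ∑ b : Bool, f (bi b) = ∑ a, f a := by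
  rw [Fintype.sum_bool, Fin.sum_univ_two]
  rfl

section Gen

variable {k : Type*} [Field k] {F : Type*} [Field F] [Fintype F] {ι : F →+* k}
  {P : _root_.Matrix.SpecialLinearGroup (Fin 2) F →* Matrix (Fin 2) (Fin 2) k} {y t0 : _root_.Matrix.SpecialLinearGroup (Fin 2) F} {ζ : k}
  {V : Type*} [AddCommGroup V] [Module k V] {ρ : Representation k (_root_.Matrix.SpecialLinearGroup (Fin 2) F) V}

theorem no1_of (D : PDat ι P y t0 ζ) (h : ∀ i < 4, ∀ w : Fin 2 → V, Fam1 P ρ i w → w = 0) (m : ℕ) (w : Fin 2 → V)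
    (hw : Fam1 P ρ m w) : w = 0 := by
  induction m using Nat.strong_induction_on generalizing w with
  | _ m ih =>
    rcases lt_or_ge m 4 with hm | hm
    · exact h m hm w hw
    · obtain ⟨l, rfl⟩ := Nat.exists_eq_add_of_le hm
      rw [add_comm 4 l] at hw
      have h1 := ih l (by omega) _ (D.dn1.1 hw)
      funext a
      have h2 := congrFun h1 (1 - a)
      simpa using h2

theorem no2_of (D : PDat ι P y t0 ζ)
    (h : ∀ i < 4, ∀ j < 4, i ≠ j → ∀ w : Fin 2 → Fin 2 → V, Fam2 P ρ i j w → w = 0) (m n : ℕ) (hmn : m % 4 ≠ n % 4)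
    (w : Fin 2 → Fin 2 → V) (hw : Fam2 P ρ m n w) : w = 0 := by
  obtain ⟨s, hs⟩ : ∃ s, s = m + n := ⟨_, rfl⟩
  induction s using Nat.strong_induction_on generalizing m n w with
  | _ s ih =>
    subst hs
    rcases lt_or_ge m 4 with hm | hm
    · rcases lt_or_ge n 4 with hn | hn
      · exact h m hm n hn (by omega) w hw
      · obtain ⟨l, rfl⟩ := Nat.exists_eq_add_of_le hn
        rw [add_comm 4 l] at hw
        have h1 := ih (m + l) (by omega) m l (by omega) _ (D.dn2'.1 hw) rfl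
        funext a c
        have h2 := congrFun (congrFun h1 a) (1 - c)
        simpa using h2
    · obtain ⟨l, rfl⟩ := Nat.exists_eq_add_of_le hm
      rw [add_comm 4 l] at hw
      have h1 := ih (l + n) (by omega) l n (by omega) _ (D.dn2.1 hw) rfl
      funext a c
      have h2 := congrFun (congrFun h1 (1 - a)) c
      simpa using h2

theorem fam11 {br : V →ₗ[k] V →ₗ[k] V} (hinv : ∀ g u v, ρ g (br u v) = br (ρ g u) (ρ g v)) {i j : ℕ} {s t : Fin 2 → V}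
    (hs : Fam1 P ρ i s) (ht : Fam1 P ρ j t) : Fam2 P ρ i j fun a b => br (s a) (t b) := by
  intro g a c
  rw [hinv, hs, ht]
  simp only [map_sum, LinearMap.sum_apply, map_smul, LinearMap.smul_apply, smul_smul, Finset.smul_sum]
  rw [Finset.sum_comm]
  refine Finset.sum_congr rfl fun b _ => Finset.sum_congr rfl fun d _ => ?_
  rw [mul_comm]

variable [CharP k 2]

/-- the half invariant of `[s a b, t c d]` -/
theorem half22 (hdet : ∀ s, P s 0 0 * P s 1 1 - P s 0 1 * P s 1 0 = 1) (hfix : ∀ v, (∀ g, ρ g v = v) → v = 0)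
    {br : V →ₗ[k] V →ₗ[k] V} (h : Brk ρ br) {i j l m : ℕ} {s t : Fin 2 → Fin 2 → V} (hs : Fam2 P ρ i j s)
    (ht : Fam2 P ρ l m t) :
    ∑ b, ∑ c, ∑ d, br (br (s 0 b) (t c d)) (br (s 1 (1 - b)) (t (1 - c) (1 - d))) = 0 := by
  have h1 := halfX (P := P) (ρ := ρ) hdet hfix h (X := Fin 2 × Fin 2 × Fin 2) (σ := fun x => (1 - x.1, 1 - x.2.1, 1 - x.2.2))
    (by decide) (by decide) (i := i)
    (N := fun g => Matrix.of fun y x => PM P j g y.1 x.1 * (PM P l g y.2.1 x.2.1 * PM P m g y.2.2 x.2.2)) ?_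
    (z := fun a x => br (s a x.1) (t x.2.1 x.2.2)) ?_
  · simpa only [Fintype.sum_prod_type] using h1
  · intro g y u
    have e1 := PM_contr (P := P) hdet j g y.1 u.1
    have e2 := PM_contr (P := P) hdet l g y.2.1 u.2.1
    have e3 := PM_contr (P := P) hdet m g y.2.2 u.2.2
    have e4 : ∑ x : Fin 2 × Fin 2 × Fin 2, (PM P j g y.1 x.1 * (PM P l g y.2.1 x.2.1 * PM P m g y.2.2 x.2.2)) *
        (PM P j g u.1 (1 - x.1) * (PM P l g u.2.1 (1 - x.2.1) * PM P m g u.2.2 (1 - x.2.2))) =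
        (∑ x, PM P j g y.1 x * PM P j g u.1 (1 - x)) * ((∑ x, PM P l g y.2.1 x * PM P l g u.2.1 (1 - x)) *
          (∑ x, PM P m g y.2.2 x * PM P m g u.2.2 (1 - x))) := by
      rw [Fintype.sum_prod_type]
      simp only [Fintype.sum_prod_type, Fin.sum_univ_two]
      ring
    have e5 : (u = (1 - y.1, 1 - y.2.1, 1 - y.2.2)) = (u.1 = 1 - y.1 ∧ u.2.1 = 1 - y.2.1 ∧ u.2.2 = 1 - y.2.2) := by
      rw [Prod.ext_iff, Prod.ext_iff]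
    show ∑ x : Fin 2 × Fin 2 × Fin 2, (PM P j g y.1 x.1 * (PM P l g y.2.1 x.2.1 * PM P m g y.2.2 x.2.2)) *
        (PM P j g u.1 (1 - x.1) * (PM P l g u.2.1 (1 - x.2.1) * PM P m g u.2.2 (1 - x.2.2))) =
        if u = (1 - y.1, 1 - y.2.1, 1 - y.2.2) then 1 else 0
    rw [e4, e1, e2, e3]
    simp only [e5]
    split_ifs <;> simp_all only [_root_.Fin.isValue, _root_.Fin.sum_univ_two, _root_.sub_zero, _root_.sub_self, ↓ _root_.reduceIte, _root_.mul_one, _root_.and_self, _root_.eq_iff_iff, _root_.iff_true, _root_.not_true_eq_false, _root_.MulZeroClass.mul_zero, _root_.and_false, _root_.iff_false, _root_.not_false_eq_true, _root_.and_true]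
  · intro g a x
    show ρ g (br (s a x.1) (t x.2.1 x.2.2)) = ∑ b, (P g b a) ^ 2 ^ i • ∑ y : Fin 2 × Fin 2 × Fin 2,
      (PM P j g y.1 x.1 * (PM P l g y.2.1 x.2.1 * PM P m g y.2.2 x.2.2)) • br (s b y.1) (t y.2.1 y.2.2)
    rw [h.inv, hs, ht]
    simp only [Fintype.sum_prod_type, map_sum, LinearMap.sum_apply, map_smul, LinearMap.smul_apply, smul_smul,
      Finset.smul_sum, PM_apply]
    simp only [Fin.sum_univ_two]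
    module

end Gen

end Cfsg.Agent.H280.L16
end

-- part: H280/L16/Eqs
section
/-!
# S5916: the equations of the families (helper280)

`MinF P ρ n` (no fixed vectors, no families with fewer indices) gives literally the equations `SS1`, `INV1`, `SS2`, `INV2`,
`SIG`, `RAT`, `SS3`, `SA`, `SB` of `H955/L16/Stmt.lean` for every family with `n` indices.
-/

set_option autoImplicit false
set_option linter.unusedSectionVars false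
set_option maxRecDepth 100000

namespace Cfsg.Agent.H280.L16

open Matrix
open Cfsg.Agent.H939.L64 (KK LK brK brL brL_apply)
open Cfsg.Agent.H939.L16 (MinF)
open Cfsg.Agent.H955.L16 (SS1 INV1 SS2 INV2 SIG RAT SS3 SA SB sg)

theorem bi_true : bi true = 0 := rfl

theorem bi_false : bi false = 1 := rfl

section LKs

variable {F : Type} [Field F] [Fintype F] {ι : F →+* KK}
  {P : _root_.Matrix.SpecialLinearGroup (Fin 2) F →* Matrix (Fin 2) (Fin 2) KK} {y t0 : _root_.Matrix.SpecialLinearGroup (Fin 2) F} {ζ : KK}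
  {ρ : Representation KK (_root_.Matrix.SpecialLinearGroup (Fin 2) F) LK} {Fp : LK → LK}

/-- no family with one index -/
theorem minF_no1 (D : PDat ι P y t0 ζ) {n : ℕ} (h : MinF P ρ n) (hn : 1 < n) (m : ℕ) (w : Fin 2 → LK)
    (hw : Fam1 P ρ m w) : w = 0 := no1_of D (h.2.1 hn) m w hw

/-- no family with two indices -/
theorem minF_no2 (D : PDat ι P y t0 ζ) {n : ℕ} (h : MinF P ρ n) (hn : 2 < n) (m l : ℕ) (hml : m % 4 ≠ l % 4)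
    (w : Fin 2 → Fin 2 → LK) (hw : Fam2 P ρ m l w) : w = 0 := no2_of D (h.2.2 hn) m l hml w hw

variable (D : PDat ι P y t0 ζ) (hB : Brk ρ brL) (hF : FrM ρ Fp)
include D hB

/-- **SS1** -/
theorem eq_ss1 {n : ℕ} (h : MinF P ρ n) {i : ℕ} {w : Fin 2 → LK} (hw : Fam1 P ρ i w) : SS1 fun b => w (bi b) :=
  fun a b => ss1 D.det h.1 hB hw (bi a) (bi b)

/-- **SS2** -/
theorem eq_ss2 {n : ℕ} (h : MinF P ρ n) (hn : 1 < n) {i j : ℕ} {w : Fin 2 → Fin 2 → LK} (hw : Fam2 P ρ i j w) :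
    SS2 fun a b => w (bi a) (bi b) :=
  fun a b c d => ss2 D.det h.1 hB (minF_no1 D h hn _) (minF_no1 D h hn _) hw (bi a) (bi b) (bi c) (bi d)

/-- **SS3** -/
theorem eq_ss3 {n : ℕ} (h : MinF P ρ n) (hn : 2 < n) {i j l : ℕ} (hij : i % 4 ≠ j % 4) (hil : i % 4 ≠ l % 4)
    (hjl : j % 4 ≠ l % 4) {w : Fin 2 → Fin 2 → Fin 2 → LK} (hw : Fam3 P ρ i j l w) :
    SS3 fun a b c => w (bi a) (bi b) (bi c) :=
  fun a b c a' b' c' => ss3 D.det h.1 hB (minF_no1 D h (by omega)) (minF_no2 D h hn _ _ (by (clear * - hij; omega)))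
    (minF_no2 D h hn _ _ (by (clear * - hil; omega))) (minF_no2 D h hn _ _ (by omega)) hw (bi a) (bi b) (bi c) (bi a') (bi b') (bi c')

include hF

/-- **INV1** -/
theorem eq_inv1 {n : ℕ} (h : MinF P ρ n) {i : ℕ} {w : Fin 2 → LK} (hw : Fam1 P ρ i w) : INV1 Fp fun b => w (bi b) :=
  by
  have h1 := half2 D.det h.1 hB (fam11 hB.inv hw (hF.fam1 (hF.fam1 hw)))
  simp only [brL_apply] at h1
  unfold INV1
  simp only [bi_true, bi_false]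
  exact h1

/-- **INV2** -/
theorem eq_inv2 {n : ℕ} (h : MinF P ρ n) {i j : ℕ} {w : Fin 2 → Fin 2 → LK} (hw : Fam2 P ρ i j w) :
    INV2 Fp fun a b => w (bi a) (bi b) := by
  have h1 := half22 D.det h.1 hB hw (hF.fam2 (hF.fam2 hw))
  simp only [brL_apply] at h1
  unfold INV2
  simp only [bi_not, bi_true, bi_false]
  rw [sum_bi fun b => ∑ c : Bool, ∑ d : Bool, brK (brK (w 0 b) (Fp (Fp (w (bi c) (bi d)))))
    (brK (w 1 (1 - b)) (Fp (Fp (w (1 - bi c) (1 - bi d)))))]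
  refine Eq.trans (Finset.sum_congr rfl fun b _ => ?_) h1
  rw [sum_bi fun c => ∑ d : Bool, brK (brK (w 0 b) (Fp (Fp (w c (bi d)))))
    (brK (w 1 (1 - b)) (Fp (Fp (w (1 - c) (1 - bi d)))))]
  refine Finset.sum_congr rfl fun c _ => ?_
  rw [sum_bi fun d => brK (brK (w 0 b) (Fp (Fp (w c d)))) (brK (w 1 (1 - b)) (Fp (Fp (w (1 - c) (1 - d)))))]

/-- **SIG** -/
theorem eq_sig {n : ℕ} (h : MinF P ρ n) {i : ℕ} {w : Fin 2 → Fin 2 → LK} (hw : Fam2 P ρ i (i + 1) w) :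
    SIG Fp fun a b => w (bi a) (bi b) := by
  have h1 := Cfsg.Agent.H771.L16.con2 D hB.inv hw (hF.fam2 hw)
  have h2 := half2 D.det h.1 hB h1
  simp only [brL_apply] at h2
  have h3 : ∀ a d, sg Fp (fun a b => w (bi a) (bi b)) a d = ∑ b, brK (w (bi a) b) (Fp (w (1 - b) (bi d))) := by
    intro a d
    unfold sg
    simp only [bi_not]
    rw [sum_bi fun b => brK (w (bi a) b) (Fp (w (1 - b) (bi d)))]
  unfold SIG
  simp only [h3, bi_true, bi_false]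
  exact h2

/-- **SA** -/
theorem eq_sa {n : ℕ} (h : MinF P ρ n) (hn : 2 < n) {i : ℕ} {w : Fin 2 → Fin 2 → Fin 2 → LK}
    (hw : Fam3 P ρ i (i + 1) (i + 2) w) : SA Fp fun a b c => w (bi a) (bi b) (bi c) := by
  have h1 := Cfsg.Agent.H771.L16.con3a D hB.inv hw (hF.fam3 hw)
  have h2 := minF_no2 D h hn _ _ (by omega) _ h1
  intro a d
  simp only [bi_not]
  rw [sum_bi fun b => ∑ c : Bool, brK (w (bi a) b (bi c)) (Fp (w (1 - b) (1 - bi c) (bi d)))]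
  have h3 := congrFun (congrFun h2 (bi a)) (bi d)
  simp only [brL_apply] at h3
  refine Eq.trans (Finset.sum_congr rfl fun b _ => ?_) h3
  rw [sum_bi fun c => brK (w (bi a) b c) (Fp (w (1 - b) (1 - c) (bi d)))]

/-- **SB** -/
theorem eq_sb {n : ℕ} (h : MinF P ρ n) (hn : 2 < n) {i : ℕ} {w : Fin 2 → Fin 2 → Fin 2 → LK}
    (hw : Fam3 P ρ i (i + 1) (i + 2) w) : SB Fp fun a b c => w (bi a) (bi b) (bi c) := by
  have h1 := Cfsg.Agent.H771.L16.con3b D hB.inv hw (hF.fam3 (hF.fam3 hw))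
  have h2 := minF_no2 D h hn _ _ (by omega) _ h1
  intro b d
  simp only [bi_not]
  rw [sum_bi fun a => ∑ c : Bool, brK (w a (bi b) (bi c)) (Fp (Fp (w (1 - bi c) (bi d) a)))]
  have h3 := congrFun (congrFun h2 (bi b)) (bi d)
  simp only [brL_apply] at h3
  refine Eq.trans (Finset.sum_congr rfl fun a _ => ?_) h3
  rw [sum_bi fun c => brK (w a (bi b) c) (Fp (Fp (w (1 - c) (bi d) a)))]

omit D hB hF

end LKs

end Cfsg.Agent.H280.L16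
end

-- part: H771/L16/Bridge
section
/-!
# S5916 (helper771): the representation `rz z f`, the bracket and the Frobenius map

`frM` : `FrM (rz z f) Fp`; `inv_brM` : the bracket is invariant; `br_self` : `[v, v] = 0`.
-/

set_option autoImplicit false
set_option maxRecDepth 100000

namespace Cfsg.Agent.H771.L16

open Matrix Cfsg Cfsg.Lie
open Cfsg.Agent.H939.L64 (KK E2 LK em aK rE fr brK)
open Cfsg.Agent.H939.L16
open Cfsg.Agent.H413.L16 (brM jac ad_inj)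
open Cfsg.Agent.H280.L16 (FrM)

/-- the bracket is alternating -/
theorem br_self (v : LK) : brK v v = 0 := by
  apply ad_inj
  intro z
  have h := jac v v z
  exact (right_eq_add.1 h)

theorem aK_mul (g h : ↥(chevE8.group KK)) (v : LK) : aK (g * h) v = aK g (aK h v) := by
  unfold aK
  rw [Subgroup.coe_mul, Units.val_mul, Matrix.mulVec_mulVec]

theorem aK_one (v : LK) : aK 1 v = v := by
  unfold aK
  rw [Subgroup.coe_one, Units.val_one, Matrix.one_mulVec]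

theorem aK_brK (g : ↥(chevE8.group KK)) (v w : LK) : aK g (brK v w) = brK (aK g v) (aK g w) :=
  Cfsg.Agent.H971.RV.rho_br (by simp) g v w

section

variable {F : Type} [Field F] (z : ↥(chevE8.group KK)) (f : _root_.Matrix.SpecialLinearGroup (Fin 2) F →* E2)

variable {z f}

end

end Cfsg.Agent.H771.L16
end

-- part: H280/L16/ModF
section
/-!
# S5916: `MinF` gives `ModF` (helper280)
-/

set_option autoImplicit false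
set_option linter.unusedSectionVars false
set_option maxRecDepth 100000

namespace Cfsg.Agent.H280.L16

open Matrix Cfsg Cfsg.Lie
open Cfsg.Agent.H939.L64 (KK LK E2 brK brL brL_apply)
open Cfsg.Agent.H939.L16 (MinF Fsit rz)
open Cfsg.Agent.H911.L16 (ModF)

variable {F : Type} [Field F] [Fintype F] {ι : F →+* KK}
  {P : _root_.Matrix.SpecialLinearGroup (Fin 2) F →* Matrix (Fin 2) (Fin 2) KK} {y t0 : _root_.Matrix.SpecialLinearGroup (Fin 2) F} {ζ : KK}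
  {ρ : Representation KK (_root_.Matrix.SpecialLinearGroup (Fin 2) F) LK} {Fp : LK → LK}

/-- all vectors of a non-zero family of type `(0, 1, 2)` are non-zero -/
theorem fam3_ne (D : PDat ι P y t0 ζ) {w : Fin 2 → Fin 2 → Fin 2 → LK} (hw : Fam3 P ρ 0 1 2 w) (hw0 : w ≠ 0)
    (a c e : Fin 2) : w a c e ≠ 0 := by
  classical
  have h1 := (Cfsg.Agent.H493.L16.simp_of_fam3 D (i := 0) (j := 1) (l := 2) (by norm_num) (by norm_num) (by norm_num) hw hw0).2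
  have h2 : LinearIndependent KK fun a : Fin 2 × Fin 2 × Fin 2 => w a.1 a.2.1 a.2.2 := by
    rw [linearIndependent_iff_card_eq_finrank_span]
    unfold Set.finrank
    rw [h1]
    rfl
  exact h2.ne_zero (a, c, e)

/-- **all equations** -/
theorem modF_of (D : PDat ι P y t0 ζ) (hB : Brk ρ brL) (hF : FrM ρ Fp) {n : ℕ} (h : MinF P ρ n) :
    ModF Fp P ρ n where
  one := by
    rintro rfl w hw
    exact ⟨eq_ss1 D hB h hw, eq_inv1 D hB hF h hw⟩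
  two1 := by
    rintro rfl w hw
    exact ⟨eq_ss2 D hB h (by norm_num) hw, eq_inv2 D hB hF h hw, eq_sig D hB hF h hw⟩
  two2 := by
    rintro rfl w hw
    exact eq_ss2 D hB h (by norm_num) hw
  three := by
    rintro rfl w hw
    exact ⟨eq_ss3 D hB h (by norm_num) (by norm_num) (by norm_num) (by norm_num) hw,
      eq_sa D hB hF h (by norm_num) hw, eq_sb D hB hF h (by norm_num) hw, fun h0 => fam3_ne D hw h0⟩

theorem brk_rz (z : ↥(chevE8.group KK)) (f : _root_.Matrix.SpecialLinearGroup (Fin 2) F →* E2) : Brk (rz z f) brL where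
  inv s u v := Cfsg.Agent.H771.L16.aK_brK _ u v
  alt v := Cfsg.Agent.H771.L16.br_self v

open Cfsg.Agent.H413.L16 (Fp16 ops16)

/-- **the equations for the situation in the frame** -/
theorem modF {H : Subgroup E2} {f : _root_.Matrix.SpecialLinearGroup (Fin 2) F →* E2} {z : ↥(chevE8.group KK)} {ζ' : KK}
    (S : Fsit H f y t0 z ζ' ζ ι P) {n : ℕ} (h : MinF P (rz z f) n) : ModF Fp16 P (rz z f) n :=
  modF_of S.pd (brk_rz z f) ⟨ops16.add, ops16.smul, ops16.inj, fun s v => S.frob s v⟩ h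

end Cfsg.Agent.H280.L16
end

-- part: H996/L16/Calc
section
/-!
# A reflective calculator for brackets in characteristic two (helper996, for S5916)

`K` a commutative ring of characteristic two, `V` a module with vectors `b s` (`s : ℕ`), a bilinear map `B` with
`B (b r) (b s) = Σ_{t ∈ bt r s} b t`, additive maps `Φ i` with `Φ i (c • b s) = c ^ (ks i) • Σ_{t ∈ tb i s} b t` and
coordinates `φ u`. The coefficients are polynomials over `F₂` in `x 0, x 1, …`; a monomial is the list of its exponents, a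
vector is a list of pairs (index, monomial). `Ex` are the expressions, `val` their values, `run` the computed
vectors: `val_eq`, `coord`, `rel`, `eq_of`.
-/

set_option autoImplicit false

namespace Cfsg.Agent.H996.L16

/-! ### monomials -/

section Mon

variable {K : Type*} [CommSemiring K] (x : ℕ → K)

/-- the value of the monomial with the exponents `m` in the variables `i, i + 1, …` -/
def evM : ℕ → List ℕ → K
  | _, [] => 1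
  | i, a :: m => x i ^ a * evM (i + 1) m

/-- product of monomials -/
def mulM : List ℕ → List ℕ → List ℕ
  | [], m => m
  | a :: l, [] => a :: l
  | a :: l, b :: m => (a + b) :: mulM l m

theorem evM_mul : ∀ (l m : List ℕ) (i : ℕ), evM x i (mulM l m) = evM x i l * evM x i m
  | [], m, i => by rw [mulM, evM, one_mul]
  | a :: l, [], i => by rw [mulM, evM, evM, mul_one]
  | a :: l, b :: m, i => by
    rw [mulM, evM, evM, evM, evM_mul l m, pow_add]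
    ring

/-- powers of a monomial -/
def powM (k : ℕ) : List ℕ → List ℕ
  | [] => []
  | a :: m => (a * k) :: powM k m

theorem evM_pow (k : ℕ) : ∀ (m : List ℕ) (i : ℕ), evM x i (powM k m) = evM x i m ^ k
  | [], i => by rw [powM, evM, one_pow]
  | a :: m, i => by rw [powM, evM, evM, evM_pow k m, mul_pow, pow_mul]

/-- remove the zeros at the end -/
def trM : List ℕ → List ℕ
  | [] => []
  | a :: m => if (Nat.beq a 0 && (trM m).isEmpty) = true then [] else a :: trM m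

theorem evM_tr : ∀ (m : List ℕ) (i : ℕ), evM x i (trM m) = evM x i m
  | [], i => rfl
  | a :: m, i => by
    rw [trM]
    split_ifs with h
    · rw [Bool.and_eq_true] at h
      have h1 := evM_tr m (i + 1)
      rw [List.isEmpty_iff.1 h.2, evM] at h1
      rw [evM, evM, ← h1, Nat.eq_of_beq_eq_true h.1, pow_zero, one_mul]
    · rw [evM, evM, evM_tr m]

/-- equality of monomials -/
def eqM : List ℕ → List ℕ → Bool
  | [], [] => true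
  | [], _ :: _ => false
  | _ :: _, [] => false
  | a :: l, b :: m => Nat.beq a b && eqM l m

theorem eq_of_eqM : ∀ {l m : List ℕ}, eqM l m = true → l = m
  | [], [], _ => rfl
  | [], _ :: _, h => by simp [eqM] at h
  | _ :: _, [], h => by simp [eqM] at h
  | a :: l, b :: m, h => by
    rw [eqM, Bool.and_eq_true] at h
    rw [Nat.eq_of_beq_eq_true h.1, eq_of_eqM h.2]

/-- the value of a polynomial -/
def evP (p : List (List ℕ)) : K := (p.map fun m => evM x 0 m).sum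

end Mon

/-! ### vectors -/

/-- vectors: pairs (index, monomial) -/
abbrev Vec : Type := List (ℕ × List ℕ)

section Vec

variable {K V : Type*} [CommRing K] [CharP K 2] [AddCommGroup V] [Module K V] (x : ℕ → K) (b : ℕ → V)

/-- the value of a vector -/
def ev (l : Vec) : V := (l.map fun p => evM x 0 p.2 • b p.1).sum

omit [CharP K 2] in
theorem ev_nil : ev x b [] = 0 := rfl

omit [CharP K 2] in
theorem ev_cons (p : ℕ × List ℕ) (l : Vec) : ev x b (p :: l) = evM x 0 p.2 • b p.1 + ev x b l := by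
  rw [ev, List.map_cons, List.sum_cons, ev]

omit [CharP K 2] in
theorem ev_append (l m : Vec) : ev x b (l ++ m) = ev x b l + ev x b m := by
  rw [ev, List.map_append, List.sum_append, ev, ev]

theorem add_self' (K : Type*) [CommRing K] [CharP K 2] {V : Type*} [AddCommGroup V] [Module K V] (v : V) : v + v = 0 := by
  have h2 : (2 : K) = 0 := CharP.cast_eq_zero K 2
  rw [← two_smul K v, h2, zero_smul]

/-- insertion with cancellation -/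
def ins (p : ℕ × List ℕ) : Vec → Vec
  | [] => [p]
  | q :: l => if (Nat.beq p.1 q.1 && eqM p.2 q.2) = true then l else q :: ins p l

theorem ev_ins (p : ℕ × List ℕ) : ∀ l : Vec, ev x b (ins p l) = evM x 0 p.2 • b p.1 + ev x b l
  | [] => by rw [ins, ev_cons]
  | q :: l => by
    rw [ins]
    split_ifs with h
    · rw [Bool.and_eq_true] at h
      have h1 : p = q := Prod.ext (Nat.eq_of_beq_eq_true h.1) (eq_of_eqM h.2)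
      rw [ev_cons, ← h1, ← add_assoc, add_self' K, zero_add]
    · rw [ev_cons, ev_ins p l, ev_cons]
      abel

/-- trimming -/
def trV : Vec → Vec
  | [] => []
  | p :: l => (p.1, trM p.2) :: trV l

omit [CharP K 2] in
theorem ev_trV : ∀ l : Vec, ev x b (trV l) = ev x b l
  | [] => rfl
  | p :: l => by rw [trV, ev_cons, ev_trV l, ev_cons, evM_tr]

/-- cancellation -/
def nrm : Vec → Vec
  | [] => []
  | p :: l => ins p (nrm l)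

theorem ev_nrm : ∀ l : Vec, ev x b (nrm l) = ev x b l
  | [] => rfl
  | p :: l => by rw [nrm, ev_ins, ev_nrm l, ev_cons]

/-- the terms `(t, m)`, `t ∈ ts` -/
def trm (m : List ℕ) : List ℕ → Vec
  | [] => []
  | t :: ts => (t, m) :: trm m ts

omit [CharP K 2] in
theorem ev_trm (m : List ℕ) : ∀ ts : List ℕ, ev x b (trm m ts) = evM x 0 m • (ts.map b).sum
  | [] => by rw [trm, ev_nil, List.map_nil, List.sum_nil, smul_zero]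
  | t :: ts => by rw [trm, ev_cons, ev_trm m ts, List.map_cons, List.sum_cons, smul_add]

variable {b} (B : V →ₗ[K] V →ₗ[K] V) (bt : ℕ → ℕ → List ℕ) (hB : ∀ r s, B (b r) (b s) = ((bt r s).map b).sum)

/-- bracket of a term with a vector -/
def br1 (p : ℕ × List ℕ) : Vec → Vec
  | [] => []
  | q :: m => trm (mulM p.2 q.2) (bt p.1 q.1) ++ br1 p m

/-- bracket of two vectors -/
def br0 : Vec → Vec → Vec
  | [], _ => []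
  | p :: l, m => br1 bt p m ++ br0 l m

include hB in
omit [CharP K 2] in
theorem ev_br1 (p : ℕ × List ℕ) : ∀ m : Vec, ev x b (br1 bt p m) = B (evM x 0 p.2 • b p.1) (ev x b m)
  | [] => by rw [br1, ev_nil, map_zero]
  | q :: m => by
    rw [br1, ev_append, ev_trm, ev_br1 p m, ev_cons, map_add, evM_mul, ← hB, map_smul, map_smul, LinearMap.smul_apply]
    congr 1
    rw [LinearMap.smul_apply, smul_smul, mul_comm]

include hB in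
omit [CharP K 2] in
theorem ev_br0 : ∀ l m : Vec, ev x b (br0 bt l m) = B (ev x b l) (ev x b m)
  | [], m => by rw [br0, ev_nil, map_zero, LinearMap.zero_apply]
  | p :: l, m => by rw [br0, ev_append, ev_br1 x B bt hB, ev_br0 l m, ev_cons, map_add, LinearMap.add_apply]

/-- an operator on vectors -/
def op0 (tb : ℕ → List ℕ) (k : ℕ) : Vec → Vec
  | [] => []
  | p :: l => trm (powM k p.2) (tb p.1) ++ op0 tb k l

omit [CharP K 2] in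
theorem ev_op0 (tb : ℕ → List ℕ) (k : ℕ) (Φ : V → V) (h0 : Φ 0 = 0) (ha : ∀ v w, Φ (v + w) = Φ v + Φ w)
    (hs : ∀ (c : K) s, Φ (c • b s) = c ^ k • ((tb s).map b).sum) : ∀ l : Vec, ev x b (op0 tb k l) = Φ (ev x b l)
  | [] => by rw [op0, ev_nil, h0]
  | p :: l => by rw [op0, ev_append, ev_trm, ev_op0 tb k Φ h0 ha hs l, ev_cons, ha, hs, evM_pow]

/-! ### expressions -/

/-- expressions -/
inductive Ex : Type
  | lit (l : Vec) : Ex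
  | add (a c : Ex) : Ex
  | br (a c : Ex) : Ex
  | op (i : ℕ) (a : Ex) : Ex

variable (b) in
/-- the value -/
def Ex.val (Φ : ℕ → V → V) : Ex → V
  | .lit l => ev x b l
  | .add a c => a.val Φ + c.val Φ
  | .br a c => B (a.val Φ) (c.val Φ)
  | .op i a => Φ i (a.val Φ)

/-- the computed vector -/
def Ex.run (tb : ℕ → ℕ → List ℕ) (ks : ℕ → ℕ) : Ex → Vec
  | .lit l => nrm (trV l)
  | .add a c => nrm (a.run tb ks ++ c.run tb ks)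
  | .br a c => nrm (br0 bt (a.run tb ks) (c.run tb ks))
  | .op i a => nrm (op0 (tb i) (ks i) (a.run tb ks))

/-- the data for the operators -/
structure Ops (b : ℕ → V) (tb : ℕ → ℕ → List ℕ) (ks : ℕ → ℕ) (Φ : ℕ → V → V) : Prop where
  zero : ∀ i, Φ i 0 = 0
  add : ∀ i v w, Φ i (v + w) = Φ i v + Φ i w
  smul : ∀ i (c : K) s, Φ i (c • b s) = c ^ ks i • ((tb i s).map b).sum

include hB in
/-- **The value is the computed vector.** -/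
theorem Ex.val_eq {tb : ℕ → ℕ → List ℕ} {ks : ℕ → ℕ} {Φ : ℕ → V → V} (H : Ops (K := K) b tb ks Φ) :
    ∀ e : Ex, e.val x b B Φ = ev x b (e.run bt tb ks)
  | .lit l => by rw [Ex.val, Ex.run, ev_nrm, ev_trV]
  | .add a c => by rw [Ex.val, Ex.run, ev_nrm, ev_append, Ex.val_eq H a, Ex.val_eq H c]
  | .br a c => by rw [Ex.val, Ex.run, ev_nrm, ev_br0 x B bt hB, Ex.val_eq H a, Ex.val_eq H c]
  | .op i a => by rw [Ex.val, Ex.run, ev_nrm, ev_op0 x (tb i) (ks i) (Φ i) (H.zero i) (H.add i) (H.smul i), Ex.val_eq H a]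

/-- the computed vector, without the last cancellation -/
def Ex.raw (tb : ℕ → ℕ → List ℕ) (ks : ℕ → ℕ) : Ex → Vec
  | .lit l => l
  | .add a c => a.raw tb ks ++ c.raw tb ks
  | .br a c => br0 bt (a.run bt tb ks) (c.run bt tb ks)
  | .op i a => op0 (tb i) (ks i) (a.run bt tb ks)

include hB in
theorem Ex.raw_eq {tb : ℕ → ℕ → List ℕ} {ks : ℕ → ℕ} {Φ : ℕ → V → V} (H : Ops (K := K) b tb ks Φ) :
    ∀ e : Ex, e.val x b B Φ = ev x b (e.raw bt tb ks)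
  | .lit l => rfl
  | .add a c => by rw [Ex.val, Ex.raw, ev_append, Ex.raw_eq H a, Ex.raw_eq H c]
  | .br a c => by rw [Ex.val, Ex.raw, ev_br0 x B bt hB, Ex.val_eq x B bt hB H a, Ex.val_eq x B bt hB H c]
  | .op i a => by rw [Ex.val, Ex.raw, ev_op0 x (tb i) (ks i) (Φ i) (H.zero i) (H.add i) (H.smul i), Ex.val_eq x B bt hB H a]

/-! ### coordinates -/

/-- the coefficient of `b u` -/
def co (u : ℕ) : Vec → List (List ℕ)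
  | [] => []
  | p :: l => if Nat.beq p.1 u = true then p.2 :: co u l else co u l

omit [CharP K 2] in
theorem co_eq {u : ℕ} (φ : V →ₗ[K] K) (hφ : ∀ s, φ (b s) = if s = u then 1 else 0) :
    ∀ l : Vec, φ (ev x b l) = evP x (co u l)
  | [] => by rw [ev_nil, map_zero, co, evP, List.map_nil, List.sum_nil]
  | p :: l => by
    rw [ev_cons, map_add, map_smul, hφ, co_eq φ hφ l, co]
    by_cases h : p.1 = u
    · rw [if_pos h, if_pos (by rw [h]; exact Nat.beq_refl u), smul_eq_mul, mul_one, evP, evP, List.map_cons, List.sum_cons]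
    · rw [if_neg h, if_neg (fun h1 => h (Nat.eq_of_beq_eq_true h1)), smul_zero, zero_add]

/-- polynomials as vectors -/
def asV (p : List (List ℕ)) : Vec := p.map fun m => (0, m)

omit [CharP K 2] in
theorem ev_asV (p : List (List ℕ)) : ev x (fun _ => (1 : K)) (asV p) = evP x p := by
  rw [asV, ev, List.map_map, evP]
  congr 1
  refine List.map_congr_left fun m _ => ?_
  show evM x 0 m • (1 : K) = evM x 0 m
  rw [smul_eq_mul, mul_one]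

/-- equality of polynomials -/
def eqP (p q : List (List ℕ)) : Bool := (nrm (trV (asV (p ++ q)))).isEmpty

theorem evP_eq_of {p q : List (List ℕ)} (h : eqP p q = true) : evP x p = evP x q := by
  have h1 : ev x (fun _ => (1 : K)) (nrm (trV (asV (p ++ q)))) = 0 := by
    rw [List.isEmpty_iff.1 h, ev_nil]
  rw [ev_nrm, ev_trV, ev_asV, evP, List.map_append, List.sum_append] at h1
  have h2 : evP x p + evP x q = 0 := h1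
  have h3 := add_self' K (evP x q)
  exact (add_right_cancel (h2.trans h3.symm))

/-- the test for a coordinate -/
def Ex.chk (tb : ℕ → ℕ → List ℕ) (ks : ℕ → ℕ) (e : Ex) (u : ℕ) (p : List (List ℕ)) : Bool := eqP (co u (e.raw bt tb ks)) p

include hB in
/-- **coordinates** -/
theorem Ex.coord {tb : ℕ → ℕ → List ℕ} {ks : ℕ → ℕ} {Φ : ℕ → V → V} (H : Ops (K := K) b tb ks Φ) {e : Ex} {u : ℕ}
    {p : List (List ℕ)} (h : e.chk bt tb ks u p = true) (φ : V →ₗ[K] K) (hφ : ∀ s, φ (b s) = if s = u then 1 else 0) :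
    φ (e.val x b B Φ) = evP x p := by
  rw [Ex.raw_eq x B bt hB H, co_eq x φ hφ]
  exact evP_eq_of x h

end Vec

end Cfsg.Agent.H996.L16
end

-- part: H996/L16/Tab
section
/-!
# Tables for the calculator (helper996, for S5916; made by a program)

Indices: `s < 240` the root vectors `er s`, `240 + i` (`i < 8`) the Cartan basis. Operators (for `H : H939.L16.Ops Fp ta`):
`0` is `Fp`, `1` is `ta`, `10 + r` is `xl r 1`.
`coord`, `rel`, `eq_of`: see there.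
-/

set_option autoImplicit false
set_option maxRecDepth 20000

namespace Cfsg.Agent.H996.L16

open Cfsg Cfsg.Lie Cfsg.Lie.ChevalleyDatum
open Cfsg.Agent.H939.L64 (KK LK brK)
open Cfsg.Agent.H413.L16
open Cfsg.Agent.ChevalleyStructure.Columns (car cor)
open Cfsg.Agent.H939.L16 (wi xl)

/-! ### tables -/

/-- the sums of roots, 8 bits each, 240 for none -/
def RT : List (List ℕ) := [[0xf07775726e69635d5854514f4ef047423e3b3938f034312f2ef02b2928f02625f024f0f0211f1ef01c1bf01af0f01817f016f0f015f0f0f01312f011f0f010f0f0f00ff0f0f0f00ef0f0f0f0f0f00c0bf00af0f009f0f0f008f0f0f0f007f0f0f0f0f006f0f0f0f0f005f0f0f0f004f0f0f003f0f002f001f0f0f0f0f0f0f0f0f0f0f0f0f0f0f0f0f0f0f0f0f0f0f0f0f0f0f0f0f0f0f0f0f0f0f0f0f0f0f0f0f0f0f0f0f0f0f0f0f0f0f0f0f0f0f0f0f0f0f0f0f0f0f0f0f0f0f0f0f0f0f0f0f0f0f0f0f0f0f0f0f0f0f0f0f0f0f0f0f0f0f0f0f0f0f0f0f0f0f0f0f0f0f0f0f0f0f0f0f0f0f0f0f0f0f0f0f0f0f0f0,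 0x78f076736f6a645e59555250f04e48433f3c3af038353230f02e2c2af02827f025f024f02220f01e1df01bf01af019f017f016f0f015f0f014f012f011f0f010f0f0f00ff0f0f0f00ef0f0f0f0f00df00bf00af0f009f0f0f008f0f0f0f007f0f0f0f0f006f0f0f0f0f005f0f0f0f004f0f0f003f0f002f000f0f0f0f0f0f0f0f0f0f0f0f0f0f0f0f0f0f0f0f0f0f0f0f0f0f0f0f0f0f0f0f0f0f0f0f0f0f0f0f0f0f0f0f0f0f0f0f0f0f0f0f0f0f0f0f0f0f0f0f0f0f0f0f0f0f0f0f0f0f0f0f0f0f0f0f0f0f0f0f0f0f0f0f0f0f0f0f0f0f0f0f0f0f0f0f0f0f0f0f0f0f0f0f0f0f0f0f0f0f0f0f0f0f0f0f0f0f0f0, 0x7a79f074706b655f5a5653f0504f4944403df03a393633f0302f2df02a29f02726f0f02423f0201ff01d1cf0f01af01918f0f016f0f015f0f01413f0f011f0f010f0f0f00ff0f0f0f00ef0f0f0f0f00d0cf0f00af0f009f0f0f008f0f0f0f007f0f0f0f0f006f0f0f0f0f005f0f0f0f004f0f0f003f0f0f0f00100f0f0f0f0f0f0f0f0f0f0f0f0f0f0f0f0f0f0f0f0f0f0f0f0f0f0f0f0f0f0f0f0f0f0f0f0f0f0f0f0f0f0f0f0f0f0f0f0f0f0f0f0f0f0f0f0f0f0f0f0f0f0f0f0f0f0f0f0f0f0f0f0f0f0f0f0f0f0f0f0f0f0f0f0f0f0f0f0f0f0f0f0f0f0f0f0f0f0f0f0f0f0f0f0f0f0f0f0f0f0f0f0f0f0f0f0f0,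 0x7d7c7bf0716c66605b57f05352514a4541f03d3c3b37f0333231f02d2c2bf0f0f0272625f0232221f0f0f01d1c1bf0f0f0191817f0f0f015f0f0f0141312f0f0f010f0f0f00ff0f0f0f00ef0f0f0f0f0f00d0c0bf0f0f009f0f0f008f0f0f0f007f0f0f0f0f006f0f0f0f0f005f0f0f0f004f0f0f0f0f0f0f0f0f0020100f0f0f0f0f0f0f0f0f0f0f0f0f0f0f0f0f0f0f0f0f0f0f0f0f0f0f0f0f0f0f0f0f0f0f0f0f0f0f0f0f0f0f0f0f0f0f0f0f0f0f0f0f0f0f0f0f0f0f0f0f0f0f0f0f0f0f0f0f0f0f0f0f0f0f0f0f0f0f0f0f0f0f0f0f0f0f0f0f0f0f0f0f0f0f0f0f0f0f0f0f0f0f0f0f0f0f0f0f0f0f0f0f0f0, 0x81807f7ef06d67615cf0575655544b46f041403f3ef037363534f0f0f0f02d2c2b2a2928f0f0f0f0232221201f1ef0f0f0f0f0f019181716f0f0f0f0f0f014131211f0f0f0f00ff0f0f0f00ef0f0f0f0f0f0f0f00d0c0b0af0f0f0f008f0f0f0f007f0f0f0f0f006f0f0f0f0f005f0f0f0f0f0f0f0f0f0f0f0f0f0f0f0f003020100f0f0f0f0f0f0f0f0f0f0f0f0f0f0f0f0f0f0f0f0f0f0f0f0f0f0f0f0f0f0f0f0f0f0f0f0f0f0f0f0f0f0f0f0f0f0f0f0f0f0f0f0f0f0f0f0f0f0f0f0f0f0f0f0f0f0f0f0f0f0f0f0f0f0f0f0f0f0f0f0f0f0f0f0f0f0f0f0f0f0f0f0f0f0f0f0f0f0f0f0f0f0f0f0f0f0f0f0f0f0,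 0x8685848382f06862f05c5b5a59584cf04645444342f0f0f0f0f037363534333231302f2ef0f0f0f0f0f0f0f0f0f0232221201f1e1d1c1b1af0f0f0f0f0f0f0f0f0f01413121110f0f0f0f0f00ef0f0f0f0f0f0f0f0f0f0f00d0c0b0a09f0f0f0f0f007f0f0f0f0f006f0f0f0f0f0f0f0f0f0f0f0f0f0f0f0f0f0f0f0f0f0f0f0f0f00403020100f0f0f0f0f0f0f0f0f0f0f0f0f0f0f0f0f0f0f0f0f0f0f0f0f0f0f0f0f0f0f0f0f0f0f0f0f0f0f0f0f0f0f0f0f0f0f0f0f0f0f0f0f0f0f0f0f0f0f0f0f0f0f0f0f0f0f0f0f0f0f0f0f0f0f0f0f0f0f0f0f0f0f0f0f0f0f0f0f0f0f0f0f0f0f0f0f0f0f0f0f0f0f0f0f0, 0x8c8b8a898887f0f06261605f5e5d4df0f0f0f0f0f0464544434241403f3e3d3c3b3a3938f0f0f0f0f0f0f0f0f0f0f0f0f0f0f0f0f0f0f0f0232221201f1e1d1c1b1a1918171615f0f0f0f0f0f00ef0f0f0f0f0f0f0f0f0f0f0f0f0f0f00d0c0b0a0908f0f0f0f0f0f0f0f0f0f0f0f0f0f0f0f0f0f0f0f0f0f0f0f0f0f0f0f0f0f0f0f0f0f0f0f0050403020100f0f0f0f0f0f0f0f0f0f0f0f0f0f0f0f0f0f0f0f0f0f0f0f0f0f0f0f0f0f0f0f0f0f0f0f0f0f0f0f0f0f0f0f0f0f0f0f0f0f0f0f0f0f0f0f0f0f0f0f0f0f0f0f0f0f0f0f0f0f0f0f0f0f0f0f0f0f0f0f0f0f0f0f0f0f0f0f0f0f0f0f0f0f0f0f0f0f0f0,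 0x9291908f8e8df0f0686766656463f04c4b4a494847f0f0f0f0f0f0f0f0f0f0f0f0f0f0f037363534333231302f2e2d2c2b2a292827262524f0f0f0f0f0f0f0f0f0f0f0f0f0f0f014131211100ff0f0f0f0f0f0f0f0f0f0f0f0f0f0f0f0f0f0f0f0f0f00d0c0b0a0908f0f0f0f0f0f0f0f0f0f0f0f0f0f0f0f0f0f0f0f0f0f0f0f0f0f0f0f0f0f0f0f0f0f0f0f0050403020100f0f0f0f0f0f0f0f0f0f0f0f0f0f0f0f0f0f0f0f0f0f0f0f0f0f0f0f0f0f0f0f0f0f0f0f0f0f0f0f0f0f0f0f0f0f0f0f0f0f0f0f0f0f0f0f0f0f0f0f0f0f0f0f0f0f0f0f0f0f0f0f0f0f0f0f0f0f0f0f0f0f0f0f0f0f0f0f0f0f0f0f0f0, 0x9796959493f08d87f06d6c6b6a69f04df0f0f0f0f04b4a494847f0f0f0f0f0f0f0f0f0f041403f3e3d3c3b3a3938f0f0f0f0f0f0f0f0f0f02d2c2b2a292827262524f0f0f0f0f01918171615f00ff0f0f0f0f0f0f0f0f0f0f0f0f0f0f0f0f0f0f0f0f0f0f0f0f0f0f00d0c0b0a09f0f0f0f0f0f0f0f0f0f0f0f0f0f0f0f0f0f0f0f0f0f0f0f0f007f0f0f0f0f006f0f0f0f0f00403020100f0f0f0f0f0f0f0f0f0f0f0f0f0f0f0f0f0f0f0f0f0f0f0f0f0f0f0f0f0f0f0f0f0f0f0f0f0f0f0f0f0f0f0f0f0f0f0f0f0f0f0f0f0f0f0f0f0f0f0f0f0f0f0f0f0f0f0f0f0f0f0f0f0f0f0f0f0f0f0f0f0f0f0f0f0f0f0f0,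 0x9b9a9998f0938e8882f071706f6ef0f04df0f0f0f04cf0f0f0f04a494847f0f0f0f0f0f045444342f0f0f0f0f0f03d3c3b3a3938f0f0f0f0333231302f2ef0f0f0f027262524f01d1c1b1af01510f0f0f0f0f0f0f0f0f0f0f0f0f0f0f0f0f0f0f0f0f0f0f0f0f0f0f0f0f0f0f0f00d0c0b0af0f0f0f0f0f0f0f0f0f0f0f0f0f0f0f008f0f0f0f0f007f0f0f0f0f006f0f0f0f005f0f0f0f003020100f0f0f0f0f0f0f0f0f0f0f0f0f0f0f0f0f0f0f0f0f0f0f0f0f0f0f0f0f0f0f0f0f0f0f0f0f0f0f0f0f0f0f0f0f0f0f0f0f0f0f0f0f0f0f0f0f0f0f0f0f0f0f0f0f0f0f0f0f0f0f0f0f0f0f0f0f0f0f0f0f0f0f0f0, 0x9e9d9cf098948f89837ef0747372f0f0f04df0f0f0f04cf0f0f04bf0f0f0494847f0f0f046f0f0f0444342f0f0f0403f3ef0f0f03a3938f0363534f0f0f0302f2ef02a2928f024201f1ef01a1611f0f0f0f0f0f0f0f0f0f0f0f0f0f0f0f0f0f0f0f0f0f0f0f0f0f0f0f0f0f0f0f0f0f0f0f00d0c0bf0f0f0f0f0f0f0f0f009f0f0f0f008f0f0f0f0f007f0f0f0f0f006f0f0f0f005f0f0f004f0f0f0020100f0f0f0f0f0f0f0f0f0f0f0f0f0f0f0f0f0f0f0f0f0f0f0f0f0f0f0f0f0f0f0f0f0f0f0f0f0f0f0f0f0f0f0f0f0f0f0f0f0f0f0f0f0f0f0f0f0f0f0f0f0f0f0f0f0f0f0f0f0f0f0f0f0f0f0f0f0f0f0f0f0,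 0xa09ff09c9995908a847f7bf07675f0f0f0f04df0f0f0f04cf0f0f04bf0f04af0f04847f0f046f0f045f0f04342f041f0f03f3ef03c3bf03837f0f03534f03231f02e2c2bf028252221f01e1b1712f0f0f0f0f0f0f0f0f0f0f0f0f0f0f0f0f0f0f0f0f0f0f0f0f0f0f0f0f0f0f0f0f0f0f0f0f0f0f00d0cf0f0f0f00af0f0f009f0f0f0f008f0f0f0f0f007f0f0f0f0f006f0f0f0f005f0f0f004f0f003f0f00100f0f0f0f0f0f0f0f0f0f0f0f0f0f0f0f0f0f0f0f0f0f0f0f0f0f0f0f0f0f0f0f0f0f0f0f0f0f0f0f0f0f0f0f0f0f0f0f0f0f0f0f0f0f0f0f0f0f0f0f0f0f0f0f0f0f0f0f0f0f0f0f0f0f0f0f0f0f0f0, 0xa1f09f9d9a96918b85807c79f077f0f0f0f0f04df0f0f0f04cf0f0f04bf0f04af049f047f0f046f0f045f044f042f041f040f03e3df03b39f037f036f03433f0312f2df02b292623f0211f1c1813f0f0f0f0f0f0f0f0f0f0f0f0f0f0f0f0f0f0f0f0f0f0f0f0f0f0f0f0f0f0f0f0f0f0f0f0f0f0f0f0f00df00bf0f00af0f0f009f0f0f0f008f0f0f0f0f007f0f0f0f0f006f0f0f0f005f0f0f004f0f003f002f000f0f0f0f0f0f0f0f0f0f0f0f0f0f0f0f0f0f0f0f0f0f0f0f0f0f0f0f0f0f0f0f0f0f0f0f0f0f0f0f0f0f0f0f0f0f0f0f0f0f0f0f0f0f0f0f0f0f0f0f0f0f0f0f0f0f0f0f0f0f0f0f0f0f0f0f0f0f0,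 0xf0a1a09e9b97928c86817d7a78f0f0f0f0f0f0f04df0f0f0f04cf0f0f04bf0f04af04948f0f0f046f0f045f04443f0f041f0403ff03d3c3af0f037f03635f0333230f02d2c2a27f02322201d1914f0f0f0f0f0f0f0f0f0f0f0f0f0f0f0f0f0f0f0f0f0f0f0f0f0f0f0f0f0f0f0f0f0f0f0f0f0f0f0f0f0f00cf00bf0f00af0f0f009f0f0f0f008f0f0f0f0f007f0f0f0f0f006f0f0f0f005f0f0f004f0f003f00201f0f0f0f0f0f0f0f0f0f0f0f0f0f0f0f0f0f0f0f0f0f0f0f0f0f0f0f0f0f0f0f0f0f0f0f0f0f0f0f0f0f0f0f0f0f0f0f0f0f0f0f0f0f0f0f0f0f0f0f0f0f0f0f0f0f0f0f0f0f0f0f0f0f0f0f0f0f0, 0xa8a7a6a5a4a3a2f0f0f0f0f0f0f0f06261605f5e5d5c5b5a595857565554535251504f4ef0f0f0f0f0f0f0f0f0f0f0f0f0f0f0f0f0f0f0f0f0f0f0f0f0f0f0f0f0f0f0f0f0f0f0f0f0f0f0f0f0f0232221201f1e1d1c1b1a191817161514131211100ff0f0f0f0f0f0f0f0f0f0f0f0f0f0f0f0f0f0f0f0f0f0f0f0f0f0f0f0f0f0f0f0f0f0f0f0f0f0f0f0f0f0f0f0f0f0f0f0f0f0f0f0f0f0f0f0f0f0f0f0f0f0f006050403020100f0f0f0f0f0f0f0f0f0f0f0f0f0f0f0f0f0f0f0f0f0f0f0f0f0f0f0f0f0f0f0f0f0f0f0f0f0f0f0f0f0f0f0f0f0f0f0f0f0f0f0f0f0f0f0f0f0f0f0f0f0f0f0f0f0f0f0f0f0f0f0,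 0xadacabaaa9f0f0a3a2f0f0f0f0f08df06d6c6b6a696766656463f0f0f0f0f0f0f0f0f0f057565554535251504f4ef0f0f0f0f0f0f0f0f0f0f0f0f0f0f0f0f0f0f0f0f0f0f0f0f0f0f0f0f0f0f0f02d2c2b2a292827262524f0f0f0f0f0f0f0f0f0f0f01918171615f01413121110f0f0f0f0f0f0f0f0f0f0f0f0f0f0f0f0f0f0f0f0f0f0f0f0f0f0f0f0f0f0f00ef0f0f0f0f0f0f0f0f0f0f0f0f0f0f0f0f0f0f0f00807f0f0f0f0f00403020100f0f0f0f0f0f0f0f0f0f0f0f0f0f0f0f0f0f0f0f0f0f0f0f0f0f0f0f0f0f0f0f0f0f0f0f0f0f0f0f0f0f0f0f0f0f0f0f0f0f0f0f0f0f0f0f0f0f0f0f0f0f0f0f0f0f0],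
  [0xb1b0afaef0a9f0a4f0a2f0f0f0f08e82f071706f6e68f0f0f0f066656463f0f0f0f0f0f05b5a5958f0f0f0f0f0f0535251504f4ef0f0f0f0f0f0f0f0f0f0f0f0f0f0f0f0f0f0f0f0f0f0f0f0f0f0333231302f2ef0f0f0f027262524f0f0f0f0f0f0f01d1c1b1af015f0f0f0f0f014131211f0f0f0f0f0f0f0f0f0f0f0f0f0f0f0f00ff0f0f0f0f0f0f0f0f0f0f00ef0f0f0f0f0f0f0f0f0f0f0f0f0f0f0f0f0f0f009f007f0f0f0f005f0f0f0f003020100f0f0f0f0f0f0f0f0f0f0f0f0f0f0f0f0f0f0f0f0f0f0f0f0f0f0f0f0f0f0f0f0f0f0f0f0f0f0f0f0f0f0f0f0f0f0f0f0f0f0f0f0f0f0f0f0f0f0f0f0f0f0, 0xb4b3b2f0aeaaf0a5f0f0a2f0f0f08f837ef0747372f068f0f0f067f0f0f0656463f0f0f05cf0f0f05a5958f0f0f0565554f0f0f0504f4ef0f0f0f0f0f0f0f0f0f0f0f0f0f0f0f0f0f0f0f0f0f0f0363534f0f0f0302f2ef02a2928f024f0f0f0f0f0f0201f1ef01a16f0f0f0f0f0f0f0f0f0141312f0f0f0f0f0f0f0f0f010f0f0f0f00ff0f0f0f0f0f0f0f0f0f0f00ef0f0f0f0f0f0f0f0f0f0f0f0f0f0f0f0f0f00af0f007f0f0f0f005f0f0f004f0f0f0020100f0f0f0f0f0f0f0f0f0f0f0f0f0f0f0f0f0f0f0f0f0f0f0f0f0f0f0f0f0f0f0f0f0f0f0f0f0f0f0f0f0f0f0f0f0f0f0f0f0f0f0f0f0f0f0f0f0f0f0,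 0xb6b5f0b2afabf0a6f0f0f0a2f0f090847f7bf07675f0f068f0f0f067f0f066f0f06463f0f05cf0f05bf0f05958f057f0f05554f05251f04ef0f0f0f0f0f0f0f0f0f0f0f0f0f0f0f0f0f0f0f0f0f037f0f03534f03231f02e2c2bf02825f0f0f0f0f0f02221f01e1b17f0f0f0f0f0f0f0f0f0f0f0f01413f0f0f0f011f0f0f010f0f0f0f00ff0f0f0f0f0f0f0f0f0f0f00ef0f0f0f0f0f0f0f0f0f0f0f0f0f0f0f0f00bf0f0f007f0f0f0f005f0f0f004f0f003f0f00100f0f0f0f0f0f0f0f0f0f0f0f0f0f0f0f0f0f0f0f0f0f0f0f0f0f0f0f0f0f0f0f0f0f0f0f0f0f0f0f0f0f0f0f0f0f0f0f0f0f0f0f0f0f0f0f0f0, 0xb7f0b5b3b0acf0a7f0f0f0f0a2f09185807c79f077f0f0f068f0f0f067f0f066f065f063f0f05cf0f05bf05af058f057f056f05453f0514ff0f0f0f0f0f0f0f0f0f0f0f0f0f0f0f0f0f0f0f0f0f0f037f036f03433f0312f2df02b2926f0f0f0f0f0f023f0211f1c18f0f0f0f0f0f0f0f0f0f0f0f0f0f014f012f0f011f0f0f010f0f0f0f00ff0f0f0f0f0f0f0f0f0f0f00ef0f0f0f0f0f0f0f0f0f0f0f0f0f0f0f00cf0f0f0f007f0f0f0f005f0f0f004f0f003f002f000f0f0f0f0f0f0f0f0f0f0f0f0f0f0f0f0f0f0f0f0f0f0f0f0f0f0f0f0f0f0f0f0f0f0f0f0f0f0f0f0f0f0f0f0f0f0f0f0f0f0f0f0f0f0f0f0,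 0xf0b7b6b4b1adf0a8f0f0f0f0f0a29286817d7a78f0f0f0f0f068f0f0f067f0f066f06564f0f0f05cf0f05bf05a59f0f057f05655f0535250f0f0f0f0f0f0f0f0f0f0f0f0f0f0f0f0f0f0f0f0f0f0f0f037f03635f0333230f02d2c2a27f0f0f0f0f0f0f02322201d19f0f0f0f0f0f0f0f0f0f0f0f0f0f0f013f012f0f011f0f0f010f0f0f0f00ff0f0f0f0f0f0f0f0f0f0f00ef0f0f0f0f0f0f0f0f0f0f0f0f0f0f00df0f0f0f0f007f0f0f0f005f0f0f004f0f003f00201f0f0f0f0f0f0f0f0f0f0f0f0f0f0f0f0f0f0f0f0f0f0f0f0f0f0f0f0f0f0f0f0f0f0f0f0f0f0f0f0f0f0f0f0f0f0f0f0f0f0f0f0f0f0f0f0, 0xbbbab9b8f0f0a9f0a4a3f0f0f0f0938887f0f0f0f0f071706f6e6c6b6a69f0f0f0f0f0f0605f5e5df0f0f0f0f0f0f0f0f0f0f0f0f0f0f0f0535251504f4ef0f0f0f0f0f0f0f0f0f0f0f0f0f0f0f03d3c3b3a3938f0f0f0f0f0f0f0f0f027262524f0f0f0f0f0f0f0f01d1c1b1af019181716f0f0f0f0f0f0f0f0f0f0f0f0f0f0f0f0f0f0f0f0f0100ff0f0f0f0f0f0f0f0f0f00ef0f0f0f0f0f0f0f0f0f0f0f0f0f0f00908f0f0f0f006f0f0f0f0f0f0f0f0f0f0f0f0f0f003020100f0f0f0f0f0f0f0f0f0f0f0f0f0f0f0f0f0f0f0f0f0f0f0f0f0f0f0f0f0f0f0f0f0f0f0f0f0f0f0f0f0f0f0f0f0f0f0f0f0f0f0f0,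 0xbebdbcf0b8f0aaf0a5f0a3f0f0f09489f087f0f0f07ef07473726df0f0f06b6a69f0f0f061f0f0f05f5e5df0f0f0f0f0f0f0f0f0f0f0f0f0565554f0f0f0504f4ef0f0f0f0f0f0f0f0f0f0f0f0f0403f3ef0f0f03a3938f0f0f0f0f0f02a2928f024f0f0f0f0f0f0f0201f1ef01af0f0f0f0191817f0f0f0f0f0f0f0f0f015f0f0f0f0f0f0f0f011f00ff0f0f0f0f0f0f0f0f0f00ef0f0f0f0f0f0f0f0f0f0f0f0f0f00af008f0f0f0f006f0f0f0f0f0f0f0f0f0f0f0f0f004f0f0f0020100f0f0f0f0f0f0f0f0f0f0f0f0f0f0f0f0f0f0f0f0f0f0f0f0f0f0f0f0f0f0f0f0f0f0f0f0f0f0f0f0f0f0f0f0f0f0f0f0f0, 0xc0bff0bcb9f0abf0a6f0f0a3f0f0958af0f087f0f07f7bf07675f06df0f06cf0f06a69f0f061f0f060f0f05e5df0f0f0f0f0f0f0f0f0f0f057f0f05554f05251f04ef0f0f0f0f0f0f0f0f0f0f0f041f0f03f3ef03c3bf038f0f0f0f0f02c2bf02825f0f0f0f0f0f0f02221f01e1bf0f0f0f0f0f0f01918f0f0f0f016f0f0f015f0f0f0f0f0f0f012f0f00ff0f0f0f0f0f0f0f0f0f00ef0f0f0f0f0f0f0f0f0f0f0f0f00bf0f008f0f0f0f006f0f0f0f0f0f0f0f0f0f0f0f0f004f0f003f0f00100f0f0f0f0f0f0f0f0f0f0f0f0f0f0f0f0f0f0f0f0f0f0f0f0f0f0f0f0f0f0f0f0f0f0f0f0f0f0f0f0f0f0f0f0f0f0f0,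 0xc1f0bfbdbaf0acf0a7f0f0f0a3f0968bf0f0f087f0807c79f077f0f06df0f06cf06bf069f0f061f0f060f05ff05df0f0f0f0f0f0f0f0f0f0f057f056f05453f0514ff0f0f0f0f0f0f0f0f0f0f0f0f041f040f03e3df03b39f0f0f0f0f02df02b2926f0f0f0f0f0f0f023f0211f1cf0f0f0f0f0f0f0f0f019f017f0f016f0f0f015f0f0f0f0f0f013f0f0f00ff0f0f0f0f0f0f0f0f0f00ef0f0f0f0f0f0f0f0f0f0f0f00cf0f0f008f0f0f0f006f0f0f0f0f0f0f0f0f0f0f0f0f004f0f003f002f000f0f0f0f0f0f0f0f0f0f0f0f0f0f0f0f0f0f0f0f0f0f0f0f0f0f0f0f0f0f0f0f0f0f0f0f0f0f0f0f0f0f0f0f0f0f0, 0xf0c1c0bebbf0adf0a8f0f0f0f0a3978cf0f0f0f087817d7a78f0f0f0f06df0f06cf06b6af0f0f061f0f060f05f5ef0f0f0f0f0f0f0f0f0f0f0f057f05655f0535250f0f0f0f0f0f0f0f0f0f0f0f0f0f041f0403ff03d3c3af0f0f0f0f0f02d2c2a27f0f0f0f0f0f0f0f02322201df0f0f0f0f0f0f0f0f0f018f017f0f016f0f0f015f0f0f0f0f014f0f0f0f00ff0f0f0f0f0f0f0f0f0f00ef0f0f0f0f0f0f0f0f0f0f00df0f0f0f008f0f0f0f006f0f0f0f0f0f0f0f0f0f0f0f0f004f0f003f00201f0f0f0f0f0f0f0f0f0f0f0f0f0f0f0f0f0f0f0f0f0f0f0f0f0f0f0f0f0f0f0f0f0f0f0f0f0f0f0f0f0f0f0f0f0f0,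 0xc4c3c2f0f0b8aef0f0a5a4f0f0f098f08988f0f0f08382f0f0f0f0747372706f6ef0f0f062f0f0f0f0f0f0f0f0f05f5e5df0f0f0f0f0f0f05a5958f0f0f0f0f0f0f0504f4ef0f0f0f0f0f0f0f0f0444342f0f0f0f0f0f0f03a3938f0f0302f2ef0f024f0f0f0f0f0f0f0f0f0f0f0201f1ef01d1c1bf0f0f0f0f0f0f0f0f0f0f0f0f01615f0f0f0f01110f0f0f0f0f0f0f0f0f0f0f0f0f0f00ef0f0f0f0f0f0f0f0f0f0f00a09f0f0f0f0f0f0f0f006f0f0f0f0f0f0f0f0f005f0f0f0f0f0f0f0f0f0020100f0f0f0f0f0f0f0f0f0f0f0f0f0f0f0f0f0f0f0f0f0f0f0f0f0f0f0f0f0f0f0f0f0f0f0f0f0f0f0f0f0f0f0, 0xc6c5f0c2f0b9aff0f0a6f0a4f0f099f08af088f0f084f082f0f07bf0767571f0f06f6ef0f062f0f0f0f0f0f0f0f060f0f05e5df0f0f0f0f05bf0f05958f0f0f0f0f05251f04ef0f0f0f0f0f0f0f045f0f04342f0f0f0f0f03c3bf038f03231f02ef025f0f0f0f0f0f0f0f0f0f0f02221f01ef0f0f01d1cf0f0f0f01af0f0f0f0f0f017f015f0f0f012f010f0f0f0f0f0f0f0f0f0f0f0f0f0f00ef0f0f0f0f0f0f0f0f0f00bf009f0f0f0f0f0f0f0f006f0f0f0f0f0f0f0f0f005f0f0f0f0f0f0f0f003f0f00100f0f0f0f0f0f0f0f0f0f0f0f0f0f0f0f0f0f0f0f0f0f0f0f0f0f0f0f0f0f0f0f0f0f0f0f0f0f0f0f0f0,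 0xc7f0c5c3f0bab0f0f0a7f0f0a4f09af08bf0f088f085f0f082f07c79f077f071f070f06ef0f062f0f0f0f0f0f0f0f060f05ff05df0f0f0f0f05bf05af058f0f0f0f053f0514ff0f0f0f0f0f0f0f0f045f044f042f0f0f0f03df03b39f033f0312ff026f0f0f0f0f0f0f0f0f0f0f023f0211ff0f0f0f0f01df01bf0f01af0f0f0f0f018f0f015f0f013f0f010f0f0f0f0f0f0f0f0f0f0f0f0f0f00ef0f0f0f0f0f0f0f0f00cf0f009f0f0f0f0f0f0f0f006f0f0f0f0f0f0f0f0f005f0f0f0f0f0f0f0f003f002f000f0f0f0f0f0f0f0f0f0f0f0f0f0f0f0f0f0f0f0f0f0f0f0f0f0f0f0f0f0f0f0f0f0f0f0f0f0f0f0f0, 0xf0c7c6c4f0bbb1f0f0a8f0f0f0a49bf08cf0f0f08886f0f0f0827d7a78f0f0f071f0706ff0f0f062f0f0f0f0f0f0f0f060f05f5ef0f0f0f0f0f05bf05a59f0f0f0f0f0535250f0f0f0f0f0f0f0f0f0f045f04443f0f0f0f0f03d3c3af0f0333230f027f0f0f0f0f0f0f0f0f0f0f0f0232220f0f0f0f0f0f01cf01bf0f01af0f0f0f019f0f0f015f014f0f0f010f0f0f0f0f0f0f0f0f0f0f0f0f0f00ef0f0f0f0f0f0f0f00df0f0f009f0f0f0f0f0f0f0f006f0f0f0f0f0f0f0f0f005f0f0f0f0f0f0f0f003f00201f0f0f0f0f0f0f0f0f0f0f0f0f0f0f0f0f0f0f0f0f0f0f0f0f0f0f0f0f0f0f0f0f0f0f0f0f0f0f0f0,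 0xc9c8f0f0c2bcb2f0f0f0a6a5f0f09cf0f08a89f0f0f08483f0f07f7ef0f0f076757372f0f0f0f0f062f0f0f0f0f061f0f0f0f0f05e5df0f05cf0f0f0f0f05958f0f05554f0f04ef0f0f0f0f0f0f046f0f0f0f0f04342f0f03f3ef0f0383534f0f02e28f0f0f0f0f0f0f0f0f0f0f0f0f0f0f02221f0201ff0f0f0f0f0f0f01b1af0f0f01716f0f0f0f01211f0f0f0f0f0f0f0f0f0f0f0f0f0f0f0f0f00ef0f0f0f0f0f0f0f00b0af0f0f0f0f0f0f0f0f0f0f006f0f0f0f0f0f0f0f0f005f0f0f0f0f004f0f0f0f0f00100f0f0f0f0f0f0f0f0f0f0f0f0f0f0f0f0f0f0f0f0f0f0f0f0f0f0f0f0f0f0f0f0f0f0f0f0f0f0, 0xcaf0c8f0c3bdb3f0f0f0a7f0a5f09df0f08bf089f0f085f083f080f07ef079f07774f072f0f0f0f0f062f0f0f0f0f061f0f0f0f05ff05df0f05cf0f0f0f05af058f056f054f04ff0f0f0f0f0f0f0f046f0f0f0f044f042f040f03ef03936f034f02f29f0f0f0f0f0f0f0f0f0f0f0f0f0f0f023f021f0f020f01ef0f0f0f01cf01af0f018f016f0f0f013f011f0f0f0f0f0f0f0f0f0f0f0f0f0f0f0f0f00ef0f0f0f0f0f0f00cf00af0f0f0f0f0f0f0f0f0f0f006f0f0f0f0f0f0f0f0f005f0f0f0f0f004f0f0f0f002f000f0f0f0f0f0f0f0f0f0f0f0f0f0f0f0f0f0f0f0f0f0f0f0f0f0f0f0f0f0f0f0f0f0f0f0f0f0],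
  [0xf0cac9f0c4beb4f0f0f0a8f0f0a59ef0f08cf0f089f086f0f08381f0f07e7a78f0f07473f0f0f0f0f0f062f0f0f0f0f061f0f0f0f05f5ef0f0f05cf0f0f0f05a59f0f05655f050f0f0f0f0f0f0f0f0f046f0f0f0f04443f0f0403ff03af03635f0302af0f0f0f0f0f0f0f0f0f0f0f0f0f0f0f02322f0f0f01ff01ef0f0f01df0f01af019f0f016f0f014f0f011f0f0f0f0f0f0f0f0f0f0f0f0f0f0f0f0f00ef0f0f0f0f0f00df0f00af0f0f0f0f0f0f0f0f0f0f006f0f0f0f0f0f0f0f0f005f0f0f0f0f004f0f0f0f00201f0f0f0f0f0f0f0f0f0f0f0f0f0f0f0f0f0f0f0f0f0f0f0f0f0f0f0f0f0f0f0f0f0f0f0f0f0, 0xcbf0f0c8c5bfb5f0f0f0f0a7a6f09ff0f0f08b8af0f0f08584f0f0807ff07c7bf0f07775f0f0f0f0f0f0f062f0f0f0f0f061f0f060f0f05df0f0f05cf0f05bf0f05857f0f05451f0f0f0f0f0f0f0f0f0f046f0f045f0f04241f0f03e3b37f0f034312bf0f0f0f0f0f0f0f0f0f0f0f0f0f0f0f0f0f023f022f0f0f01f1ef0f01c1bf0f0f01817f0f0f0f01312f0f0f0f0f0f0f0f0f0f0f0f0f0f0f0f0f0f0f00ef0f0f0f0f0f00c0bf0f0f0f0f0f0f0f0f0f0f0f0f006f0f0f0f0f0f0f0f0f005f0f0f0f0f004f0f003f0f000f0f0f0f0f0f0f0f0f0f0f0f0f0f0f0f0f0f0f0f0f0f0f0f0f0f0f0f0f0f0f0f0f0f0f0f0,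 0xf0cbf0c9c6c0b6f0f0f0f0a8f0a6a0f0f0f08cf08af0f086f084f081f07f7df07b78f076f0f0f0f0f0f0f0f062f0f0f0f0f061f0f060f05ef0f0f0f05cf0f05bf059f057f05552f0f0f0f0f0f0f0f0f0f0f046f0f045f043f041f03f3cf037f035322cf0f0f0f0f0f0f0f0f0f0f0f0f0f0f0f0f0f0f023f021f0f020f01ef01df01bf0f019f017f0f0f014f012f0f0f0f0f0f0f0f0f0f0f0f0f0f0f0f0f0f0f00ef0f0f0f0f00df00bf0f0f0f0f0f0f0f0f0f0f0f0f006f0f0f0f0f0f0f0f0f005f0f0f0f0f004f0f003f001f0f0f0f0f0f0f0f0f0f0f0f0f0f0f0f0f0f0f0f0f0f0f0f0f0f0f0f0f0f0f0f0f0f0f0f0, 0xf0f0cbcac7c1b7f0f0f0f0f0a8a7a1f0f0f0f08c8bf0f0f08685f0f08180f07d7c7a79f0f0f0f0f0f0f0f0f0f062f0f0f0f0f061f0f0605ff0f0f0f0f05cf0f05b5af0f0575653f0f0f0f0f0f0f0f0f0f0f0f046f0f04544f0f041403df0f03736332df0f0f0f0f0f0f0f0f0f0f0f0f0f0f0f0f0f0f0f0f0f02221f0201ff0f01d1cf0f0f01918f0f0f0f01413f0f0f0f0f0f0f0f0f0f0f0f0f0f0f0f0f0f0f0f00ef0f0f0f0f00d0cf0f0f0f0f0f0f0f0f0f0f0f0f0f006f0f0f0f0f0f0f0f0f005f0f0f0f0f004f0f00302f0f0f0f0f0f0f0f0f0f0f0f0f0f0f0f0f0f0f0f0f0f0f0f0f0f0f0f0f0f0f0f0f0f0f0f0,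 0xcecdccf0f0f0f0b8aeaaa9f0f0f0f0989493f0f0f08f8ef0f0f08df0f0f0f0f0f0f0f0f0f0747372706f6ef0f0f06b6a69f0f0f0f0f0f0f0656463f0f0f0f0f0f0f0f0f0f0f0f0504f4ef0f0f0f0494847f0f0f0f0f0f0f0f0f0f0f0f0f0f0f0f0f0f03a3938f0f0f0302f2ef0f02a2928f0272625f0f0f0f0f0f0f0f0f0f0f0f0f0f0f0f0f0f0f0f0f0f0f0f01a1615f0f0f01110f0f0f00ff0f0f0f0f0f0f0f0f0f0f0f0f0f0f0f00a09f0f0f008f0f0f0f0f0f0f0f0f007f0f0f0f0f0f0f0f0f0f0f0f0f0f0f0f0f0f0f0020100f0f0f0f0f0f0f0f0f0f0f0f0f0f0f0f0f0f0f0f0f0f0f0f0f0f0f0f0f0f0f0f0f0, 0xd0cff0ccf0f0f0b9afabf0a9f0f0f09995f093f0f090f08ef0f0f08df0f0f0f0f0f0f0f07bf0767571f0f06f6ef06cf0f06a69f0f0f0f0f066f0f06463f0f0f0f0f0f0f0f0f0f05251f04ef0f0f04af0f04847f0f0f0f0f0f0f0f0f0f0f0f0f0f0f0f03c3bf038f0f03231f02ef02c2bf028f0f0f02726f0f0f0f024f0f0f0f0f0f0f0f0f0f0f0f0f0f0f0f0f01b17f015f0f012f010f0f0f00ff0f0f0f0f0f0f0f0f0f0f0f0f0f0f00bf009f0f0f008f0f0f0f0f0f0f0f0f007f0f0f0f0f0f0f0f0f0f0f0f0f0f0f0f0f0f003f0f00100f0f0f0f0f0f0f0f0f0f0f0f0f0f0f0f0f0f0f0f0f0f0f0f0f0f0f0f0f0f0f0,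 0xd1f0cfcdf0f0f0bab0acf0f0a9f0f09a96f0f093f091f0f08ef0f0f08df0f0f0f0f0f0f07c79f077f071f070f06ef06cf06bf069f0f0f0f0f066f065f063f0f0f0f0f0f0f0f0f053f0514ff0f0f0f04af049f047f0f0f0f0f0f0f0f0f0f0f0f0f0f0f03df03b39f0f033f0312ff02df02b29f0f0f0f0f027f025f0f024f0f0f0f0f0f0f0f0f0f0f0f0f0f0f0f01c18f0f015f013f0f010f0f0f00ff0f0f0f0f0f0f0f0f0f0f0f0f0f00cf0f009f0f0f008f0f0f0f0f0f0f0f0f007f0f0f0f0f0f0f0f0f0f0f0f0f0f0f0f0f0f003f002f000f0f0f0f0f0f0f0f0f0f0f0f0f0f0f0f0f0f0f0f0f0f0f0f0f0f0f0f0f0f0, 0xf0d1d0cef0f0f0bbb1adf0f0f0a9f09b97f0f0f09392f0f0f08ef0f0f08df0f0f0f0f0f07d7a78f0f0f071f0706ff0f06cf06b6af0f0f0f0f0f066f06564f0f0f0f0f0f0f0f0f0f0535250f0f0f0f0f04af04948f0f0f0f0f0f0f0f0f0f0f0f0f0f0f0f03d3c3af0f0f0333230f0f02d2c2af0f0f0f0f0f026f025f0f024f0f0f0f0f0f0f0f0f0f0f0f0f0f0f01d19f0f0f01514f0f0f010f0f0f00ff0f0f0f0f0f0f0f0f0f0f0f0f00df0f0f009f0f0f008f0f0f0f0f0f0f0f0f007f0f0f0f0f0f0f0f0f0f0f0f0f0f0f0f0f0f003f00201f0f0f0f0f0f0f0f0f0f0f0f0f0f0f0f0f0f0f0f0f0f0f0f0f0f0f0f0f0f0,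 0xd3d2f0f0ccf0f0bcb2f0abaaf0f0f09cf09594f0f0f0908ff0f0f0f0f0f08df0f0f0f0f07f7ef0f0f076757372f06df0f0f0f0f06a69f0f067f0f0f0f0f06463f0f0f0f0f0f0f05554f0f04ef0f04bf0f0f0f0f04847f0f0f0f0f0f0f0f0f0f0f0f0f03f3ef0f038f03534f0f02ef0f0f0f02c2bf02a29f0f0f0f0f0f0f02524f0f0f0f0f0f0f0f0f0f0f0f0f01ef01716f0f0f01211f0f0f0f0f0f00ff0f0f0f0f0f0f0f0f0f0f0f0f00b0af0f0f0f0f0f008f0f0f0f0f0f0f0f0f007f0f0f0f0f0f0f0f0f0f0f0f0f0f0f004f0f0f0f0f00100f0f0f0f0f0f0f0f0f0f0f0f0f0f0f0f0f0f0f0f0f0f0f0f0f0f0f0f0, 0xd4f0d2f0cdf0f0bdb3f0acf0aaf0f09df096f094f0f091f08ff0f0f0f0f0f08df0f0f0f080f07ef079f07774f072f06df0f0f0f06bf069f0f067f0f0f0f065f063f0f0f0f0f0f056f054f04ff0f0f04bf0f0f0f049f047f0f0f0f0f0f0f0f0f0f0f0f040f03ef039f036f034f02ff0f0f0f02df02bf0f02af028f0f0f0f026f024f0f0f0f0f0f0f0f0f0f0f0f01ff018f016f0f013f011f0f0f0f0f0f00ff0f0f0f0f0f0f0f0f0f0f0f00cf00af0f0f0f0f0f008f0f0f0f0f0f0f0f0f007f0f0f0f0f0f0f0f0f0f0f0f0f0f0f004f0f0f0f002f000f0f0f0f0f0f0f0f0f0f0f0f0f0f0f0f0f0f0f0f0f0f0f0f0f0f0f0,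 0xf0d4d3f0cef0f0beb4f0adf0f0aaf09ef097f0f094f092f0f08ff0f0f0f0f0f08df0f0f081f0f07e7a78f0f07473f0f06df0f0f0f06b6af0f0f067f0f0f0f06564f0f0f0f0f0f0f05655f050f0f0f0f04bf0f0f0f04948f0f0f0f0f0f0f0f0f0f0f0f0f0403ff03af0f03635f030f0f0f0f0f02d2cf0f0f029f028f0f0f027f0f024f0f0f0f0f0f0f0f0f0f0f020f019f0f016f014f0f011f0f0f0f0f0f00ff0f0f0f0f0f0f0f0f0f0f00df0f00af0f0f0f0f0f008f0f0f0f0f0f0f0f0f007f0f0f0f0f0f0f0f0f0f0f0f0f0f0f004f0f0f0f00201f0f0f0f0f0f0f0f0f0f0f0f0f0f0f0f0f0f0f0f0f0f0f0f0f0f0f0, 0xd5f0f0d2cff0f0bfb5f0f0acabf0f09ff0f09695f0f0f09190f0f0f0f0f0f0f0f08df0f0f0807ff07c7bf0f07775f0f0f06df0f06cf0f069f0f0f067f0f066f0f063f0f0f0f0f057f0f05451f0f0f0f0f04bf0f04af0f047f0f0f0f0f0f0f0f0f0f0f041f0f03e3bf037f0f03431f0f0f0f0f0f0f02df02cf0f0f02928f0f02625f0f0f0f0f0f0f0f0f0f0f0f021f0f01817f0f0f01312f0f0f0f0f0f0f0f00ff0f0f0f0f0f0f0f0f0f0f00c0bf0f0f0f0f0f0f0f008f0f0f0f0f0f0f0f0f007f0f0f0f0f0f0f0f0f0f0f0f0f0f0f004f0f003f0f000f0f0f0f0f0f0f0f0f0f0f0f0f0f0f0f0f0f0f0f0f0f0f0f0f0f0,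 0xf0d5f0d3d0f0f0c0b6f0f0adf0abf0a0f0f097f095f0f092f090f0f0f0f0f0f0f0f08df0f081f07f7df07b78f076f0f0f0f06df0f06cf06af0f0f0f067f0f066f064f0f0f0f0f0f057f05552f0f0f0f0f0f04bf0f04af048f0f0f0f0f0f0f0f0f0f0f0f041f03f3cf0f037f03532f0f0f0f0f0f0f0f02df02bf0f02af028f027f025f0f0f0f0f0f0f0f0f0f0f022f0f019f017f0f014f012f0f0f0f0f0f0f0f00ff0f0f0f0f0f0f0f0f0f00df00bf0f0f0f0f0f0f0f008f0f0f0f0f0f0f0f0f007f0f0f0f0f0f0f0f0f0f0f0f0f0f0f004f0f003f001f0f0f0f0f0f0f0f0f0f0f0f0f0f0f0f0f0f0f0f0f0f0f0f0f0f0, 0xf0f0d5d4d1f0f0c1b7f0f0f0adacf0a1f0f0f09796f0f0f09291f0f0f0f0f0f0f0f0f08df0f08180f07d7c7a79f0f0f0f0f0f06df0f06c6bf0f0f0f0f067f0f06665f0f0f0f0f0f0f0575653f0f0f0f0f0f0f04bf0f04a49f0f0f0f0f0f0f0f0f0f0f0f0f041403df0f0f0373633f0f0f0f0f0f0f0f0f0f0f02c2bf02a29f0f02726f0f0f0f0f0f0f0f0f0f0f023f0f0f01918f0f0f01413f0f0f0f0f0f0f0f0f00ff0f0f0f0f0f0f0f0f0f00d0cf0f0f0f0f0f0f0f0f008f0f0f0f0f0f0f0f0f007f0f0f0f0f0f0f0f0f0f0f0f0f0f0f004f0f00302f0f0f0f0f0f0f0f0f0f0f0f0f0f0f0f0f0f0f0f0f0f0f0f0f0f0,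 0xd7d6f0f0f0ccf0c2f0b2afaef0f0f0f09c9998f0f0f0f0f0f0f0908ff0f08ef0f0f0f0f08483f0f082f0f0f0f0f0f076757372f06f6ef0f068f0f0f0f0f0f0f0f0f06463f0f0f05958f0f0f04ef04cf0f0f0f0f0f0f0f0f04847f0f0f0f0f0f0f0f0f04342f0f0f038f0f0f0f0f03534f0f03231f0302ff0f0f0f0f0f0f0f0f0f0f0282524f0f0f0f0f0f0f0f0f01e1b1af0f0f0f0f0f0f01211f0f010f0f0f0f0f0f0f0f0f0f0f0f0f0f0f0f0f00b0af0f009f0f0f0f0f0f0f0f0f0f0f0f0f0f0f007f0f0f0f0f0f0f0f0f005f0f0f0f0f0f0f0f0f00100f0f0f0f0f0f0f0f0f0f0f0f0f0f0f0f0f0f0f0f0f0f0f0f0, 0xd8f0d6f0f0cdf0c3f0b3b0f0aef0f0f09d9af098f0f0f0f0f0f091f08ff0f08ef0f0f0f085f083f0f082f0f0f0f079f07774f07270f06ef0f068f0f0f0f0f0f0f0f065f063f0f05af058f0f04ff0f04cf0f0f0f0f0f0f0f049f047f0f0f0f0f0f0f0f044f042f0f039f0f0f0f0f036f034f033f031f0f030f02ef0f0f0f0f0f0f0f02926f024f0f0f0f0f0f0f0f01f1cf01af0f0f0f0f0f013f011f0f010f0f0f0f0f0f0f0f0f0f0f0f0f0f0f0f00cf00af0f009f0f0f0f0f0f0f0f0f0f0f0f0f0f0f007f0f0f0f0f0f0f0f0f005f0f0f0f0f0f0f0f002f000f0f0f0f0f0f0f0f0f0f0f0f0f0f0f0f0f0f0f0f0f0f0f0],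
  [0xf0d8d7f0f0cef0c4f0b4b1f0f0aef0f09e9bf0f098f0f0f0f0f092f0f08ff0f08ef0f0f086f0f083f0f082f0f0f07a78f0f07473f0706ff0f0f068f0f0f0f0f0f0f0f06564f0f0f05a59f0f050f0f0f04cf0f0f0f0f0f0f0f04948f0f0f0f0f0f0f0f0f04443f0f03af0f0f0f0f0f03635f0f03332f0f0f02ff02ef0f0f0f0f0f0f02a27f0f024f0f0f0f0f0f0f0201df0f01af0f0f0f0f014f0f011f0f010f0f0f0f0f0f0f0f0f0f0f0f0f0f0f00df0f00af0f009f0f0f0f0f0f0f0f0f0f0f0f0f0f0f007f0f0f0f0f0f0f0f0f005f0f0f0f0f0f0f0f00201f0f0f0f0f0f0f0f0f0f0f0f0f0f0f0f0f0f0f0f0f0f0f0, 0xd9f0f0d6f0cff0c5f0b5f0b0aff0f0f09ff09a99f0f0f0f0f0f0f09190f0f0f0f08ef0f0f08584f0f0f0f082f0f07c7bf0f0777571f0f06ef0f0f068f0f0f0f0f0f066f0f063f05bf0f058f051f0f0f0f04cf0f0f0f0f0f04af0f047f0f0f0f0f0f0f045f0f042f03bf0f0f0f0f037f0f034f0f0f033f032f0f0f02f2ef0f0f0f0f02bf02625f0f0f0f0f0f0f0f021f01c1bf0f0f0f0f0f0f01312f0f0f0f010f0f0f0f0f0f0f0f0f0f0f0f0f0f0f00c0bf0f0f0f009f0f0f0f0f0f0f0f0f0f0f0f0f0f0f007f0f0f0f0f0f0f0f0f005f0f0f0f0f0f003f0f000f0f0f0f0f0f0f0f0f0f0f0f0f0f0f0f0f0f0f0f0f0f0,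 0xf0d9f0d7f0d0f0c6f0b6f0b1f0aff0f0a0f09bf099f0f0f0f0f0f092f090f0f0f0f08ef0f086f084f0f0f0f082f07df07b78f076f071f06ff0f0f0f068f0f0f0f0f0f066f064f0f05bf059f052f0f0f0f0f04cf0f0f0f0f0f04af048f0f0f0f0f0f0f0f045f043f03cf0f0f0f0f0f037f035f0f0f0f033f031f0f030f02ef0f0f0f02cf027f025f0f0f0f0f0f0f022f01df01bf0f0f0f0f0f014f012f0f0f0f010f0f0f0f0f0f0f0f0f0f0f0f0f0f00df00bf0f0f0f009f0f0f0f0f0f0f0f0f0f0f0f0f0f0f007f0f0f0f0f0f0f0f0f005f0f0f0f0f0f003f001f0f0f0f0f0f0f0f0f0f0f0f0f0f0f0f0f0f0f0f0f0f0, 0xf0f0d9d8f0d1f0c7f0b7f0f0b1b0f0f0a1f0f09b9af0f0f0f0f0f0f09291f0f0f0f0f08ef0f08685f0f0f0f0f082f07d7c7a79f0f0f07170f0f0f0f0f068f0f0f0f0f0f06665f0f0f05b5af053f0f0f0f0f0f04cf0f0f0f0f0f04a49f0f0f0f0f0f0f0f0f04544f03df0f0f0f0f0f0f03736f0f0f0f0f0f0f03231f0302ff0f0f0f02df0f02726f0f0f0f0f0f0f023f0f01d1cf0f0f0f0f0f0f01413f0f0f0f0f010f0f0f0f0f0f0f0f0f0f0f0f0f0f00d0cf0f0f0f0f009f0f0f0f0f0f0f0f0f0f0f0f0f0f0f007f0f0f0f0f0f0f0f0f005f0f0f0f0f0f00302f0f0f0f0f0f0f0f0f0f0f0f0f0f0f0f0f0f0f0f0f0f0,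 0xdaf0f0f0d6d2f0c8f0f0b5b3b2f0f0f0f09f9d9cf0f0f0f0f0f0f0f0f0f09190f08ff0f0f0f0f0f08584f083f0f0807ff07ef0f0f0777572f0f0f0f0f0f068f0f0f067f0f0f0635cf0f0f05854f0f0f0f0f0f0f04cf0f0f04bf0f0f047f0f0f0f0f0f046f0f0f0423ef0f0f0f0f0f0f0f0f037f0f036f035f0f0f0f0f0f0312f2ef0f02b2928f0f0f0f0f0f0f0f0f0211f1ef0f0f0f0f0f0f0f0f0f01312f011f0f0f0f0f0f0f0f0f0f0f0f0f0f0f0f0f0f00c0bf00af0f0f0f0f0f0f0f0f0f0f0f0f0f0f0f0f0f007f0f0f0f0f0f0f0f0f005f0f0f004f0f0f000f0f0f0f0f0f0f0f0f0f0f0f0f0f0f0f0f0f0f0f0f0, 0xf0daf0f0d7d3f0c9f0f0b6b4f0b2f0f0f0a09ef09cf0f0f0f0f0f0f0f0f092f090f08ff0f0f0f0f086f084f083f081f07ff07ef078f07673f0f0f0f0f0f0f068f0f0f067f0f064f05cf0f05955f0f0f0f0f0f0f0f04cf0f0f04bf0f048f0f0f0f0f0f0f046f0f0433ff0f0f0f0f0f0f0f0f0f037f0f036f034f0f0f0f0f03230f02ef02c2af028f0f0f0f0f0f0f0f02220f01ef0f0f0f0f0f0f0f0f014f012f011f0f0f0f0f0f0f0f0f0f0f0f0f0f0f0f0f00df00bf00af0f0f0f0f0f0f0f0f0f0f0f0f0f0f0f0f0f007f0f0f0f0f0f0f0f0f005f0f0f004f0f001f0f0f0f0f0f0f0f0f0f0f0f0f0f0f0f0f0f0f0f0f0,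 0xf0f0daf0d8d4f0caf0f0b7f0b4b3f0f0f0a1f09e9df0f0f0f0f0f0f0f0f0f09291f0f08ff0f0f0f0f08685f0f083f08180f0f07e7a79f074f0f0f0f0f0f0f0f068f0f0f067f065f0f05cf05a56f0f0f0f0f0f0f0f0f04cf0f0f04bf049f0f0f0f0f0f0f0f046f04440f0f0f0f0f0f0f0f0f0f0f037f0f0f0f03534f0f0f033f0302ff02df02a29f0f0f0f0f0f0f0f023f0201ff0f0f0f0f0f0f0f0f0f01413f0f011f0f0f0f0f0f0f0f0f0f0f0f0f0f0f0f0f00d0cf0f00af0f0f0f0f0f0f0f0f0f0f0f0f0f0f0f0f0f007f0f0f0f0f0f0f0f0f005f0f0f004f002f0f0f0f0f0f0f0f0f0f0f0f0f0f0f0f0f0f0f0f0f0, 0xf0f0f0dad9d5f0cbf0f0f0b7b6b5f0f0f0f0a1a09ff0f0f0f0f0f0f0f0f0f0f0f0929190f0f0f0f0f0f0f0868584f0f0f081807f7d7c7bf0f0f0f0f0f0f0f0f0f068f0f0f06766f0f0f05c5b57f0f0f0f0f0f0f0f0f0f04cf0f0f04b4af0f0f0f0f0f0f0f0f0464541f0f0f0f0f0f0f0f0f0f0f0f0f0f0f0f0f0f0363534f0333231f0f02d2c2bf0f0f0f0f0f0f0f0f0232221f0f0f0f0f0f0f0f0f0f0f0f0141312f0f0f0f0f0f0f0f0f0f0f0f0f0f0f0f0f0f0f00d0c0bf0f0f0f0f0f0f0f0f0f0f0f0f0f0f0f0f0f0f007f0f0f0f0f0f0f0f0f005f0f0f00403f0f0f0f0f0f0f0f0f0f0f0f0f0f0f0f0f0f0f0f0f0,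 0xdcdbf0f0f0f0ccf0c2bcb9b8f0f0f0f0f0f0f0f0f09c9998f0f09594f0f093f0f0f0f0f08a89f0f088f0f0f0f0f087f0f0f0f0f0f0f0f0f0f076757372f06f6ef0f06a69f0f0f05e5df0f0f0f04e4df0f0f0f0f0f0f0f0f0f0f0f0f0f04847f0f0f0f0f0f0f0f0f0f04342f0f0f03f3ef0f03c3bf03a39f0f0f0f0f0f0f0f0f0f0f0f0f0f0f0f02e282524f0f0f0f0f0f0f0f01e1b1af0f01716f0f015f0f0f0f0f0f0f0f0f0f0f0f0f0f0f0f0f0f0f0f0f0f0f0f0f0f0f00b0af0f009f0f0f0f0f008f0f0f0f0f0f0f0f0f006f0f0f0f0f0f0f0f0f0f0f0f0f0f00100f0f0f0f0f0f0f0f0f0f0f0f0f0f0f0f0f0f0f0, 0xddf0dbf0f0f0cdf0c3bdbaf0b8f0f0f0f0f0f0f0f09d9af098f096f094f0f093f0f0f0f08bf089f0f088f0f0f0f0f087f0f0f0f0f0f0f0f079f07774f07270f06ef06bf069f0f05ff05df0f0f04ff04df0f0f0f0f0f0f0f0f0f0f0f0f049f047f0f0f0f0f0f0f0f0f044f042f0f040f03ef03df03bf0f03af038f0f0f0f0f0f0f0f0f0f0f0f0f02f2926f024f0f0f0f0f0f0f01f1cf01af018f016f0f015f0f0f0f0f0f0f0f0f0f0f0f0f0f0f0f0f0f0f0f0f0f0f0f0f0f00cf00af0f009f0f0f0f0f008f0f0f0f0f0f0f0f0f006f0f0f0f0f0f0f0f0f0f0f0f0f002f000f0f0f0f0f0f0f0f0f0f0f0f0f0f0f0f0f0f0,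 0xf0dddcf0f0f0cef0c4bebbf0f0b8f0f0f0f0f0f0f09e9bf0f09897f0f094f0f093f0f0f08cf0f089f0f088f0f0f0f0f087f0f0f0f0f0f0f07a78f0f07473f0706ff0f06b6af0f0f05f5ef0f0f050f0f04df0f0f0f0f0f0f0f0f0f0f0f0f04948f0f0f0f0f0f0f0f0f0f04443f0f0f0403ff0f03d3cf0f0f039f038f0f0f0f0f0f0f0f0f0f0f0f0302a27f0f024f0f0f0f0f0f0201df0f01a19f0f016f0f015f0f0f0f0f0f0f0f0f0f0f0f0f0f0f0f0f0f0f0f0f0f0f0f0f00df0f00af0f009f0f0f0f0f008f0f0f0f0f0f0f0f0f006f0f0f0f0f0f0f0f0f0f0f0f0f00201f0f0f0f0f0f0f0f0f0f0f0f0f0f0f0f0f0f0, 0xdef0f0dbf0f0cff0c5bff0bab9f0f0f0f0f0f0f0f09ff09a99f0f09695f0f0f0f093f0f0f08b8af0f0f0f088f0f0f0f0f087f0f0f0f0f0f07c7bf0f0777571f0f06e6cf0f069f060f0f05df0f051f0f0f04df0f0f0f0f0f0f0f0f0f0f04af0f047f0f0f0f0f0f0f0f045f0f042f041f0f03ef0f0f03df03cf0f0f03938f0f0f0f0f0f0f0f0f0f0312bf02625f0f0f0f0f0f0f021f01c1bf0f01817f0f0f0f015f0f0f0f0f0f0f0f0f0f0f0f0f0f0f0f0f0f0f0f0f0f0f0f0f00c0bf0f0f0f009f0f0f0f0f008f0f0f0f0f0f0f0f0f006f0f0f0f0f0f0f0f0f0f0f003f0f000f0f0f0f0f0f0f0f0f0f0f0f0f0f0f0f0f0,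 0xf0def0dcf0f0d0f0c6c0f0bbf0b9f0f0f0f0f0f0f0a0f09bf099f097f095f0f0f0f093f0f08cf08af0f0f0f088f0f0f0f0f087f0f0f0f0f07df07b78f076f071f06ff06cf06af0f060f05ef0f052f0f0f0f04df0f0f0f0f0f0f0f0f0f0f04af048f0f0f0f0f0f0f0f0f045f043f0f041f03ff0f0f0f03df03bf0f03af038f0f0f0f0f0f0f0f0f0322cf027f025f0f0f0f0f0f022f01df01bf019f017f0f0f0f015f0f0f0f0f0f0f0f0f0f0f0f0f0f0f0f0f0f0f0f0f0f0f0f00df00bf0f0f0f009f0f0f0f0f008f0f0f0f0f0f0f0f0f006f0f0f0f0f0f0f0f0f0f0f003f001f0f0f0f0f0f0f0f0f0f0f0f0f0f0f0f0f0, 0xf0f0deddf0f0d1f0c7c1f0f0bbbaf0f0f0f0f0f0f0a1f0f09b9af0f09796f0f0f0f0f093f0f08c8bf0f0f0f0f088f0f0f0f0f087f0f0f0f0f07d7c7a79f0f0f07170f0f06c6bf0f0f0605ff0f053f0f0f0f0f04df0f0f0f0f0f0f0f0f0f0f04a49f0f0f0f0f0f0f0f0f0f04544f0f0f04140f0f0f0f0f0f0f03c3bf03a39f0f0f0f0f0f0f0f0f0332df0f02726f0f0f0f0f0f023f0f01d1cf0f01918f0f0f0f0f015f0f0f0f0f0f0f0f0f0f0f0f0f0f0f0f0f0f0f0f0f0f0f0f00d0cf0f0f0f0f009f0f0f0f0f008f0f0f0f0f0f0f0f0f006f0f0f0f0f0f0f0f0f0f0f00302f0f0f0f0f0f0f0f0f0f0f0f0f0f0f0f0f0,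 0xdff0f0f0dbf0d2f0c8f0bfbdbcf0f0f0f0f0f0f0f0f09f9d9cf0f0f0f0f09695f094f0f0f0f0f0f08b8af089f0f0f0f0f0f0f0f087f0f0f0807ff07ef0f0f07775726df0f0f06961f0f0f05df054f0f0f0f0f0f04df0f0f0f0f0f0f0f04bf0f0f047f0f0f0f0f0f0f046f0f0f042f0f0f0f041f0f040f03ff0f0f0f0f0f03b3938f0f0f0f0f0f034f02b2928f0f0f0f0f0f0f0f0211f1ef0f0f0f0f01817f016f0f0f0f0f0f0f0f0f0f0f0f0f0f0f0f0f0f0f0f0f0f0f0f0f0f0f0f00c0bf00af0f0f0f0f0f0f0f008f0f0f0f0f0f0f0f0f006f0f0f0f0f0f0f0f004f0f0f000f0f0f0f0f0f0f0f0f0f0f0f0f0f0f0f0, 0xf0dff0f0dcf0d3f0c9f0c0bef0bcf0f0f0f0f0f0f0f0a09ef09cf0f0f0f097f095f094f0f0f0f0f08cf08af089f0f0f0f0f0f0f0f087f0f081f07ff07ef078f07673f06df0f06af061f0f05ef055f0f0f0f0f0f0f04df0f0f0f0f0f0f0f04bf0f048f0f0f0f0f0f0f0f046f0f043f0f0f0f0f041f0f040f03ef0f0f0f0f03c3af038f0f0f0f0f035f02c2af028f0f0f0f0f0f0f02220f01ef0f0f0f019f017f016f0f0f0f0f0f0f0f0f0f0f0f0f0f0f0f0f0f0f0f0f0f0f0f0f0f0f00df00bf00af0f0f0f0f0f0f0f008f0f0f0f0f0f0f0f0f006f0f0f0f0f0f0f0f004f0f001f0f0f0f0f0f0f0f0f0f0f0f0f0f0f0f0],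
  [0xf0f0dff0ddf0d4f0caf0c1f0bebdf0f0f0f0f0f0f0f0a1f09e9df0f0f0f0f09796f0f094f0f0f0f0f08c8bf0f089f0f0f0f0f0f0f0f087f0f08180f0f07e7a79f074f0f06df06bf0f061f05ff056f0f0f0f0f0f0f0f04df0f0f0f0f0f0f0f04bf049f0f0f0f0f0f0f0f0f046f044f0f0f0f0f0f041f0f0f0f03f3ef0f0f03df03a39f0f0f0f0f036f02df02a29f0f0f0f0f0f0f023f0201ff0f0f0f0f01918f0f016f0f0f0f0f0f0f0f0f0f0f0f0f0f0f0f0f0f0f0f0f0f0f0f0f0f0f00d0cf0f00af0f0f0f0f0f0f0f008f0f0f0f0f0f0f0f0f006f0f0f0f0f0f0f0f004f002f0f0f0f0f0f0f0f0f0f0f0f0f0f0f0f0, 0xf0f0f0dfdef0d5f0cbf0f0c1c0bff0f0f0f0f0f0f0f0f0a1a09ff0f0f0f0f0f0f0979695f0f0f0f0f0f0f08c8b8af0f0f0f0f0f0f0f0f087f0f0f081807f7d7c7bf0f0f0f06d6cf0f0f06160f057f0f0f0f0f0f0f0f0f04df0f0f0f0f0f0f0f04b4af0f0f0f0f0f0f0f0f0f04645f0f0f0f0f0f0f0f0f0f0f0f0f0403f3ef03d3c3bf0f0f0f0f037f0f02d2c2bf0f0f0f0f0f0f0f0232221f0f0f0f0f0f0f0191817f0f0f0f0f0f0f0f0f0f0f0f0f0f0f0f0f0f0f0f0f0f0f0f0f0f0f0f0f00d0c0bf0f0f0f0f0f0f0f0f008f0f0f0f0f0f0f0f0f006f0f0f0f0f0f0f0f00403f0f0f0f0f0f0f0f0f0f0f0f0f0f0f0f0,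 0xe0f0f0f0f0dbd6f0f0c8c5c3c2f0f0f0f0f0f0f0f0f0f0f0f0f09f9d9cf09a99f098f0f0f0f0f0f0f0f0f0f0f0f08b8af089f0f088f0f0f08584f083f0f082f0f0f0f07775726e62f0f0f0f05d58f0f0f0f0f0f0f0f0f0f04df0f0f0f04cf0f0f0f047f0f0f0f0f0f0f0f0f0f0f046f0f0f045f0f044f043f0f0f0f0f0f0f0f0f0f03e3b3938f0f034312f2ef0f0f0f0f0f0f0f0f0f0f0f0211f1ef01c1bf01af0f0f0f0f0f0f0f0f0f0f0f0f0f0f0f0f0f0f0f0f0f0f0f0f0f0f0f0f0f0f0f0f0f00c0bf00af0f009f0f0f0f0f0f0f0f0f0f0f0f0f006f0f0f0f005f0f0f0f000f0f0f0f0f0f0f0f0f0f0f0f0f0f0f0, 0xf0e0f0f0f0dcd7f0f0c9c6c4f0c2f0f0f0f0f0f0f0f0f0f0f0f0a09ef09c9bf099f098f0f0f0f0f0f0f0f0f0f0f08cf08af089f0f088f0f086f084f083f0f082f0f078f076736ff062f0f0f05e59f0f0f0f0f0f0f0f0f0f0f04df0f0f0f04cf0f0f048f0f0f0f0f0f0f0f0f0f0f0f046f0f0f045f0f044f042f0f0f0f0f0f0f0f0f03f3c3af038f0353230f02ef0f0f0f0f0f0f0f0f0f0f02220f01e1df01bf01af0f0f0f0f0f0f0f0f0f0f0f0f0f0f0f0f0f0f0f0f0f0f0f0f0f0f0f0f0f0f0f0f00df00bf00af0f009f0f0f0f0f0f0f0f0f0f0f0f0f006f0f0f0f005f0f0f001f0f0f0f0f0f0f0f0f0f0f0f0f0f0f0,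 0xf0f0e0f0f0ddd8f0f0cac7f0c4c3f0f0f0f0f0f0f0f0f0f0f0f0a1f09e9df09b9af0f098f0f0f0f0f0f0f0f0f0f0f08c8bf0f089f0f088f0f08685f0f083f0f082f07a79f07470f0f062f0f05f5af0f0f0f0f0f0f0f0f0f0f0f04df0f0f0f04cf0f049f0f0f0f0f0f0f0f0f0f0f0f0f046f0f0f045f0f0f0f04342f0f0f0f0f0f0f0403df03a39f03633f0302ff0f0f0f0f0f0f0f0f0f0f023f0201ff01d1cf0f01af0f0f0f0f0f0f0f0f0f0f0f0f0f0f0f0f0f0f0f0f0f0f0f0f0f0f0f0f0f0f0f0f00d0cf0f00af0f009f0f0f0f0f0f0f0f0f0f0f0f0f006f0f0f0f005f0f002f0f0f0f0f0f0f0f0f0f0f0f0f0f0f0, 0xf0f0f0e0f0ded9f0f0cbf0c7c6c5f0f0f0f0f0f0f0f0f0f0f0f0f0a1a09ff0f0f09b9a99f0f0f0f0f0f0f0f0f0f0f0f0f08c8b8af0f0f088f0f0f0868584f0f0f0827d7c7bf071f0f0f062f0605bf0f0f0f0f0f0f0f0f0f0f0f0f04df0f0f0f04cf04af0f0f0f0f0f0f0f0f0f0f0f0f0f046f0f0f0f0f0f0f0f0f0444342f0f0f0f041f03d3c3bf037f0333231f0f0f0f0f0f0f0f0f0f0f0f0232221f0f0f01d1c1bf0f0f0f0f0f0f0f0f0f0f0f0f0f0f0f0f0f0f0f0f0f0f0f0f0f0f0f0f0f0f0f0f0f0f00d0c0bf0f0f009f0f0f0f0f0f0f0f0f0f0f0f0f006f0f0f0f005f003f0f0f0f0f0f0f0f0f0f0f0f0f0f0f0,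 0xf0f0f0f0e0dfdaf0f0f0cbcac9c8f0f0f0f0f0f0f0f0f0f0f0f0f0f0f0f0a1a09f9e9d9cf0f0f0f0f0f0f0f0f0f0f0f0f0f0f0f08c8b8a89f0f0f0f0f0f08685848381807f7ef0f0f0f0f062615cf0f0f0f0f0f0f0f0f0f0f0f0f0f04df0f0f0f04c4bf0f0f0f0f0f0f0f0f0f0f0f0f0f0f0f0f0f0f0f0f0f0f0f0f0f0f045444342f041403f3ef0f037363534f0f0f0f0f0f0f0f0f0f0f0f0f0f0f0232221201f1ef0f0f0f0f0f0f0f0f0f0f0f0f0f0f0f0f0f0f0f0f0f0f0f0f0f0f0f0f0f0f0f0f0f0f0f0f0f00d0c0b0af0f0f0f0f0f0f0f0f0f0f0f0f0f006f0f0f0f00504f0f0f0f0f0f0f0f0f0f0f0f0f0f0f0, 0xe1f0f0f0f0f0f0dbd6d2cfcdccf0f0f0f0f0f0f0f0f0f0f0f0f0f0f0f0f0f0f0f0f0f0f09f9d9cf09a99f098f0f09695f094f0f093f0f0f09190f08ff0f08ef0f0f08df0f0f0f0f07775726e6963f0f0f0f0f0f0f0f0f0f0f0f0f0f0f0f0f0f0f0f0f04df0f0f0f0f04cf0f0f0f04bf0f0f04af0f049f048f0f0f0f0f0f0f0f0f0f0f0f0f0f0f0f0f0f0f0f0f0423e3b3938f034312f2ef02b2928f02625f024f0f0f0f0f0f0f0f0f0f0f0f0f0f0f0f0f0f0f0f0f0f0f0f0f0f0f0f0f0f0f0f0f0f0f0f0f0f0f0f0f0f0f0f00c0bf00af0f009f0f0f008f0f0f0f007f0f0f0f0f000f0f0f0f0f0f0f0f0f0f0f0f0f0f0,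 0xf0e1f0f0f0f0f0dcd7d3d0cef0ccf0f0f0f0f0f0f0f0f0f0f0f0f0f0f0f0f0f0f0f0f0f0a09ef09c9bf099f098f097f095f094f0f093f0f092f090f08ff0f08ef0f0f08df0f0f078f076736f6a64f0f0f0f0f0f0f0f0f0f0f0f0f0f0f0f0f0f0f0f0f0f04df0f0f0f0f04cf0f0f0f04bf0f0f04af0f049f047f0f0f0f0f0f0f0f0f0f0f0f0f0f0f0f0f0f0f0f0433f3c3af038353230f02e2c2af02827f025f024f0f0f0f0f0f0f0f0f0f0f0f0f0f0f0f0f0f0f0f0f0f0f0f0f0f0f0f0f0f0f0f0f0f0f0f0f0f0f0f0f0f0f00df00bf00af0f009f0f0f008f0f0f0f007f0f0f0f001f0f0f0f0f0f0f0f0f0f0f0f0f0f0, 0xf0f0e1f0f0f0f0ddd8d4d1f0cecdf0f0f0f0f0f0f0f0f0f0f0f0f0f0f0f0f0f0f0f0f0f0a1f09e9df09b9af0f098f09796f0f094f0f093f0f09291f0f08ff0f08ef0f0f08df0f07a79f074706b65f0f0f0f0f0f0f0f0f0f0f0f0f0f0f0f0f0f0f0f0f0f0f04df0f0f0f0f04cf0f0f0f04bf0f0f04af0f0f0f04847f0f0f0f0f0f0f0f0f0f0f0f0f0f0f0f0f0f044403df03a393633f0302f2df02a29f02726f0f024f0f0f0f0f0f0f0f0f0f0f0f0f0f0f0f0f0f0f0f0f0f0f0f0f0f0f0f0f0f0f0f0f0f0f0f0f0f0f0f0f0f0f00d0cf0f00af0f009f0f0f008f0f0f0f007f0f0f002f0f0f0f0f0f0f0f0f0f0f0f0f0f0,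 0xf0f0f0e1f0f0f0ded9d5f0d1d0cff0f0f0f0f0f0f0f0f0f0f0f0f0f0f0f0f0f0f0f0f0f0f0a1a09ff0f0f09b9a99f0f0f0979695f0f0f093f0f0f0929190f0f0f08ef0f0f08df07d7c7bf0716c66f0f0f0f0f0f0f0f0f0f0f0f0f0f0f0f0f0f0f0f0f0f0f0f04df0f0f0f0f04cf0f0f0f04bf0f0f0f0f0f0f0f0f0494847f0f0f0f0f0f0f0f0f0f0f0f0f0f0f04541f03d3c3b37f0333231f02d2c2bf0f0f0272625f0f0f0f0f0f0f0f0f0f0f0f0f0f0f0f0f0f0f0f0f0f0f0f0f0f0f0f0f0f0f0f0f0f0f0f0f0f0f0f0f0f0f0f0f00d0c0bf0f0f009f0f0f008f0f0f0f007f0f003f0f0f0f0f0f0f0f0f0f0f0f0f0f0, 0xf0f0f0f0e1f0f0dfdaf0d5d4d3d2f0f0f0f0f0f0f0f0f0f0f0f0f0f0f0f0f0f0f0f0f0f0f0f0f0f0a1a09f9e9d9cf0f0f0f0f0f097969594f0f0f0f0f0f09291908ff0f0f0f08d81807f7ef06d67f0f0f0f0f0f0f0f0f0f0f0f0f0f0f0f0f0f0f0f0f0f0f0f0f04df0f0f0f0f04cf0f0f0f0f0f0f0f0f0f0f0f0f0f0f0f04a494847f0f0f0f0f0f0f0f0f0f0f046f041403f3ef037363534f0f0f0f02d2c2b2a2928f0f0f0f0f0f0f0f0f0f0f0f0f0f0f0f0f0f0f0f0f0f0f0f0f0f0f0f0f0f0f0f0f0f0f0f0f0f0f0f0f0f0f0f0f0f0f0f00d0c0b0af0f0f0f008f0f0f0f007f004f0f0f0f0f0f0f0f0f0f0f0f0f0f0,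 0xf0f0f0f0f0e1f0e0f0dad9d8d7d6f0f0f0f0f0f0f0f0f0f0f0f0f0f0f0f0f0f0f0f0f0f0f0f0f0f0f0f0f0f0f0f0a1a09f9e9d9c9b9a9998f0f0f0f0f0f0f0f0f0f09291908f8e8685848382f068f0f0f0f0f0f0f0f0f0f0f0f0f0f0f0f0f0f0f0f0f0f0f0f0f0f04df0f0f0f0f0f0f0f0f0f0f0f0f0f0f0f0f0f0f0f0f0f0f0f0f04b4a494847f0f0f0f0f0f0f04645444342f0f0f0f0f037363534333231302f2ef0f0f0f0f0f0f0f0f0f0f0f0f0f0f0f0f0f0f0f0f0f0f0f0f0f0f0f0f0f0f0f0f0f0f0f0f0f0f0f0f0f0f0f0f0f0f0f0f0f0f0f00d0c0b0a09f0f0f0f0f00705f0f0f0f0f0f0f0f0f0f0f0f0f0f0, 0xf0f0f0f0f0f0e1f0e0dfdedddcdbf0f0f0f0f0f0f0f0f0f0f0f0f0f0f0f0f0f0f0f0f0f0f0f0f0f0f0f0f0f0f0f0f0f0f0f0f0f0f0f0f0f0a1a09f9e9d9c9b9a999897969594938c8b8a898887f0f0f0f0f0f0f0f0f0f0f0f0f0f0f0f0f0f0f0f0f0f0f0f0f0f0f0f0f0f0f0f0f0f0f0f0f0f0f0f0f0f0f0f0f0f0f0f0f0f0f0f0f0f0f0f0f0f04c4b4a494847f0f0f0f0f0f0464544434241403f3e3d3c3b3a3938f0f0f0f0f0f0f0f0f0f0f0f0f0f0f0f0f0f0f0f0f0f0f0f0f0f0f0f0f0f0f0f0f0f0f0f0f0f0f0f0f0f0f0f0f0f0f0f0f0f0f0f0f0f0f0f0f00d0c0b0a090806f0f0f0f0f0f0f0f0f0f0f0f0f0f0,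 0xe3e2f0f0f0f0f0f0f0f0f0f0f0f0ccc2bcb9b8f0f0b2afaef0f0abaaf0f0a9f0f0f0f0f0a6a5f0f0a4f0f0f0f0f0a3f0f0f0f0f0f0f0f0f0a2f0f0f0f0f0f0f0f0f0f0f0f0f0f0f0f0f0f0f0f0f0f076757372f06f6ef0f06a69f0f0f06463f0f0f0f05e5df0f0f0f05958f0f0f05554f0f05251f0504ff0f0f0f0f0f0f0f0f0f0f0f0f0f0f0f0f0f0f0f0f0f0f0f0f0f0f0f0f0f0f0f0f0f0f0f0f0f0f0f0f0f0f0382e282524f0f01e1b1af0f01716f0f015f0f0f0f0f01211f0f010f0f0f0f0f00ff0f0f0f0f0f0f0f0f00ef0f0f0f0f0f0f0f0f0f0f0f0f0f0f0f0f0f0f0f0f00100f0f0f0f0f0f0f0f0f0f0f0f0, 0xe4f0e2f0f0f0f0f0f0f0f0f0f0f0cdc3bdbaf0b8f0b3b0f0aef0acf0aaf0f0a9f0f0f0f0a7f0a5f0f0a4f0f0f0f0f0a3f0f0f0f0f0f0f0f0f0a2f0f0f0f0f0f0f0f0f0f0f0f0f0f0f0f0f0f0f0f079f07774f07270f06ef06bf069f0f065f063f0f0f05ff05df0f0f05af058f0f056f054f053f051f0f050f04ef0f0f0f0f0f0f0f0f0f0f0f0f0f0f0f0f0f0f0f0f0f0f0f0f0f0f0f0f0f0f0f0f0f0f0f0f0f0f0f0392f2926f024f01f1cf01af018f016f0f015f0f0f0f013f011f0f010f0f0f0f0f00ff0f0f0f0f0f0f0f0f00ef0f0f0f0f0f0f0f0f0f0f0f0f0f0f0f0f0f0f0f002f000f0f0f0f0f0f0f0f0f0f0f0],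
  [0xf0e4e3f0f0f0f0f0f0f0f0f0f0f0cec4bebbf0f0b8b4b1f0f0aeadf0f0aaf0f0a9f0f0f0a8f0f0a5f0f0a4f0f0f0f0f0a3f0f0f0f0f0f0f0f0f0a2f0f0f0f0f0f0f0f0f0f0f0f0f0f0f0f0f0f0f07a78f0f07473f0706ff0f06b6af0f0f06564f0f0f0f05f5ef0f0f0f05a59f0f0f05655f0f05352f0f0f04ff04ef0f0f0f0f0f0f0f0f0f0f0f0f0f0f0f0f0f0f0f0f0f0f0f0f0f0f0f0f0f0f0f0f0f0f0f0f0f0f03a302a27f0f024201df0f01a19f0f016f0f015f0f0f014f0f011f0f010f0f0f0f0f00ff0f0f0f0f0f0f0f0f00ef0f0f0f0f0f0f0f0f0f0f0f0f0f0f0f0f0f0f0f00201f0f0f0f0f0f0f0f0f0f0f0, 0xe5f0f0e2f0f0f0f0f0f0f0f0f0f0cfc5bff0bab9f0b5f0b0aff0f0acabf0f0f0f0a9f0f0f0a7a6f0f0f0f0a4f0f0f0f0f0a3f0f0f0f0f0f0f0f0f0a2f0f0f0f0f0f0f0f0f0f0f0f0f0f0f0f0f0f07c7bf0f0777571f0f06e6cf0f069f066f0f063f0f060f0f05df0f05bf0f058f057f0f054f0f0f053f052f0f0f04f4ef0f0f0f0f0f0f0f0f0f0f0f0f0f0f0f0f0f0f0f0f0f0f0f0f0f0f0f0f0f0f0f0f0f0f0f0f03b312bf02625f021f01c1bf0f01817f0f0f0f015f0f0f01312f0f0f0f010f0f0f0f0f00ff0f0f0f0f0f0f0f0f00ef0f0f0f0f0f0f0f0f0f0f0f0f0f0f0f0f0f003f0f000f0f0f0f0f0f0f0f0f0f0,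 0xf0e5f0e3f0f0f0f0f0f0f0f0f0f0d0c6c0f0bbf0b9b6f0b1f0aff0adf0abf0f0f0f0a9f0f0a8f0a6f0f0f0f0a4f0f0f0f0f0a3f0f0f0f0f0f0f0f0f0a2f0f0f0f0f0f0f0f0f0f0f0f0f0f0f0f0f07df07b78f076f071f06ff06cf06af0f066f064f0f0f060f05ef0f0f05bf059f0f057f055f0f0f0f053f051f0f050f04ef0f0f0f0f0f0f0f0f0f0f0f0f0f0f0f0f0f0f0f0f0f0f0f0f0f0f0f0f0f0f0f0f0f0f0f03c322cf027f02522f01df01bf019f017f0f0f0f015f0f014f012f0f0f0f010f0f0f0f0f00ff0f0f0f0f0f0f0f0f00ef0f0f0f0f0f0f0f0f0f0f0f0f0f0f0f0f0f003f001f0f0f0f0f0f0f0f0f0f0, 0xf0f0e5e4f0f0f0f0f0f0f0f0f0f0d1c7c1f0f0bbbab7f0f0b1b0f0f0adacf0f0f0f0f0a9f0f0a8a7f0f0f0f0f0a4f0f0f0f0f0a3f0f0f0f0f0f0f0f0f0a2f0f0f0f0f0f0f0f0f0f0f0f0f0f0f0f0f07d7c7a79f0f0f07170f0f06c6bf0f0f06665f0f0f0f0605ff0f0f0f05b5af0f0f05756f0f0f0f0f0f0f05251f0504ff0f0f0f0f0f0f0f0f0f0f0f0f0f0f0f0f0f0f0f0f0f0f0f0f0f0f0f0f0f0f0f0f0f0f0f03d332df0f0272623f0f01d1cf0f01918f0f0f0f0f015f0f01413f0f0f0f0f010f0f0f0f0f00ff0f0f0f0f0f0f0f0f00ef0f0f0f0f0f0f0f0f0f0f0f0f0f0f0f0f0f00302f0f0f0f0f0f0f0f0f0f0,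 0xe6f0f0f0e2f0f0f0f0f0f0f0f0f0d2c8f0bfbdbcf0f0b5b3b2f0f0f0f0f0acabf0aaf0f0f0f0f0f0a7a6f0a5f0f0f0f0f0f0f0f0a3f0f0f0f0f0f0f0f0f0a2f0f0f0f0f0f0f0f0f0f0f0f0f0f0f0807ff07ef0f0f07775726df0f0f06967f0f0f063f061f0f0f05df05cf0f0f058f0f0f0f057f0f056f055f0f0f0f0f0f0514f4ef0f0f0f0f0f0f0f0f0f0f0f0f0f0f0f0f0f0f0f0f0f0f0f0f0f0f0f0f0f0f0f0f03e34f02b2928f0f0211f1ef0f0f0f0f01817f016f0f0f0f0f0f01312f011f0f0f0f0f0f0f0f00ff0f0f0f0f0f0f0f0f00ef0f0f0f0f0f0f0f0f0f0f0f0f0f0f004f0f0f000f0f0f0f0f0f0f0f0f0, 0xf0e6f0f0e3f0f0f0f0f0f0f0f0f0d3c9f0c0bef0bcf0b6b4f0b2f0f0f0f0adf0abf0aaf0f0f0f0f0a8f0a6f0a5f0f0f0f0f0f0f0f0a3f0f0f0f0f0f0f0f0f0a2f0f0f0f0f0f0f0f0f0f0f0f0f0f081f07ff07ef078f07673f06df0f06af067f0f064f0f061f0f05ef0f05cf0f059f0f0f0f0f057f0f056f054f0f0f0f0f05250f04ef0f0f0f0f0f0f0f0f0f0f0f0f0f0f0f0f0f0f0f0f0f0f0f0f0f0f0f0f0f0f0f03f35f02c2af028f02220f01ef0f0f0f019f017f016f0f0f0f0f014f012f011f0f0f0f0f0f0f0f00ff0f0f0f0f0f0f0f0f00ef0f0f0f0f0f0f0f0f0f0f0f0f0f0f004f0f001f0f0f0f0f0f0f0f0f0,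 0xf0f0e6f0e4f0f0f0f0f0f0f0f0f0d4caf0c1f0bebdf0b7f0b4b3f0f0f0f0f0adacf0f0aaf0f0f0f0f0a8a7f0f0a5f0f0f0f0f0f0f0f0a3f0f0f0f0f0f0f0f0f0a2f0f0f0f0f0f0f0f0f0f0f0f0f0f08180f0f07e7a79f074f0f06df06bf0f067f065f0f0f061f05ff0f0f05cf05af0f0f0f0f0f057f0f0f0f05554f0f0f053f0504ff0f0f0f0f0f0f0f0f0f0f0f0f0f0f0f0f0f0f0f0f0f0f0f0f0f0f0f0f0f0f0f04036f02df02a29f023f0201ff0f0f0f0f01918f0f016f0f0f0f0f01413f0f011f0f0f0f0f0f0f0f00ff0f0f0f0f0f0f0f0f00ef0f0f0f0f0f0f0f0f0f0f0f0f0f0f004f002f0f0f0f0f0f0f0f0f0, 0xf0f0f0e6e5f0f0f0f0f0f0f0f0f0d5cbf0f0c1c0bff0f0b7b6b5f0f0f0f0f0f0f0adacabf0f0f0f0f0f0f0a8a7a6f0f0f0f0f0f0f0f0f0a3f0f0f0f0f0f0f0f0f0a2f0f0f0f0f0f0f0f0f0f0f0f0f0f0f081807f7d7c7bf0f0f0f06d6cf0f0f06766f0f0f0f06160f0f0f0f05c5bf0f0f0f0f0f0f0f0f0f0f0f0f0565554f0535251f0f0f0f0f0f0f0f0f0f0f0f0f0f0f0f0f0f0f0f0f0f0f0f0f0f0f0f0f0f0f0f04137f0f02d2c2bf0f0232221f0f0f0f0f0f0f0191817f0f0f0f0f0f0f0141312f0f0f0f0f0f0f0f0f00ff0f0f0f0f0f0f0f0f00ef0f0f0f0f0f0f0f0f0f0f0f0f0f0f00403f0f0f0f0f0f0f0f0f0,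 0xe7f0f0f0f0e2f0f0f0f0f0f0f0f0d6f0c8c5c3c2f0f0f0f0f0f0b5b3b2f0b0aff0aef0f0f0f0f0f0f0f0f0f0f0f0a7a6f0a5f0f0a4f0f0f0f0f0f0f0f0f0f0f0f0f0a2f0f0f0f0f0f0f0f0f0f0f08584f083f0f082f0f0f0f07775726e68f0f0f0f06362f0f0f0f05df0f0f0f0f05cf0f0f05bf0f05af059f0f0f0f0f0f0f0f0f0f054514f4ef0f0f0f0f0f0f0f0f0f0f0f0f0f0f0f0f0f0f0f0f0f0f0f0f0f0f0f042f034312f2ef0f0f0f0f0f0211f1ef01c1bf01af0f0f0f0f0f0f0f0f0f0f0f01312f011f0f010f0f0f0f0f0f0f0f0f0f0f0f0f00ef0f0f0f0f0f0f0f0f0f0f005f0f0f0f000f0f0f0f0f0f0f0f0, 0xf0e7f0f0f0e3f0f0f0f0f0f0f0f0d7f0c9c6c4f0c2f0f0f0f0f0b6b4f0b2b1f0aff0aef0f0f0f0f0f0f0f0f0f0f0a8f0a6f0a5f0f0a4f0f0f0f0f0f0f0f0f0f0f0f0f0a2f0f0f0f0f0f0f0f0f0f086f084f083f0f082f0f078f076736ff068f0f0f064f062f0f0f05ef0f0f0f0f0f05cf0f0f05bf0f05af058f0f0f0f0f0f0f0f0f0555250f04ef0f0f0f0f0f0f0f0f0f0f0f0f0f0f0f0f0f0f0f0f0f0f0f0f0f0f043f0353230f02ef0f0f0f0f02220f01e1df01bf01af0f0f0f0f0f0f0f0f0f0f014f012f011f0f010f0f0f0f0f0f0f0f0f0f0f0f0f00ef0f0f0f0f0f0f0f0f0f0f005f0f0f001f0f0f0f0f0f0f0f0,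 0xf0f0e7f0f0e4f0f0f0f0f0f0f0f0d8f0cac7f0c4c3f0f0f0f0f0b7f0b4b3f0b1b0f0f0aef0f0f0f0f0f0f0f0f0f0f0a8a7f0f0a5f0f0a4f0f0f0f0f0f0f0f0f0f0f0f0f0a2f0f0f0f0f0f0f0f0f0f08685f0f083f0f082f07a79f07470f0f068f0f065f0f062f0f05ff0f0f0f0f0f0f05cf0f0f05bf0f0f0f05958f0f0f0f0f0f0f05653f0504ff0f0f0f0f0f0f0f0f0f0f0f0f0f0f0f0f0f0f0f0f0f0f0f0f0f0f044f03633f0302ff0f0f0f0f023f0201ff01d1cf0f01af0f0f0f0f0f0f0f0f0f0f01413f0f011f0f010f0f0f0f0f0f0f0f0f0f0f0f0f00ef0f0f0f0f0f0f0f0f0f0f005f0f002f0f0f0f0f0f0f0f0, 0xf0f0f0e7f0e5f0f0f0f0f0f0f0f0d9f0cbf0c7c6c5f0f0f0f0f0f0b7b6b5f0f0f0b1b0aff0f0f0f0f0f0f0f0f0f0f0f0f0a8a7a6f0f0f0a4f0f0f0f0f0f0f0f0f0f0f0f0f0a2f0f0f0f0f0f0f0f0f0f0f0868584f0f0f0827d7c7bf071f0f0f068f066f0f0f062f060f0f0f0f0f0f0f0f05cf0f0f0f0f0f0f0f0f05a5958f0f0f0f057f0535251f0f0f0f0f0f0f0f0f0f0f0f0f0f0f0f0f0f0f0f0f0f0f0f0f0f0f045f037f0333231f0f0f0f0f0f0232221f0f0f01d1c1bf0f0f0f0f0f0f0f0f0f0f0f0f0141312f0f0f010f0f0f0f0f0f0f0f0f0f0f0f0f00ef0f0f0f0f0f0f0f0f0f0f005f003f0f0f0f0f0f0f0f0,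 0xf0f0f0f0e7e6f0f0f0f0f0f0f0f0daf0f0cbcac9c8f0f0f0f0f0f0f0f0f0b7b6b5b4b3b2f0f0f0f0f0f0f0f0f0f0f0f0f0f0f0f0a8a7a6a5f0f0f0f0f0f0f0f0f0f0f0f0f0f0a2f0f0f0f0f0f0f0f0f0f0f0f0f08685848381807f7ef0f0f0f0f06867f0f0f0f06261f0f0f0f0f0f0f0f0f0f0f0f0f0f0f0f0f0f0f0f0f05b5a5958f057565554f0f0f0f0f0f0f0f0f0f0f0f0f0f0f0f0f0f0f0f0f0f0f0f0f0f0f046f0f037363534f0f0f0f0f0f0f0f0f0232221201f1ef0f0f0f0f0f0f0f0f0f0f0f0f0f0f0f014131211f0f0f0f0f0f0f0f0f0f0f0f0f0f00ef0f0f0f0f0f0f0f0f0f0f00504f0f0f0f0f0f0f0f0, 0xe8f0f0f0f0f0e2f0f0f0f0f0f0f0dbf0f0f0f0f0f0c8c5c3c2f0bfbdbcf0bab9f0b8f0f0f0f0f0f0f0f0f0f0f0f0f0f0f0f0f0f0f0f0f0f0a7a6f0a5f0f0a4f0f0f0a3f0f0f0f0f0f0f0f0f0f0f08b8af089f0f088f0f0f087f0f0f0f0f07775726e69f0f0f0f0f0f062f0f0f0f061f0f0f060f0f05ff05ef0f0f0f0f0f0f0f0f0f0f0f0f0f0f05854514f4ef0f0f0f0f0f0f0f0f0f0f0f0f0f0f0f0f0f0f0f0f0f0f0423e3b3938f0f0f0f0f0f0f0f0f0f0f0f0f0f0f0f0211f1ef01c1bf01af0f01817f016f0f015f0f0f0f0f0f0f0f0f0f0f0f0f0f0f0f0f0f00ef0f0f0f0f0f006f0f0f0f0f000f0f0f0f0f0f0f0,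 0xf0e8f0f0f0f0e3f0f0f0f0f0f0f0dcf0f0f0f0f0f0c9c6c4f0c2c0bef0bcbbf0b9f0b8f0f0f0f0f0f0f0f0f0f0f0f0f0f0f0f0f0f0f0f0f0a8f0a6f0a5f0f0a4f0f0f0a3f0f0f0f0f0f0f0f0f0f08cf08af089f0f088f0f0f087f0f0f078f076736f6af0f0f0f0f0f0f062f0f0f0f061f0f0f060f0f05ff05df0f0f0f0f0f0f0f0f0f0f0f0f0f059555250f04ef0f0f0f0f0f0f0f0f0f0f0f0f0f0f0f0f0f0f0f0f0f0433f3c3af038f0f0f0f0f0f0f0f0f0f0f0f0f0f0f02220f01e1df01bf01af019f017f016f0f015f0f0f0f0f0f0f0f0f0f0f0f0f0f0f0f0f0f00ef0f0f0f0f0f006f0f0f0f001f0f0f0f0f0f0f0, 0xf0f0e8f0f0f0e4f0f0f0f0f0f0f0ddf0f0f0f0f0f0cac7f0c4c3c1f0bebdf0bbbaf0f0b8f0f0f0f0f0f0f0f0f0f0f0f0f0f0f0f0f0f0f0f0f0a8a7f0f0a5f0f0a4f0f0f0a3f0f0f0f0f0f0f0f0f0f08c8bf0f089f0f088f0f0f087f0f07a79f074706bf0f0f0f0f0f0f0f062f0f0f0f061f0f0f060f0f0f0f05e5df0f0f0f0f0f0f0f0f0f0f0f05a5653f0504ff0f0f0f0f0f0f0f0f0f0f0f0f0f0f0f0f0f0f0f0f0f044403df03a39f0f0f0f0f0f0f0f0f0f0f0f0f0f0f023f0201ff01d1cf0f01af01918f0f016f0f015f0f0f0f0f0f0f0f0f0f0f0f0f0f0f0f0f0f00ef0f0f0f0f0f006f0f0f002f0f0f0f0f0f0f0],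
  [0xf0f0f0e8f0f0e5f0f0f0f0f0f0f0def0f0f0f0f0f0cbf0c7c6c5f0c1c0bff0f0f0bbbab9f0f0f0f0f0f0f0f0f0f0f0f0f0f0f0f0f0f0f0f0f0f0f0a8a7a6f0f0f0a4f0f0f0a3f0f0f0f0f0f0f0f0f0f0f08c8b8af0f0f088f0f0f087f07d7c7bf0716cf0f0f0f0f0f0f0f0f062f0f0f0f061f0f0f0f0f0f0f0f0f05f5e5df0f0f0f0f0f0f0f0f05b57f0535251f0f0f0f0f0f0f0f0f0f0f0f0f0f0f0f0f0f0f0f0f0f04541f03d3c3bf0f0f0f0f0f0f0f0f0f0f0f0f0f0f0f0232221f0f0f01d1c1bf0f0f0191817f0f0f015f0f0f0f0f0f0f0f0f0f0f0f0f0f0f0f0f0f00ef0f0f0f0f0f006f0f003f0f0f0f0f0f0f0, 0xf0f0f0f0e8f0e6f0f0f0f0f0f0f0dff0f0f0f0f0f0f0cbcac9c8f0f0f0f0c1c0bfbebdbcf0f0f0f0f0f0f0f0f0f0f0f0f0f0f0f0f0f0f0f0f0f0f0f0f0f0a8a7a6a5f0f0f0f0a3f0f0f0f0f0f0f0f0f0f0f0f0f08c8b8a89f0f0f0f08781807f7ef06df0f0f0f0f0f0f0f0f0f062f0f0f0f0f0f0f0f0f0f0f0f0f0f0f0f0605f5e5df0f0f0f0f05cf057565554f0f0f0f0f0f0f0f0f0f0f0f0f0f0f0f0f0f0f0f0f0f046f041403f3ef0f0f0f0f0f0f0f0f0f0f0f0f0f0f0f0f0f0f0232221201f1ef0f0f0f0f0f019181716f0f0f0f0f0f0f0f0f0f0f0f0f0f0f0f0f0f0f00ef0f0f0f0f0f006f004f0f0f0f0f0f0f0,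 0xf0f0f0f0f0e8e7f0f0f0f0f0f0f0e0f0f0f0f0f0f0f0f0f0f0f0cbcac9c8c7c6c5c4c3c2f0f0f0f0f0f0f0f0f0f0f0f0f0f0f0f0f0f0f0f0f0f0f0f0f0f0f0f0f0f0a8a7a6a5a4f0f0f0f0f0f0f0f0f0f0f0f0f0f0f0f0f08c8b8a89888685848382f0f0f0f0f0f0f0f0f0f0f0f0f0f0f0f0f0f0f0f0f0f0f0f0f0f0f0f0f0f0f0f061605f5e5df05c5b5a5958f0f0f0f0f0f0f0f0f0f0f0f0f0f0f0f0f0f0f0f0f0f0f04645444342f0f0f0f0f0f0f0f0f0f0f0f0f0f0f0f0f0f0f0f0f0f0f0f0f0232221201f1e1d1c1b1af0f0f0f0f0f0f0f0f0f0f0f0f0f0f0f0f0f0f0f00ef0f0f0f0f0f00605f0f0f0f0f0f0f0, 0xe9f0f0f0f0f0f0e2f0f0f0f0f0f0f0d6d2cfcdccf0f0f0f0f0f0f0f0f0f0f0f0f0f0f0f0b5b3b2f0b0aff0aef0f0acabf0aaf0f0a9f0f0f0f0f0f0f0f0f0f0f0f0f0f0f0f0f0f0a2f0f0f0f0f0f09190f08ff0f08ef0f0f08df0f0f0f0f0f0f0f0f0f0f07775726e6968f0f0f0f067f0f0f066f0f065f064f0f0f0f0f0f0f0f0f0f0f0f0f0f0f0f0f0f0f0f0f05854514f4ef0f0f0f0f0f0f0f0f0f0f0f0f0f0f0f047f0f0f0f0f0f034312f2ef02b2928f02625f024f0f0f0f0f0f0f0f0f0f0f0f0f0f0f0f0f0f0f0f0f0f01312f011f0f010f0f0f00ff0f0f0f0f0f0f0f0f0f0f007f0f0f0f0f0f000f0f0f0f0f0f0,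 0xf0e9f0f0f0f0f0e3f0f0f0f0f0f0f0d7d3d0cef0ccf0f0f0f0f0f0f0f0f0f0f0f0f0f0f0b6b4f0b2b1f0aff0aef0adf0abf0aaf0f0a9f0f0f0f0f0f0f0f0f0f0f0f0f0f0f0f0f0f0a2f0f0f0f0f092f090f08ff0f08ef0f0f08df0f0f0f0f0f0f0f0f078f076736f6af068f0f0f0f067f0f0f066f0f065f063f0f0f0f0f0f0f0f0f0f0f0f0f0f0f0f0f0f0f0f059555250f04ef0f0f0f0f0f0f0f0f0f0f0f0f0f0f048f0f0f0f0f0f0353230f02e2c2af02827f025f024f0f0f0f0f0f0f0f0f0f0f0f0f0f0f0f0f0f0f0f0f014f012f011f0f010f0f0f00ff0f0f0f0f0f0f0f0f0f0f007f0f0f0f0f001f0f0f0f0f0f0, 0xf0f0e9f0f0f0f0e4f0f0f0f0f0f0f0d8d4d1f0cecdf0f0f0f0f0f0f0f0f0f0f0f0f0f0f0b7f0b4b3f0b1b0f0f0aef0adacf0f0aaf0f0a9f0f0f0f0f0f0f0f0f0f0f0f0f0f0f0f0f0f0a2f0f0f0f0f09291f0f08ff0f08ef0f0f08df0f0f0f0f0f0f0f07a79f074706bf0f068f0f0f0f067f0f0f066f0f0f0f06463f0f0f0f0f0f0f0f0f0f0f0f0f0f0f0f0f0f05a5653f0504ff0f0f0f0f0f0f0f0f0f0f0f0f0f0f049f0f0f0f0f0f03633f0302f2df02a29f02726f0f024f0f0f0f0f0f0f0f0f0f0f0f0f0f0f0f0f0f0f0f0f01413f0f011f0f010f0f0f00ff0f0f0f0f0f0f0f0f0f0f007f0f0f0f002f0f0f0f0f0f0,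 0xf0f0f0e9f0f0f0e5f0f0f0f0f0f0f0d9d5f0d1d0cff0f0f0f0f0f0f0f0f0f0f0f0f0f0f0f0b7b6b5f0f0f0b1b0aff0f0f0adacabf0f0f0a9f0f0f0f0f0f0f0f0f0f0f0f0f0f0f0f0f0f0a2f0f0f0f0f0f0929190f0f0f08ef0f0f08df0f0f0f0f0f0f07d7c7bf0716cf0f0f068f0f0f0f067f0f0f0f0f0f0f0f0f0656463f0f0f0f0f0f0f0f0f0f0f0f0f0f0f05b57f0535251f0f0f0f0f0f0f0f0f0f0f0f0f0f0f04af0f0f0f0f0f037f0333231f02d2c2bf0f0f0272625f0f0f0f0f0f0f0f0f0f0f0f0f0f0f0f0f0f0f0f0f0f0f0141312f0f0f010f0f0f00ff0f0f0f0f0f0f0f0f0f0f007f0f0f003f0f0f0f0f0f0, 0xf0f0f0f0e9f0f0e6f0f0f0f0f0f0f0daf0d5d4d3d2f0f0f0f0f0f0f0f0f0f0f0f0f0f0f0f0f0f0f0b7b6b5b4b3b2f0f0f0f0f0f0adacabaaf0f0f0f0f0f0f0f0f0f0f0f0f0f0f0f0f0f0f0a2f0f0f0f0f0f0f0f09291908ff0f0f0f08df0f0f0f0f0f081807f7ef06df0f0f0f068f0f0f0f0f0f0f0f0f0f0f0f0f0f0f0f066656463f0f0f0f0f0f0f0f0f0f0f05cf057565554f0f0f0f0f0f0f0f0f0f0f0f0f0f0f04bf0f0f0f0f0f0f037363534f0f0f0f02d2c2b2a2928f0f0f0f0f0f0f0f0f0f0f0f0f0f0f0f0f0f0f0f0f0f0f0f0f0f014131211f0f0f0f00ff0f0f0f0f0f0f0f0f0f0f007f0f004f0f0f0f0f0f0,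 0xf0f0f0f0f0e9f0e7f0f0f0f0f0f0f0f0dad9d8d7d6f0f0f0f0f0f0f0f0f0f0f0f0f0f0f0f0f0f0f0f0f0f0f0f0f0b7b6b5b4b3b2b1b0afaef0f0f0f0f0f0f0f0f0f0f0f0f0f0f0f0f0f0f0f0a2f0f0f0f0f0f0f0f0f0f0f09291908f8ef0f0f0f0f0f08685848382f0f0f0f0f0f0f0f0f0f0f0f0f0f0f0f0f0f0f0f0f0f0f0f0f0f06766656463f0f0f0f0f0f0f05c5b5a5958f0f0f0f0f0f0f0f0f0f0f0f0f0f0f04cf0f0f0f0f0f0f0f0f0f0f037363534333231302f2ef0f0f0f0f0f0f0f0f0f0f0f0f0f0f0f0f0f0f0f0f0f0f0f0f0f0f0f0f0f01413121110f0f0f0f0f0f0f0f0f0f0f0f007f005f0f0f0f0f0f0, 0xeaf0f0f0f0f0f0f0e2f0f0f0f0f0f0dbf0f0f0f0f0d2cfcdccf0f0f0f0f0f0f0f0f0f0f0bfbdbcf0bab9f0b8f0f0f0f0f0f0f0f0f0f0f0f0acabf0aaf0f0a9f0f0f0f0f0f0f0f0a3f0f0f0f0f0f09695f094f0f093f0f0f0f0f0f0f0f08df0f0f0f0f087f0f0f0f0f0f07775726e6df0f0f06cf0f06bf06af0f0f0f0f0f0f0f0f0f0f0f0f0f0f063f0f0f0f0f05df0f0f0f0f054514f4ef0f0f0f0f0f0f0f0f0f0f0f047f0f0f0f0f03e3b3938f0f0f0f0f0f0f0f0f0f0f02b2928f02625f024f0f0f0f0f0f0f0f0f0f0f0f01817f016f0f015f0f0f0f0f0f0f0f00ff0f0f0f0f0f008f0f0f0f0f0f0f000f0f0f0f0f0,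 0xf0eaf0f0f0f0f0f0e3f0f0f0f0f0f0dcf0f0f0f0f0d3d0cef0ccf0f0f0f0f0f0f0f0f0f0c0bef0bcbbf0b9f0b8f0f0f0f0f0f0f0f0f0f0f0adf0abf0aaf0f0a9f0f0f0f0f0f0f0f0a3f0f0f0f0f097f095f094f0f093f0f0f0f0f0f0f0f08df0f0f0f0f087f0f0f0f078f076736ff06df0f0f06cf0f06bf069f0f0f0f0f0f0f0f0f0f0f0f0f0f064f0f0f0f0f05ef0f0f0f0f0555250f04ef0f0f0f0f0f0f0f0f0f0f048f0f0f0f0f03f3c3af038f0f0f0f0f0f0f0f0f0f02c2af02827f025f024f0f0f0f0f0f0f0f0f0f0f019f017f016f0f015f0f0f0f0f0f0f0f00ff0f0f0f0f0f008f0f0f0f0f0f001f0f0f0f0f0, 0xf0f0eaf0f0f0f0f0e4f0f0f0f0f0f0ddf0f0f0f0f0d4d1f0cecdf0f0f0f0f0f0f0f0f0f0c1f0bebdf0bbbaf0f0b8f0f0f0f0f0f0f0f0f0f0f0adacf0f0aaf0f0a9f0f0f0f0f0f0f0f0a3f0f0f0f0f09796f0f094f0f093f0f0f0f0f0f0f0f08df0f0f0f0f087f0f0f07a79f07470f0f06df0f0f06cf0f0f0f06a69f0f0f0f0f0f0f0f0f0f0f0f065f0f0f0f0f05ff0f0f0f0f05653f0504ff0f0f0f0f0f0f0f0f0f0f049f0f0f0f0f0403df03a39f0f0f0f0f0f0f0f0f0f02df02a29f02726f0f024f0f0f0f0f0f0f0f0f0f0f01918f0f016f0f015f0f0f0f0f0f0f0f00ff0f0f0f0f0f008f0f0f0f0f002f0f0f0f0f0,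 0xf0f0f0eaf0f0f0f0e5f0f0f0f0f0f0def0f0f0f0f0d5f0d1d0cff0f0f0f0f0f0f0f0f0f0f0c1c0bff0f0f0bbbab9f0f0f0f0f0f0f0f0f0f0f0f0f0adacabf0f0f0a9f0f0f0f0f0f0f0f0a3f0f0f0f0f0f0979695f0f0f093f0f0f0f0f0f0f0f08df0f0f0f0f087f0f07d7c7bf071f0f0f06df0f0f0f0f0f0f0f0f06b6a69f0f0f0f0f0f0f0f0f066f0f0f0f0f060f0f0f0f0f057f0535251f0f0f0f0f0f0f0f0f0f0f04af0f0f0f0f041f03d3c3bf0f0f0f0f0f0f0f0f0f0f02d2c2bf0f0f0272625f0f0f0f0f0f0f0f0f0f0f0f0f0191817f0f0f015f0f0f0f0f0f0f0f00ff0f0f0f0f0f008f0f0f0f003f0f0f0f0f0, 0xf0f0f0f0eaf0f0f0e6f0f0f0f0f0f0dff0f0f0f0f0f0d5d4d3d2f0f0f0f0f0f0f0f0f0f0f0f0f0f0c1c0bfbebdbcf0f0f0f0f0f0f0f0f0f0f0f0f0f0f0f0adacabaaf0f0f0f0f0f0f0f0f0a3f0f0f0f0f0f0f0f097969594f0f0f0f0f0f0f0f0f08df0f0f0f0f087f081807f7ef0f0f0f0f0f0f0f0f0f0f0f0f0f0f0f0f06c6b6a69f0f0f0f0f067f0f0f0f0f061f0f0f0f0f0f057565554f0f0f0f0f0f0f0f0f0f0f04bf0f0f0f0f0f041403f3ef0f0f0f0f0f0f0f0f0f0f0f0f0f02d2c2b2a2928f0f0f0f0f0f0f0f0f0f0f0f0f0f0f0f019181716f0f0f0f0f0f0f0f0f00ff0f0f0f0f0f008f0f0f004f0f0f0f0f0,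 0xebf0f0f0f0f0f0f0f0e2f0f0f0f0f0f0dbf0f0f0f0d6f0f0f0f0cfcdccf0f0f0f0f0f0f0c5c3c2f0f0f0f0f0f0f0bab9f0b8f0f0f0f0f0f0b0aff0aef0f0f0f0f0f0a9f0f0f0f0a4f0f0f0f0f0f09a99f098f0f0f0f0f0f093f0f0f0f08ef0f0f0f0f088f0f0f0f0f082f0f0f0f0f077757271f0f070f06ff0f0f0f0f0f0f0f0f0f069f0f0f0f0f063f0f0f0f0f05df0f0f0f058f0f0f0f0514f4ef0f0f0f0f0f0f0f0f047f0f0f0f042f0f0f0f03b3938f0f0f0f0f0f0f0312f2ef0f0f0f0f0f0f02625f024f0f0f0f0f0f01c1bf01af0f0f0f0f0f015f0f0f0f010f0f0f0f0f0f009f0f0f0f0f0f0f0f000f0f0f0f0, 0xf0ebf0f0f0f0f0f0f0e3f0f0f0f0f0f0dcf0f0f0f0d7f0f0f0f0d0cef0ccf0f0f0f0f0f0c6c4f0c2f0f0f0f0f0f0bbf0b9f0b8f0f0f0f0f0b1f0aff0aef0f0f0f0f0f0a9f0f0f0f0a4f0f0f0f0f09bf099f098f0f0f0f0f0f093f0f0f0f08ef0f0f0f0f088f0f0f0f0f082f0f0f078f07673f071f0f070f06ef0f0f0f0f0f0f0f0f06af0f0f0f0f064f0f0f0f0f05ef0f0f0f059f0f0f0f05250f04ef0f0f0f0f0f0f0f048f0f0f0f043f0f0f0f03c3af038f0f0f0f0f0f03230f02ef0f0f0f0f0f027f025f024f0f0f0f0f01df01bf01af0f0f0f0f0f015f0f0f0f010f0f0f0f0f0f009f0f0f0f0f0f0f001f0f0f0f0],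
  [0xf0f0ebf0f0f0f0f0f0e4f0f0f0f0f0f0ddf0f0f0f0d8f0f0f0f0d1f0cecdf0f0f0f0f0f0c7f0c4c3f0f0f0f0f0f0f0bbbaf0f0b8f0f0f0f0f0b1b0f0f0aef0f0f0f0f0f0a9f0f0f0f0a4f0f0f0f0f09b9af0f098f0f0f0f0f0f093f0f0f0f08ef0f0f0f0f088f0f0f0f0f082f0f07a79f074f0f071f0f0f0f06f6ef0f0f0f0f0f0f06bf0f0f0f0f065f0f0f0f0f05ff0f0f0f05af0f0f0f053f0504ff0f0f0f0f0f0f0f049f0f0f0f044f0f0f0f03df03a39f0f0f0f0f0f033f0302ff0f0f0f0f0f0f02726f0f024f0f0f0f0f01d1cf0f01af0f0f0f0f0f015f0f0f0f010f0f0f0f0f0f009f0f0f0f0f0f002f0f0f0f0, 0xf0f0f0ebf0f0f0f0f0e5f0f0f0f0f0f0def0f0f0f0d9f0f0f0f0f0d1d0cff0f0f0f0f0f0f0c7c6c5f0f0f0f0f0f0f0f0f0bbbab9f0f0f0f0f0f0f0b1b0aff0f0f0f0f0f0f0a9f0f0f0f0a4f0f0f0f0f0f09b9a99f0f0f0f0f0f0f093f0f0f0f08ef0f0f0f0f088f0f0f0f0f082f07d7c7bf0f0f0f0f0f0f0f0f0f0706f6ef0f0f0f06cf0f0f0f0f066f0f0f0f0f060f0f0f0f05bf0f0f0f0f0535251f0f0f0f0f0f0f0f04af0f0f0f045f0f0f0f0f03d3c3bf0f0f0f0f0f0f0333231f0f0f0f0f0f0f0f0f0272625f0f0f0f0f0f0f01d1c1bf0f0f0f0f0f0f015f0f0f0f010f0f0f0f0f0f009f0f0f0f0f003f0f0f0f0,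 0xecf0f0f0f0f0f0f0f0f0e2f0f0f0f0f0f0dbf0f0f0f0d6f0f0f0d2f0f0f0cdccf0f0f0f0c8f0f0f0c3c2f0f0f0f0bdbcf0f0f0f0b8f0f0f0b3b2f0f0f0f0aef0f0f0aaf0f0f0f0a5f0f0f0f0f0f09d9cf0f0f0f098f0f0f094f0f0f0f08ff0f0f0f0f089f0f0f0f0f083f0f0f0f07ef0f0f0f0777574f073f0f0f0f0f0f06ef0f0f0f069f0f0f0f0f063f0f0f0f0f05df0f0f0f058f0f0f054f0f0f04f4ef0f0f0f0f0f0f047f0f0f0f042f0f0f03ef0f0f03938f0f0f0f034f0f0f02f2ef0f0f0f02928f0f0f0f024f0f0f01f1ef0f0f0f01af0f0f016f0f0f0f011f0f0f0f0f0f00af0f0f0f0f0f0f0f0f000f0f0f0, 0xf0ecf0f0f0f0f0f0f0f0e3f0f0f0f0f0f0dcf0f0f0f0d7f0f0f0d3f0f0f0cef0ccf0f0f0c9f0f0f0c4f0c2f0f0f0bef0bcf0f0f0f0b8f0f0b4f0b2f0f0f0f0aef0f0f0aaf0f0f0f0a5f0f0f0f0f09ef09cf0f0f0f098f0f0f094f0f0f0f08ff0f0f0f0f089f0f0f0f0f083f0f0f0f07ef0f078f076f074f072f0f0f0f0f06ff0f0f0f06af0f0f0f0f064f0f0f0f0f05ef0f0f0f059f0f0f055f0f0f050f04ef0f0f0f0f0f048f0f0f0f043f0f0f03ff0f0f03af038f0f0f035f0f0f030f02ef0f0f02af028f0f0f0f024f0f020f01ef0f0f0f01af0f0f016f0f0f0f011f0f0f0f0f0f00af0f0f0f0f0f0f0f001f0f0f0,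 0xf0f0ecf0f0f0f0f0f0f0e4f0f0f0f0f0f0ddf0f0f0f0d8f0f0f0d4f0f0f0f0cecdf0f0f0caf0f0f0f0c4c3f0f0f0f0bebdf0f0f0f0f0b8f0f0b4b3f0f0f0f0f0aef0f0f0aaf0f0f0f0a5f0f0f0f0f09e9df0f0f0f0f098f0f0f094f0f0f0f08ff0f0f0f0f089f0f0f0f0f083f0f0f0f07ef07a79f0f0f0f0f07372f0f0f070f0f0f0f06bf0f0f0f0f065f0f0f0f0f05ff0f0f0f05af0f0f056f0f0f0f0504ff0f0f0f0f0f049f0f0f0f044f0f0f040f0f0f0f03a39f0f0f036f0f0f0f0302ff0f0f0f02a29f0f0f0f0f024f0f0201ff0f0f0f0f01af0f0f016f0f0f0f011f0f0f0f0f0f00af0f0f0f0f0f0f002f0f0f0, 0xedf0f0f0f0f0f0f0f0f0f0e2f0f0f0f0f0f0dbf0f0f0f0d6f0f0f0d2f0f0cff0f0ccf0f0f0c8f0f0c5f0f0c2f0f0bff0f0bcf0f0b9f0f0f0b5f0f0b2f0f0aff0f0f0abf0f0f0f0a6f0f0f0f0f0f09ff0f09cf0f099f0f0f095f0f0f0f090f0f0f0f0f08af0f0f0f0f084f0f0f0f07ff0f0f07bf0f0f07776f0f0f072f0f0f06ef0f0f0f069f0f0f0f0f063f0f0f0f0f05df0f0f0f058f0f0f054f0f051f0f04ef0f0f0f0f0f047f0f0f0f042f0f0f03ef0f03bf0f038f0f0f034f0f031f0f02ef0f02bf0f028f0f025f0f0f021f0f01ef0f01bf0f0f017f0f0f0f012f0f0f0f0f0f00bf0f0f0f0f0f0f0f0f0f000f0f0,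 0xf0edf0f0f0f0f0f0f0f0f0e3f0f0f0f0f0f0dcf0f0f0f0d7f0f0f0d3f0f0d0f0f0f0ccf0f0c9f0f0c6f0f0f0c2f0c0f0f0f0bcf0f0b9f0f0b6f0f0f0b2f0f0aff0f0f0abf0f0f0f0a6f0f0f0f0f0a0f0f0f09cf0f099f0f0f095f0f0f0f090f0f0f0f0f08af0f0f0f0f084f0f0f0f07ff0f0f07bf078f0f075f0f073f0f0f06ff0f0f0f06af0f0f0f0f064f0f0f0f0f05ef0f0f0f059f0f0f055f0f052f0f0f04ef0f0f0f0f048f0f0f0f043f0f0f03ff0f03cf0f0f038f0f035f0f032f0f0f02ef02cf0f0f028f0f025f0f022f0f0f01ef0f01bf0f0f017f0f0f0f012f0f0f0f0f0f00bf0f0f0f0f0f0f0f0f001f0f0, 0xeef0f0f0f0f0f0f0f0f0f0f0e2f0f0f0f0f0f0dbf0f0f0f0d6f0f0f0d2f0f0cff0cdf0f0f0f0c8f0f0c5f0c3f0f0f0bff0bdf0f0baf0f0f0f0b5f0b3f0f0b0f0f0f0acf0f0f0f0a7f0f0f0f0f0f0f09ff09df0f09af0f0f096f0f0f0f091f0f0f0f0f08bf0f0f0f0f085f0f0f0f080f0f0f07cf0f079f0f0f075f0f072f0f0f06ef0f0f0f069f0f0f0f0f063f0f0f0f0f05df0f0f0f058f0f0f054f0f051f04ff0f0f0f0f0f0f047f0f0f0f042f0f0f03ef0f03bf039f0f0f0f034f0f031f02ff0f0f02bf029f0f026f0f0f0f021f01ff0f01cf0f0f018f0f0f0f013f0f0f0f0f0f00cf0f0f0f0f0f0f0f0f0f0f000f0,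 0xf0eff0f0f0f0f0f0f0f0f0f0f0e3f0f0f0f0f0f0dcf0f0f0f0d7f0f0f0d3f0f0d0f0cef0f0f0f0c9f0f0c6f0c4f0f0f0c0f0bef0f0bbf0f0f0f0b6f0b4f0f0b1f0f0f0adf0f0f0f0a8f0f0f0f0f0f0f0a0f09ef0f09bf0f0f097f0f0f0f092f0f0f0f0f08cf0f0f0f0f086f0f0f0f081f0f0f07df0f07af0f0f076f0f073f0f0f06ff0f0f0f06af0f0f0f0f064f0f0f0f0f05ef0f0f0f059f0f0f055f0f052f050f0f0f0f0f0f0f048f0f0f0f043f0f0f03ff0f03cf03af0f0f0f035f0f032f030f0f0f02cf02af0f027f0f0f0f022f020f0f01df0f0f019f0f0f0f014f0f0f0f0f0f00df0f0f0f0f0f0f0f0f0f0f001, 0xf0f0eef0f0f0f0f0f0f0f0f0e4f0f0f0f0f0f0ddf0f0f0f0d8f0f0f0d4f0f0d1f0f0f0cdf0f0caf0f0c7f0f0f0c3f0c1f0f0f0bdf0f0baf0f0b7f0f0f0b3f0f0b0f0f0f0acf0f0f0f0a7f0f0f0f0f0a1f0f0f09df0f09af0f0f096f0f0f0f091f0f0f0f0f08bf0f0f0f0f085f0f0f0f080f0f0f07cf0f07af0f077f074f0f0f070f0f0f0f06bf0f0f0f0f065f0f0f0f0f05ff0f0f0f05af0f0f056f0f053f0f0f04ff0f0f0f0f049f0f0f0f044f0f0f040f0f03df0f0f039f0f036f0f033f0f0f02ff02df0f0f029f0f026f0f023f0f0f01ff0f01cf0f0f018f0f0f0f013f0f0f0f0f0f00cf0f0f0f0f0f0f0f0f002f0,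 0xf0f0eff0f0f0f0f0f0f0f0f0f0e4f0f0f0f0f0f0ddf0f0f0f0d8f0f0f0d4f0f0d1f0f0cef0f0f0caf0f0c7f0f0c4f0f0c1f0f0bef0f0bbf0f0f0b7f0f0b4f0f0b1f0f0f0adf0f0f0f0a8f0f0f0f0f0f0a1f0f09ef0f09bf0f0f097f0f0f0f092f0f0f0f0f08cf0f0f0f0f086f0f0f0f081f0f0f07df0f0f07978f0f0f074f0f0f070f0f0f0f06bf0f0f0f0f065f0f0f0f0f05ff0f0f0f05af0f0f056f0f053f0f050f0f0f0f0f0f049f0f0f0f044f0f0f040f0f03df0f03af0f0f036f0f033f0f030f0f02df0f02af0f027f0f0f023f0f020f0f01df0f0f019f0f0f0f014f0f0f0f0f0f00df0f0f0f0f0f0f0f0f0f002, 0xf0f0f0edf0f0f0f0f0f0f0e5f0f0f0f0f0f0def0f0f0f0d9f0f0f0d5f0f0f0f0f0d0cff0f0cbf0f0f0f0f0c6c5f0f0f0f0c0bff0f0f0f0b9f0f0f0b6b5f0f0f0f0aff0f0f0abf0f0f0f0a6f0f0f0f0f0f0a09ff0f0f0f099f0f0f095f0f0f0f090f0f0f0f0f08af0f0f0f0f084f0f0f0f07ff0f0f07d7cf0f0f0f0f07675f071f0f0f0f06cf0f0f0f0f066f0f0f0f0f060f0f0f0f05bf0f0f057f0f0f0f0f05251f0f0f0f0f04af0f0f0f045f0f0f041f0f0f0f0f03c3bf0f037f0f0f0f0f03231f0f0f0f02c2bf0f0f0f025f0f0f02221f0f0f0f01bf0f0f017f0f0f0f012f0f0f0f0f0f00bf0f0f0f0f0f0f003f0f0,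 0xf0f0f0eef0f0f0f0f0f0f0f0e5f0f0f0f0f0f0def0f0f0f0d9f0f0f0d5f0f0f0f0d1f0cff0f0cbf0f0f0f0c7f0c5f0f0f0c1f0bff0f0f0baf0f0f0b7f0b5f0f0f0b0f0f0f0acf0f0f0f0a7f0f0f0f0f0f0a1f09ff0f0f09af0f0f096f0f0f0f091f0f0f0f0f08bf0f0f0f0f085f0f0f0f080f0f0f0f0f07df07bf079f077f0f071f0f0f0f06cf0f0f0f0f066f0f0f0f0f060f0f0f0f05bf0f0f057f0f0f0f053f051f0f0f0f0f04af0f0f0f045f0f0f041f0f0f0f03df03bf0f037f0f0f0f033f031f0f0f02df02bf0f0f026f0f0f023f021f0f0f01cf0f0f018f0f0f0f013f0f0f0f0f0f00cf0f0f0f0f0f0f0f003f0, 0xf0f0f0eff0f0f0f0f0f0f0f0f0e5f0f0f0f0f0f0def0f0f0f0d9f0f0f0d5f0f0f0f0d1d0f0f0f0cbf0f0f0f0c7c6f0f0f0f0c1c0f0f0f0bbf0f0f0f0b7b6f0f0f0b1f0f0f0adf0f0f0f0a8f0f0f0f0f0f0f0a1a0f0f0f09bf0f0f097f0f0f0f092f0f0f0f0f08cf0f0f0f0f086f0f0f0f081f0f0f0f0f0f07cf07b7a78f0f0f0f071f0f0f0f06cf0f0f0f0f066f0f0f0f0f060f0f0f0f05bf0f0f057f0f0f0f05352f0f0f0f0f0f04af0f0f0f045f0f0f041f0f0f0f03d3cf0f0f037f0f0f0f03332f0f0f0f02d2cf0f0f027f0f0f0f02322f0f0f01df0f0f019f0f0f0f014f0f0f0f0f0f00df0f0f0f0f0f0f0f0f003,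 0xf0f0f0f0ecf0f0f0f0f0e6f0f0f0f0f0f0dff0f0f0f0daf0f0f0f0f0f0f0d4d3d2f0f0f0f0f0f0f0cac9c8f0f0f0f0f0f0f0f0f0bebdbcf0f0f0f0f0f0f0b4b3b2f0f0f0f0f0aaf0f0f0f0a5f0f0f0f0f0f0f0f09e9d9cf0f0f0f0f094f0f0f0f08ff0f0f0f0f089f0f0f0f0f083f0f0f0f081807ff0f0f0f0f0f0f0f0f0f0747372f06df0f0f0f0f067f0f0f0f0f061f0f0f0f05cf0f0f0f0f0f0f0565554f0f0f0f0f0f04bf0f0f0f046f0f0f0f0f0f0f0403f3ef0f0f0f0f0f0f0363534f0f0f0f0f0f0f0f0f02a2928f0f0f0f0f0f0f0201f1ef0f0f0f0f016f0f0f0f011f0f0f0f0f0f00af0f0f0f0f004f0f0f0, 0xf0f0f0f0edf0f0f0f0f0f0e6f0f0f0f0f0f0dff0f0f0f0daf0f0f0f0f0f0d5f0f0d3d2f0f0f0f0f0cbf0f0c9c8f0f0f0f0f0f0f0c0bff0bcf0f0f0f0f0f0b6b5f0b2f0f0f0f0abf0f0f0f0a6f0f0f0f0f0f0f0f0a09ff09cf0f0f0f095f0f0f0f090f0f0f0f0f08af0f0f0f0f084f0f0f0f0f0f0f08180f0f0f0f07ef0f07bf07675f0f06df0f0f0f0f067f0f0f0f0f061f0f0f0f05cf0f0f0f0f0f057f0f05554f0f0f0f0f04bf0f0f0f046f0f0f0f0f0f041f0f03f3ef0f0f0f0f037f0f03534f0f0f0f0f0f0f02c2bf028f0f0f0f0f0f02221f01ef0f0f0f017f0f0f0f012f0f0f0f0f0f00bf0f0f0f0f0f004f0f0],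
  [0xf0f0f0f0eef0f0f0f0f0f0f0e6f0f0f0f0f0f0dff0f0f0f0daf0f0f0f0f0f0d5f0d4f0d2f0f0f0f0f0cbf0caf0c8f0f0f0f0f0f0c1f0bfbdf0f0f0f0f0f0b7f0b5b3f0f0f0f0acf0f0f0f0a7f0f0f0f0f0f0f0f0a1f09f9df0f0f0f096f0f0f0f091f0f0f0f0f08bf0f0f0f0f085f0f0f0f0f0f0f0f0f081f07ff0f07ef07c79f077f0f0f06df0f0f0f0f067f0f0f0f0f061f0f0f0f05cf0f0f0f0f0f057f056f054f0f0f0f0f04bf0f0f0f046f0f0f0f0f0f041f040f03ef0f0f0f0f037f036f034f0f0f0f0f0f02df02b29f0f0f0f0f0f023f0211ff0f0f0f018f0f0f0f013f0f0f0f0f0f00cf0f0f0f0f0f0f004f0, 0xf0f0f0f0eff0f0f0f0f0f0f0f0e6f0f0f0f0f0f0dff0f0f0f0daf0f0f0f0f0f0d5f0d4d3f0f0f0f0f0f0cbf0cac9f0f0f0f0f0f0f0c1c0bef0f0f0f0f0f0f0b7b6b4f0f0f0f0adf0f0f0f0a8f0f0f0f0f0f0f0f0f0a1a09ef0f0f0f097f0f0f0f092f0f0f0f0f08cf0f0f0f0f086f0f0f0f0f0f0f0f0f0f080f07ff0f07e7d7a78f0f0f0f0f06df0f0f0f0f067f0f0f0f0f061f0f0f0f05cf0f0f0f0f0f057f05655f0f0f0f0f0f04bf0f0f0f046f0f0f0f0f0f041f0403ff0f0f0f0f0f037f03635f0f0f0f0f0f0f02d2c2af0f0f0f0f0f0f0232220f0f0f0f019f0f0f0f014f0f0f0f0f0f00df0f0f0f0f0f0f0f004,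 0xf0f0f0f0f0ebf0f0f0e7f0f0f0f0f0f0e0f0f0f0f0f0f0f0f0f0d9d8d7d6f0f0f0f0f0f0f0f0f0f0f0f0f0f0f0f0c7c6c5c4c3c2f0f0f0f0f0f0f0f0f0f0f0f0f0f0b1b0afaef0f0f0f0f0f0a4f0f0f0f0f0f0f0f0f0f0f09b9a9998f0f0f0f0f0f08ef0f0f0f0f088f0f0f0f0f086858483f0f0f0f0f0f0f0f0f0f0f0f0f0f0f0f0f071706f6ef068f0f0f0f0f062f0f0f0f0f0f0f0f0f05b5a5958f0f0f0f0f0f0f0f04cf0f0f0f0f0f0f0f0f045444342f0f0f0f0f0f0f0f0f0f0f0f0f0f0f0f0333231302f2ef0f0f0f0f0f0f0f0f0f0f0f0f0f01d1c1b1af0f0f0f0f0f010f0f0f0f0f0f009f0f0f005f0f0f0f0, 0xf0f0f0f0f0ecf0f0f0f0e7f0f0f0f0f0f0e0f0f0f0f0f0f0f0f0daf0f0f0d8d7d6f0f0f0f0f0f0f0f0f0f0f0f0f0cac9c8f0f0f0c4c3c2f0f0f0f0f0f0f0f0f0f0f0b4b3b2f0aef0f0f0f0f0a5f0f0f0f0f0f0f0f0f0f0f09e9d9cf098f0f0f0f0f08ff0f0f0f0f089f0f0f0f0f0f0f0f0f0868584f0f0f0f0f0f0f0f0f082f0f0f07ef0747372f0f068f0f0f0f0f062f0f0f0f0f0f0f0f05cf0f0f05a5958f0f0f0f0f0f04cf0f0f0f0f0f0f0f046f0f0f0444342f0f0f0f0f0f0f0f0f0f0f0f0f0363534f0f0f0302f2ef0f0f0f0f0f0f0f0f0f0f0201f1ef01af0f0f0f0f011f0f0f0f0f0f00af0f0f0f005f0f0f0,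 0xf0f0f0f0f0edf0f0f0f0f0e7f0f0f0f0f0f0e0f0f0f0f0f0f0f0f0daf0f0d9f0f0d7d6f0f0f0f0f0f0f0f0f0f0f0cbf0f0c9c8f0c6c5f0c2f0f0f0f0f0f0f0f0f0f0b6b5f0b2aff0f0f0f0f0a6f0f0f0f0f0f0f0f0f0f0f0a09ff09c99f0f0f0f0f090f0f0f0f0f08af0f0f0f0f0f0f0f0f0f0f0f08685f0f0f0f083f0f0f082f0f07f7bf07675f0f0f068f0f0f0f0f062f0f0f0f0f0f0f0f05cf0f05bf0f05958f0f0f0f0f04cf0f0f0f0f0f0f0f046f0f045f0f04342f0f0f0f0f0f0f0f0f0f0f037f0f03534f03231f02ef0f0f0f0f0f0f0f0f0f02221f01e1bf0f0f0f0f012f0f0f0f0f0f00bf0f0f0f0f005f0f0, 0xf0f0f0f0f0eef0f0f0f0f0f0e7f0f0f0f0f0f0e0f0f0f0f0f0f0f0f0daf0f0d9f0d8f0d6f0f0f0f0f0f0f0f0f0f0f0cbf0caf0c8c7f0c5c3f0f0f0f0f0f0f0f0f0f0b7f0b5b3b0f0f0f0f0f0a7f0f0f0f0f0f0f0f0f0f0f0a1f09f9d9af0f0f0f0f091f0f0f0f0f08bf0f0f0f0f0f0f0f0f0f0f0f0f0f086f084f0f083f0f0f082f0807c79f077f0f0f0f068f0f0f0f0f062f0f0f0f0f0f0f0f05cf0f05bf05af058f0f0f0f0f04cf0f0f0f0f0f0f0f046f0f045f044f042f0f0f0f0f0f0f0f0f0f0f037f036f03433f0312ff0f0f0f0f0f0f0f0f0f023f0211f1cf0f0f0f0f013f0f0f0f0f0f00cf0f0f0f0f0f005f0,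 0xf0f0f0f0f0eff0f0f0f0f0f0f0e7f0f0f0f0f0f0e0f0f0f0f0f0f0f0f0daf0f0d9f0d8d7f0f0f0f0f0f0f0f0f0f0f0f0cbf0cac9f0c7c6c4f0f0f0f0f0f0f0f0f0f0f0b7b6b4b1f0f0f0f0f0a8f0f0f0f0f0f0f0f0f0f0f0f0a1a09e9bf0f0f0f0f092f0f0f0f0f08cf0f0f0f0f0f0f0f0f0f0f0f0f0f0f085f084f0f083f0f0f082817d7a78f0f0f0f0f0f068f0f0f0f0f062f0f0f0f0f0f0f0f05cf0f05bf05a59f0f0f0f0f0f04cf0f0f0f0f0f0f0f046f0f045f04443f0f0f0f0f0f0f0f0f0f0f0f037f03635f0333230f0f0f0f0f0f0f0f0f0f0f02322201df0f0f0f0f014f0f0f0f0f0f00df0f0f0f0f0f0f005, 0xf0f0f0f0f0f0eaf0e8f0f0f0f0f0f0f0f0f0f0f0f0dfdedddcdbf0f0f0f0f0f0f0f0f0f0f0f0f0f0f0f0f0f0f0f0f0f0f0f0f0f0f0f0f0f0c1c0bfbebdbcbbbab9b8f0f0f0f0f0f0f0f0f0f0f0a3f0f0f0f0f0f0f0f0f0f0f0f0f0f0f09796959493f0f0f0f0f0f0f08c8b8a8988f0f0f0f0f0f0f0f0f0f0f0f0f0f0f0f0f0f0f0f0f0f0f0f0f0f06d6c6b6a69f0f0f0f0f0f061605f5e5df0f0f0f0f0f0f0f0f0f0f04df0f0f0f0f0f0f0f0f0f0f0f0f0f0f0f0f0f0f0f041403f3e3d3c3b3a3938f0f0f0f0f0f0f0f0f0f0f0f0f0f0f0f0f0f0f0f0f0f0f0f0f01918171615f0f0f0f0f0f0f0f008f006f0f0f0f0f0,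 0xf0f0f0f0f0f0ebf0f0e8f0f0f0f0f0f0f0f0f0f0f0e0f0f0f0f0dedddcdbf0f0f0f0f0f0f0f0f0f0f0f0f0f0f0f0f0f0f0f0f0f0f0f0f0f0c7c6c5c4c3c2f0f0f0f0bbbab9b8f0f0f0f0f0f0f0a4f0f0f0f0f0f0f0f0f0f0f0f0f0f0f09b9a9998f093f0f0f0f0f0f0f0f0f0f0f08c8b8a89f0f0f0f0f0f0f0f0f0f0f0f0f0f0f0f087f0f0f0f082f071706f6ef0f0f0f0f0f062f0f0f0f0605f5e5df0f0f0f0f0f0f0f04df0f0f0f0f0f0f0f0f0f0f0f0f0f0f0f0f0f0f045444342f0f0f0f0f0f03d3c3b3a3938f0f0f0f0f0f0f0f0f0f0f0f0f0f0f0f0f0f0f01d1c1b1af015f0f0f0f0f0f0f009f0f006f0f0f0f0, 0xf0f0f0f0f0f0ecf0f0f0e8f0f0f0f0f0f0f0f0f0f0f0e0f0f0f0dff0f0f0dddcdbf0f0f0f0f0f0f0f0f0f0f0f0f0f0f0f0f0f0f0f0f0f0f0cac9c8f0f0f0c4c3c2f0bebdbcf0b8f0f0f0f0f0f0a5f0f0f0f0f0f0f0f0f0f0f0f0f0f0f09e9d9cf09894f0f0f0f0f0f0f0f0f0f0f0f0f0f0f08c8b8af0f0f0f0f0f0f0f0f088f0f0f0f087f0f0f0837ef0747372f0f0f0f0f0f0f062f0f0f061f0f0f05f5e5df0f0f0f0f0f04df0f0f0f0f0f0f0f0f0f0f0f0f0f0f0f0f0f046f0f0f0444342f0f0f0403f3ef0f0f03a3938f0f0f0f0f0f0f0f0f0f0f0f0f0f0f0f0201f1ef01a16f0f0f0f0f0f0f00af0f0f006f0f0f0,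 0xf0f0f0f0f0f0edf0f0f0f0e8f0f0f0f0f0f0f0f0f0f0f0e0f0f0f0dff0f0def0f0dcdbf0f0f0f0f0f0f0f0f0f0f0f0f0f0f0f0f0f0f0f0f0cbf0f0c9c8f0c6c5f0c2c0bff0bcb9f0f0f0f0f0f0a6f0f0f0f0f0f0f0f0f0f0f0f0f0f0f0a09ff09c9995f0f0f0f0f0f0f0f0f0f0f0f0f0f0f0f0f0f08c8bf0f0f0f089f0f0f088f0f0f0f087f0f0847f7bf07675f0f0f0f0f0f0f0f062f0f0f061f0f060f0f05e5df0f0f0f0f04df0f0f0f0f0f0f0f0f0f0f0f0f0f0f0f0f0f046f0f045f0f04342f041f0f03f3ef03c3bf038f0f0f0f0f0f0f0f0f0f0f0f0f0f0f02221f01e1b17f0f0f0f0f0f0f00bf0f0f0f006f0f0, 0xf0f0f0f0f0f0eef0f0f0f0f0e8f0f0f0f0f0f0f0f0f0f0f0e0f0f0f0dff0f0def0ddf0dbf0f0f0f0f0f0f0f0f0f0f0f0f0f0f0f0f0f0f0f0f0cbf0caf0c8c7f0c5c3c1f0bfbdbaf0f0f0f0f0f0a7f0f0f0f0f0f0f0f0f0f0f0f0f0f0f0a1f09f9d9a96f0f0f0f0f0f0f0f0f0f0f0f0f0f0f0f0f0f0f0f08cf08af0f089f0f0f088f0f0f0f087f085807c79f077f0f0f0f0f0f0f0f0f062f0f0f061f0f060f05ff05df0f0f0f0f04df0f0f0f0f0f0f0f0f0f0f0f0f0f0f0f0f0f046f0f045f044f042f041f040f03e3df03b39f0f0f0f0f0f0f0f0f0f0f0f0f0f0f023f0211f1c18f0f0f0f0f0f0f00cf0f0f0f0f006f0,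 0xf0f0f0f0f0f0eff0f0f0f0f0f0e8f0f0f0f0f0f0f0f0f0f0f0e0f0f0f0dff0f0def0dddcf0f0f0f0f0f0f0f0f0f0f0f0f0f0f0f0f0f0f0f0f0f0cbf0cac9f0c7c6c4f0c1c0bebbf0f0f0f0f0f0a8f0f0f0f0f0f0f0f0f0f0f0f0f0f0f0f0a1a09e9b97f0f0f0f0f0f0f0f0f0f0f0f0f0f0f0f0f0f0f0f0f08bf08af0f089f0f0f088f0f0f0f08786817d7a78f0f0f0f0f0f0f0f0f0f0f062f0f0f061f0f060f05f5ef0f0f0f0f0f04df0f0f0f0f0f0f0f0f0f0f0f0f0f0f0f0f0f046f0f045f04443f0f041f0403ff03d3c3af0f0f0f0f0f0f0f0f0f0f0f0f0f0f0f02322201d19f0f0f0f0f0f0f00df0f0f0f0f0f006, 0xf0f0f0f0f0f0f0eae9f0f0f0f0f0f0e1f0f0f0f0f0f0f0f0f0f0f0f0f0f0f0f0f0f0f0f0d5d4d3d2d1d0cfcecdccf0f0f0f0f0f0f0f0f0f0f0f0f0f0f0f0f0f0f0f0f0f0f0f0f0adacabaaa9f0f0f0f0f0f0f0f0f0f0f0f0f0f0f0f0f0f0f0f0f0f0f09796959493f09291908f8ef0f0f0f0f0f0f0f0f0f0f0f0f0f0f0f0f0f0f0f0f0f0f0f0f0f0f0f0f0f0f0f06d6c6b6a696766656463f0f0f0f0f0f0f0f0f0f0f0f0f0f0f0f0f04b4a494847f0f0f0f0f0f0f0f0f0f0f0f0f0f0f0f0f0f0f0f0f0f0f0f0f0f0f0f0f0f02d2c2b2a292827262524f0f0f0f0f0f0f0f0f0f0f00ff0f0f0f0f0f0f00807f0f0f0f0f0,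 0xf0f0f0f0f0f0f0ebf0e9f0f0f0f0f0f0e1f0f0f0f0f0f0f0f0f0f0f0f0f0f0f0f0f0f0f0d9d8d7d6f0f0f0f0f0f0d1d0cfcecdccf0f0f0f0f0f0f0f0f0f0f0f0f0f0f0f0f0f0f0b1b0afaef0a9f0f0f0f0f0f0f0f0f0f0f0f0f0f0f0f0f0f0f0f0f0f09b9a9998f093f0f0f0f0f09291908ff0f0f0f0f0f0f0f0f0f0f0f0f0f0f0f08df0f0f0f0f0f0f0f0f0f082f071706f6e68f0f0f0f066656463f0f0f0f0f0f0f0f0f0f0f0f0f04cf0f0f0f04a494847f0f0f0f0f0f0f0f0f0f0f0f0f0f0f0f0f0f0f0f0f0f0f0f0f0f0333231302f2ef0f0f0f027262524f0f0f0f0f0f0f010f0f0f0f0f0f0f009f007f0f0f0f0, 0xf0f0f0f0f0f0f0ecf0f0e9f0f0f0f0f0f0e1f0f0f0f0f0f0f0f0f0f0f0f0f0f0f0f0f0f0daf0f0f0d8d7d6f0f0f0d4d3d2f0f0f0cecdccf0f0f0f0f0f0f0f0f0f0f0f0f0f0f0f0b4b3b2f0aeaaf0f0f0f0f0f0f0f0f0f0f0f0f0f0f0f0f0f0f0f0f0f09e9d9cf09894f0f0f0f0f0f0f0f0f0929190f0f0f0f0f0f0f0f0f08ef0f0f0f08df0f0f0f0f0f0f0f0f0837ef0747372f068f0f0f067f0f0f0656463f0f0f0f0f0f0f0f0f0f0f04cf0f0f04bf0f0f0494847f0f0f0f0f0f0f0f0f0f0f0f0f0f0f0f0f0f0f0f0f0f0f0363534f0f0f0302f2ef02a2928f024f0f0f0f0f0f011f0f0f0f0f0f0f00af0f007f0f0f0],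
  [0xf0f0f0f0f0f0f0edf0f0f0e9f0f0f0f0f0f0e1f0f0f0f0f0f0f0f0f0f0f0f0f0f0f0f0f0f0daf0f0d9f0f0d7d6f0d5f0f0d3d2f0d0cff0ccf0f0f0f0f0f0f0f0f0f0f0f0f0f0f0b6b5f0b2afabf0f0f0f0f0f0f0f0f0f0f0f0f0f0f0f0f0f0f0f0f0f0a09ff09c9995f0f0f0f0f0f0f0f0f0f0f0f09291f0f0f0f08ff0f0f08ef0f0f0f08df0f0f0f0f0f0f0f0847f7bf07675f0f068f0f0f067f0f066f0f06463f0f0f0f0f0f0f0f0f0f04cf0f0f04bf0f04af0f04847f0f0f0f0f0f0f0f0f0f0f0f0f0f0f0f0f0f0f0f0f037f0f03534f03231f02e2c2bf02825f0f0f0f0f0f012f0f0f0f0f0f0f00bf0f0f007f0f0, 0xf0f0f0f0f0f0f0eef0f0f0f0e9f0f0f0f0f0f0e1f0f0f0f0f0f0f0f0f0f0f0f0f0f0f0f0f0f0daf0f0d9f0d8f0d6f0d5f0d4f0d2d1f0cfcdf0f0f0f0f0f0f0f0f0f0f0f0f0f0f0b7f0b5b3b0acf0f0f0f0f0f0f0f0f0f0f0f0f0f0f0f0f0f0f0f0f0f0a1f09f9d9a96f0f0f0f0f0f0f0f0f0f0f0f0f0f092f090f0f08ff0f0f08ef0f0f0f08df0f0f0f0f0f0f085807c79f077f0f0f068f0f0f067f0f066f065f063f0f0f0f0f0f0f0f0f0f04cf0f0f04bf0f04af049f047f0f0f0f0f0f0f0f0f0f0f0f0f0f0f0f0f0f0f0f0f037f036f03433f0312f2df02b2926f0f0f0f0f0f013f0f0f0f0f0f0f00cf0f0f0f007f0,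 0xf0f0f0f0f0f0f0eff0f0f0f0f0e9f0f0f0f0f0f0e1f0f0f0f0f0f0f0f0f0f0f0f0f0f0f0f0f0f0daf0f0d9f0d8d7f0f0d5f0d4d3f0d1d0cef0f0f0f0f0f0f0f0f0f0f0f0f0f0f0f0b7b6b4b1adf0f0f0f0f0f0f0f0f0f0f0f0f0f0f0f0f0f0f0f0f0f0f0a1a09e9b97f0f0f0f0f0f0f0f0f0f0f0f0f0f0f091f090f0f08ff0f0f08ef0f0f0f08df0f0f0f0f0f086817d7a78f0f0f0f0f068f0f0f067f0f066f06564f0f0f0f0f0f0f0f0f0f0f04cf0f0f04bf0f04af04948f0f0f0f0f0f0f0f0f0f0f0f0f0f0f0f0f0f0f0f0f0f037f03635f0333230f02d2c2a27f0f0f0f0f0f014f0f0f0f0f0f0f00df0f0f0f0f007, 0xf0f0f0f0f0f0f0f0ebeaf0f0f0f0f0f0f0f0f0f0f0e1f0f0f0f0f0f0f0f0f0f0f0f0f0f0dedddcdbf0f0f0f0f0f0f0f0f0f0f0f0f0f0f0f0d1d0cfcecdccf0f0f0f0f0f0f0f0f0bbbab9b8f0f0a9f0f0f0f0f0f0f0f0f0f0f0f0f0f0f0f0f0f0f0f0f0f0f0f0f0f0f09b9a9998f097969594f0f0f0f0f0f0f0f0f0f0f0f0f0f0f0f0f0f0f0f0f08e8df0f0f0f08887f0f0f0f0f071706f6e6c6b6a69f0f0f0f0f0f0f0f0f0f0f0f0f04df0f0f0f0f0f0f0f0f0f0f0f0f0f04a494847f0f0f0f0f0f0f0f0f0f0f0f0f0f0f0f03d3c3b3a3938f0f0f0f0f0f0f0f0f027262524f0f015f0f0f0f0f0f0f0f00908f0f0f0f0,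 0xf0f0f0f0f0f0f0f0ecf0eaf0f0f0f0f0f0f0f0f0f0f0e1f0f0f0f0f0f0f0f0f0f0f0f0f0dff0f0f0dddcdbf0f0f0f0f0f0f0f0f0f0f0f0f0d4d3d2f0f0f0cecdccf0f0f0f0f0f0bebdbcf0b8f0aaf0f0f0f0f0f0f0f0f0f0f0f0f0f0f0f0f0f0f0f0f0f0f0f0f0f0f09e9d9cf098f0f0f0f0979695f0f0f0f0f0f0f0f0f093f0f0f0f0f0f0f0f08ff08df0f0f089f087f0f0f07ef07473726df0f0f06b6a69f0f0f0f0f0f0f0f0f0f0f04df0f0f0f0f0f0f0f0f0f0f0f0f04bf0f0f0494847f0f0f0f0f0f0f0f0f0f0f0f0f0403f3ef0f0f03a3938f0f0f0f0f0f02a2928f024f016f0f0f0f0f0f0f0f00af008f0f0f0, 0xf0f0f0f0f0f0f0f0edf0f0eaf0f0f0f0f0f0f0f0f0f0f0e1f0f0f0f0f0f0f0f0f0f0f0f0f0dff0f0def0f0dcdbf0f0f0f0f0f0f0f0f0f0f0d5f0f0d3d2f0d0cff0ccf0f0f0f0f0c0bff0bcb9f0abf0f0f0f0f0f0f0f0f0f0f0f0f0f0f0f0f0f0f0f0f0f0f0f0f0f0f0a09ff09c99f0f0f0f0f0f0f09796f0f0f0f094f0f0f093f0f0f0f0f0f0f090f0f08df0f08af0f087f0f07f7bf07675f06df0f06cf0f06a69f0f0f0f0f0f0f0f0f0f04df0f0f0f0f0f0f0f0f0f0f0f0f04bf0f04af0f04847f0f0f0f0f0f0f0f0f0f0f041f0f03f3ef03c3bf038f0f0f0f0f02c2bf02825f017f0f0f0f0f0f0f0f00bf0f008f0f0,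 0xf0f0f0f0f0f0f0f0eef0f0f0eaf0f0f0f0f0f0f0f0f0f0f0e1f0f0f0f0f0f0f0f0f0f0f0f0f0dff0f0def0ddf0dbf0f0f0f0f0f0f0f0f0f0f0d5f0d4f0d2d1f0cfcdf0f0f0f0f0c1f0bfbdbaf0acf0f0f0f0f0f0f0f0f0f0f0f0f0f0f0f0f0f0f0f0f0f0f0f0f0f0f0a1f09f9d9af0f0f0f0f0f0f0f0f097f095f0f094f0f0f093f0f0f0f0f0f091f0f0f08df08bf0f0f087f0807c79f077f0f06df0f06cf06bf069f0f0f0f0f0f0f0f0f0f04df0f0f0f0f0f0f0f0f0f0f0f0f04bf0f04af049f047f0f0f0f0f0f0f0f0f0f0f041f040f03e3df03b39f0f0f0f0f02df02b2926f018f0f0f0f0f0f0f0f00cf0f0f008f0, 0xf0f0f0f0f0f0f0f0eff0f0f0f0eaf0f0f0f0f0f0f0f0f0f0f0e1f0f0f0f0f0f0f0f0f0f0f0f0f0dff0f0def0dddcf0f0f0f0f0f0f0f0f0f0f0f0d5f0d4d3f0d1d0cef0f0f0f0f0f0c1c0bebbf0adf0f0f0f0f0f0f0f0f0f0f0f0f0f0f0f0f0f0f0f0f0f0f0f0f0f0f0f0a1a09e9bf0f0f0f0f0f0f0f0f0f096f095f0f094f0f0f093f0f0f0f0f092f0f0f0f08d8cf0f0f0f087817d7a78f0f0f0f06df0f06cf06b6af0f0f0f0f0f0f0f0f0f0f04df0f0f0f0f0f0f0f0f0f0f0f0f04bf0f04af04948f0f0f0f0f0f0f0f0f0f0f0f041f0403ff03d3c3af0f0f0f0f0f02d2c2a27f019f0f0f0f0f0f0f0f00df0f0f0f008,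 0xf0f0f0f0f0f0f0f0f0ecebf0f0f0f0f0f0f0f0f0f0f0f0f0f0f0e1f0f0f0f0f0f0f0f0f0e0f0f0f0f0f0f0f0f0f0dddcdbf0f0f0f0f0f0f0d8d7d6f0f0f0f0f0f0f0cecdccf0f0c4c3c2f0f0b8aef0f0f0f0f0f0f0f0f0f0f0f0f0f0f0f0f0f0f0f0f0f0f0f0f0f0f0f0f0f0f0f09e9d9cf09b9a99f0f0f0f0f0f0f0f0f0f0f0f0f09493f0f0f0f08f8ef0f0f0f08988f0f0f08382f0f0f0f0747372706f6ef0f0f0f0f0f0f0f0f0f0f0f0f0f0f04df0f0f0f0f0f0f0f0f04cf0f0f0f0f0f0f0f0f0494847f0f0f0f0f0f0f0444342f0f0f0f0f0f0f03a3938f0f0302f2ef0f0241af0f0f0f0f0f0f0f0f00a09f0f0f0, 0xf0f0f0f0f0f0f0f0f0edf0ebf0f0f0f0f0f0f0f0f0f0f0f0f0f0f0e1f0f0f0f0f0f0f0f0f0e0f0f0f0f0f0f0f0f0def0f0dcdbf0f0f0f0f0d9f0f0d7d6f0f0f0f0f0d0cff0ccf0c6c5f0c2f0b9aff0f0f0f0f0f0f0f0f0f0f0f0f0f0f0f0f0f0f0f0f0f0f0f0f0f0f0f0f0f0f0f0a09ff09cf0f0f09b9af0f0f0f098f0f0f0f0f0f095f093f0f0f090f08ef0f0f08af088f0f084f082f0f07bf0767571f0f06f6ef0f0f0f0f0f0f0f0f0f0f0f0f0f04df0f0f0f0f0f0f0f0f04cf0f0f0f0f0f0f0f04af0f04847f0f0f0f0f045f0f04342f0f0f0f0f03c3bf038f03231f02ef0251bf0f0f0f0f0f0f0f0f00bf009f0f0,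 0xf0f0f0f0f0f0f0f0f0eef0f0ebf0f0f0f0f0f0f0f0f0f0f0f0f0f0f0e1f0f0f0f0f0f0f0f0f0e0f0f0f0f0f0f0f0f0def0ddf0dbf0f0f0f0f0d9f0d8f0d6f0f0f0f0d1f0cfcdf0c7f0c5c3f0bab0f0f0f0f0f0f0f0f0f0f0f0f0f0f0f0f0f0f0f0f0f0f0f0f0f0f0f0f0f0f0f0f0a1f09f9df0f0f0f0f09bf099f0f098f0f0f0f0f096f0f093f0f091f0f08ef0f08bf0f088f085f0f082f07c79f077f071f070f06ef0f0f0f0f0f0f0f0f0f0f0f0f0f04df0f0f0f0f0f0f0f0f04cf0f0f0f0f0f0f0f04af049f047f0f0f0f0f045f044f042f0f0f0f03df03b39f033f0312ff0261cf0f0f0f0f0f0f0f0f00cf0f009f0, 0xf0f0f0f0f0f0f0f0f0eff0f0f0ebf0f0f0f0f0f0f0f0f0f0f0f0f0f0f0e1f0f0f0f0f0f0f0f0f0e0f0f0f0f0f0f0f0f0def0dddcf0f0f0f0f0f0d9f0d8d7f0f0f0f0f0d1d0cef0f0c7c6c4f0bbb1f0f0f0f0f0f0f0f0f0f0f0f0f0f0f0f0f0f0f0f0f0f0f0f0f0f0f0f0f0f0f0f0f0a1a09ef0f0f0f0f0f09af099f0f098f0f0f0f097f0f0f093f092f0f0f08ef08cf0f0f08886f0f0f0827d7a78f0f0f071f0706ff0f0f0f0f0f0f0f0f0f0f0f0f0f0f04df0f0f0f0f0f0f0f0f04cf0f0f0f0f0f0f0f04af04948f0f0f0f0f0f045f04443f0f0f0f0f03d3c3af0f0333230f0271df0f0f0f0f0f0f0f0f00df0f0f009,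 0xf0f0f0f0f0f0f0f0f0f0edecf0f0f0f0f0f0f0f0f0f0f0f0f0f0f0f0f0f0e1f0f0f0f0f0f0f0f0f0e0f0f0f0f0f0dff0f0f0f0f0dcdbf0f0daf0f0f0f0f0d7d6f0f0d3d2f0f0ccc9c8f0f0c2bcb2f0f0f0f0f0f0f0f0f0f0f0f0f0f0f0f0f0f0f0f0f0f0f0f0f0f0f0f0f0f0f0f0f0f0f0f0a09ff09e9df0f0f0f0f0f0f09998f0f0f09594f0f0f0f0908ff0f0f0f08a89f0f0f08483f0f07f7ef0f0f076757372f0f0f0f0f0f0f0f0f0f0f0f0f0f0f0f0f04df0f0f0f0f0f0f0f0f04cf0f0f0f0f04bf0f0f0f0f04847f0f046f0f0f0f0f04342f0f03f3ef0f0383534f0f02e281ef0f0f0f0f0f0f0f0f0f00b0af0f0, 0xf0f0f0f0f0f0f0f0f0f0eef0ecf0f0f0f0f0f0f0f0f0f0f0f0f0f0f0f0f0f0e1f0f0f0f0f0f0f0f0f0e0f0f0f0f0f0dff0f0f0f0ddf0dbf0f0daf0f0f0f0d8f0d6f0d4f0d2f0cdcaf0c8f0c3bdb3f0f0f0f0f0f0f0f0f0f0f0f0f0f0f0f0f0f0f0f0f0f0f0f0f0f0f0f0f0f0f0f0f0f0f0f0a1f09ff0f09ef09cf0f0f0f09af098f0f096f094f0f0f091f08ff0f0f08bf089f0f085f083f080f07ef079f07774f072f0f0f0f0f0f0f0f0f0f0f0f0f0f0f0f0f04df0f0f0f0f0f0f0f0f04cf0f0f0f0f04bf0f0f0f049f047f0f046f0f0f0f044f042f040f03ef03936f034f02f291ff0f0f0f0f0f0f0f0f0f00cf00af0,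 0xf0f0f0f0f0f0f0f0f0f0eff0f0ecf0f0f0f0f0f0f0f0f0f0f0f0f0f0f0f0f0f0e1f0f0f0f0f0f0f0f0f0e0f0f0f0f0f0dff0f0f0f0dddcf0f0f0daf0f0f0f0d8d7f0f0d4d3f0cef0cac9f0c4beb4f0f0f0f0f0f0f0f0f0f0f0f0f0f0f0f0f0f0f0f0f0f0f0f0f0f0f0f0f0f0f0f0f0f0f0f0f0a1a0f0f0f09df09cf0f0f09bf0f098f097f0f094f0f092f0f08ff0f08cf0f089f086f0f08381f0f07e7a78f0f07473f0f0f0f0f0f0f0f0f0f0f0f0f0f0f0f0f0f04df0f0f0f0f0f0f0f0f04cf0f0f0f0f04bf0f0f0f04948f0f0f046f0f0f0f04443f0f0403ff03af03635f0302a20f0f0f0f0f0f0f0f0f0f00df0f00a, 0xf0f0f0f0f0f0f0f0f0f0f0eeedf0f0f0f0f0f0f0f0f0f0f0f0f0f0f0f0f0f0f0f0e1f0f0f0f0f0f0f0f0f0e0f0f0f0f0f0dff0f0def0f0dbf0f0f0daf0f0d9f0f0d6d5f0f0d2cfcbf0f0c8c5bfb5f0f0f0f0f0f0f0f0f0f0f0f0f0f0f0f0f0f0f0f0f0f0f0f0f0f0f0f0f0f0f0f0f0f0f0f0f0f0f0a1f0a0f0f0f09d9cf0f09a99f0f0f09695f0f0f0f09190f0f0f0f08b8af0f0f08584f0f0807ff07c7bf0f07775f0f0f0f0f0f0f0f0f0f0f0f0f0f0f0f0f0f0f04df0f0f0f0f0f0f0f0f04cf0f0f0f0f04bf0f04af0f047f0f0f046f0f045f0f04241f0f03e3b37f0f034312b21f0f0f0f0f0f0f0f0f0f0f00c0bf0],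
  [0xf0f0f0f0f0f0f0f0f0f0f0eff0edf0f0f0f0f0f0f0f0f0f0f0f0f0f0f0f0f0f0f0f0e1f0f0f0f0f0f0f0f0f0e0f0f0f0f0f0dff0f0def0dcf0f0f0f0daf0f0d9f0d7f0d5f0d3d0f0cbf0c9c6c0b6f0f0f0f0f0f0f0f0f0f0f0f0f0f0f0f0f0f0f0f0f0f0f0f0f0f0f0f0f0f0f0f0f0f0f0f0f0f0f0f0a1f09ff0f09ef09cf09bf099f0f097f095f0f0f092f090f0f0f08cf08af0f086f084f081f07f7df07b78f076f0f0f0f0f0f0f0f0f0f0f0f0f0f0f0f0f0f0f0f04df0f0f0f0f0f0f0f0f04cf0f0f0f0f04bf0f04af048f0f0f0f046f0f045f043f041f03f3cf037f035322c22f0f0f0f0f0f0f0f0f0f0f00df00b, 0xf0f0f0f0f0f0f0f0f0f0f0f0efeef0f0f0f0f0f0f0f0f0f0f0f0f0f0f0f0f0f0f0f0f0e1f0f0f0f0f0f0f0f0f0e0f0f0f0f0f0dff0f0deddf0f0f0f0f0daf0f0d9d8f0f0d5d4d1f0f0cbcac7c1b7f0f0f0f0f0f0f0f0f0f0f0f0f0f0f0f0f0f0f0f0f0f0f0f0f0f0f0f0f0f0f0f0f0f0f0f0f0f0f0f0f0f0f0a09ff09e9df0f09b9af0f0f09796f0f0f0f09291f0f0f0f08c8bf0f0f08685f0f08180f07d7c7a79f0f0f0f0f0f0f0f0f0f0f0f0f0f0f0f0f0f0f0f0f0f04df0f0f0f0f0f0f0f0f04cf0f0f0f0f04bf0f04a49f0f0f0f0f046f0f04544f0f041403df0f03736332d23f0f0f0f0f0f0f0f0f0f0f0f00d0c,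 0xf0f0f0f0f0f0f0f0f0f0f0f0f0f0e9e7e6e5e4e3e2f0f0f0f0f0f0f0f0f0f0f0f0f0f0f0f0f0f0f0f0f0f0f0f0f0f0f0f0f0f0f0f0f0f0f0f0f0f0f0f0f0f0f0f0f0f0f0f0f0f0f0f0f0f0f0f0f0b7b6b5b4b3b2b1b0afaeadacabaaa9f0f0f0f0f0f0a8a7a6a5a4a3f0f0f0f0f0f0f0f0f0f0f0f0f0f0f0f0f0f0f0f0f0f0f0f0f0f0f0f0f0f0f0f0f0f0f0f0f0f0f0f0f0f0f0f0f0f0f0f0f0f0f0f0f0f0f0f0f0f06867666564635c5b5a595857565554535251504f4ef0f0f0f0f0f0f0f0f0f0f0f0f0f0f0f0f0f0f0f0f0f0f0f0f0f0f0f0f0f0f0f0f0f0f0f0f0f0f0f0f0f014131211100ff00ef0f0f0f0f0f0, 0xf0f0f0f0f0f0f0f0f0f0f0f0f0f0eae8f0f0f0f0f0e6e5e4e3e2f0f0f0f0f0f0f0f0f0f0f0f0f0f0f0f0f0f0f0f0f0f0f0f0f0f0f0f0f0f0f0f0f0f0f0f0f0f0f0f0f0f0f0f0f0f0f0f0f0f0f0f0c1c0bfbebdbcbbbab9b8f0f0f0f0f0adacabaaa9f0f0f0f0f0f0f0a8a7a6a5a4f0f0f0f0f0f0f0f0f0f0f0f0f0f0f0f0f0f0f0f0f0f0f0f0f0a2f0f0f0f0f0f0f0f0f0f0f0f0f0f0f0f0f0f0f0f0f0f0f0f0f0f087f06d6c6b6a6961605f5e5df0f0f0f0f0f0f0f0f0f057565554535251504f4ef0f0f0f0f0f0f0f0f0f0f0f0f0f0f0f0f0f0f0f0f0f0f0f0f0f0f0f0f0f0f0f01918171615f00ff00ef0f0f0f0f0,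 0xf0f0f0f0f0f0f0f0f0f0f0f0f0f0ebf0e8f0f0f0f0e7f0f0f0f0e5e4e3e2f0f0f0f0f0f0f0f0f0f0f0f0f0f0f0f0f0f0f0f0f0f0f0f0f0f0f0f0f0f0f0f0f0f0f0f0f0f0f0f0f0f0f0f0f0f0f0f0c7c6c5c4c3c2f0f0f0f0bbbab9b8f0b1b0afaef0a9f0f0f0f0f0f0f0f0f0f0f0a8a7a6a5f0f0f0f0f0f0f0f0f0f0f0f0f0f0f0f0a3f0f0f0f0f0a2f0f0f0f0f0f0f0f0f0f0f0f0f0f0f0f0f0f0f0f0f0f0f0f0f08882f071706f6e62f0f0f0f0605f5e5df0f0f0f0f0f05b5a5958f0f0f0f0f0f0535251504f4ef0f0f0f0f0f0f0f0f0f0f0f0f0f0f0f0f0f0f0f0f0f0f0f0f0f01d1c1b1af01510f0f00ef0f0f0f0, 0xf0f0f0f0f0f0f0f0f0f0f0f0f0f0ecf0f0e8f0f0f0f0e7f0f0f0e6f0f0f0e4e3e2f0f0f0f0f0f0f0f0f0f0f0f0f0f0f0f0f0f0f0f0f0f0f0f0f0f0f0f0f0f0f0f0f0f0f0f0f0f0f0f0f0f0f0f0f0cac9c8f0f0f0c4c3c2f0bebdbcf0b8b4b3b2f0aeaaf0f0f0f0f0f0f0f0f0f0f0f0f0f0f0a8a7a6f0f0f0f0f0f0f0f0f0a4f0f0f0f0a3f0f0f0f0f0a2f0f0f0f0f0f0f0f0f0f0f0f0f0f0f0f0f0f0f0f0f0f0f0f089837ef0747372f062f0f0f061f0f0f05f5e5df0f0f05cf0f0f05a5958f0f0f0565554f0f0f0504f4ef0f0f0f0f0f0f0f0f0f0f0f0f0f0f0f0f0f0f0f0f0f0f0201f1ef01a1611f0f0f00ef0f0f0,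 0xf0f0f0f0f0f0f0f0f0f0f0f0f0f0edf0f0f0e8f0f0f0f0e7f0f0f0e6f0f0e5f0f0e3e2f0f0f0f0f0f0f0f0f0f0f0f0f0f0f0f0f0f0f0f0f0f0f0f0f0f0f0f0f0f0f0f0f0f0f0f0f0f0f0f0f0f0f0cbf0f0c9c8f0c6c5f0c2c0bff0bcb9b6b5f0b2afabf0f0f0f0f0f0f0f0f0f0f0f0f0f0f0f0f0f0a8a7f0f0f0f0a5f0f0f0a4f0f0f0f0a3f0f0f0f0f0a2f0f0f0f0f0f0f0f0f0f0f0f0f0f0f0f0f0f0f0f0f0f0f08a847f7bf07675f0f062f0f0f061f0f060f0f05e5df0f05cf0f05bf0f05958f057f0f05554f05251f04ef0f0f0f0f0f0f0f0f0f0f0f0f0f0f0f0f0f0f0f0f0f02221f01e1b1712f0f0f0f00ef0f0, 0xf0f0f0f0f0f0f0f0f0f0f0f0f0f0eef0f0f0f0e8f0f0f0f0e7f0f0f0e6f0f0e5f0e4f0e2f0f0f0f0f0f0f0f0f0f0f0f0f0f0f0f0f0f0f0f0f0f0f0f0f0f0f0f0f0f0f0f0f0f0f0f0f0f0f0f0f0f0f0cbf0caf0c8c7f0c5c3c1f0bfbdbab7f0b5b3b0acf0f0f0f0f0f0f0f0f0f0f0f0f0f0f0f0f0f0f0f0a8f0a6f0f0a5f0f0f0a4f0f0f0f0a3f0f0f0f0f0a2f0f0f0f0f0f0f0f0f0f0f0f0f0f0f0f0f0f0f0f0f0f08b85807c79f077f0f0f062f0f0f061f0f060f05ff05df0f05cf0f05bf05af058f057f056f05453f0514ff0f0f0f0f0f0f0f0f0f0f0f0f0f0f0f0f0f0f0f0f0f023f0211f1c1813f0f0f0f0f00ef0,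 0xf0f0f0f0f0f0f0f0f0f0f0f0f0f0eff0f0f0f0f0e8f0f0f0f0e7f0f0f0e6f0f0e5f0e4e3f0f0f0f0f0f0f0f0f0f0f0f0f0f0f0f0f0f0f0f0f0f0f0f0f0f0f0f0f0f0f0f0f0f0f0f0f0f0f0f0f0f0f0f0cbf0cac9f0c7c6c4f0c1c0bebbf0b7b6b4b1adf0f0f0f0f0f0f0f0f0f0f0f0f0f0f0f0f0f0f0f0f0a7f0a6f0f0a5f0f0f0a4f0f0f0f0a3f0f0f0f0f0a2f0f0f0f0f0f0f0f0f0f0f0f0f0f0f0f0f0f0f0f0f08c86817d7a78f0f0f0f0f062f0f0f061f0f060f05f5ef0f0f05cf0f05bf05a59f0f057f05655f0535250f0f0f0f0f0f0f0f0f0f0f0f0f0f0f0f0f0f0f0f0f0f0f02322201d1914f0f0f0f0f0f00e, 0xf0f0f0f0f0f0f0f0f0f0f0f0f0f0f0ebeaf0f0f0f0e9f0f0f0f0f0f0f0f0f0f0f0f0f0f0e5e4e3e2f0f0f0f0f0f0f0f0f0f0f0f0f0f0f0f0f0f0f0f0f0f0f0f0f0f0f0f0f0f0f0f0f0f0f0f0f0f0d1d0cfcecdccf0f0f0f0f0f0f0f0f0f0f0f0f0f0f0bbbab9b8f0f0b1b0afaef0adacabaaf0f0f0f0f0f0f0f0f0f0f0f0f0f0f0f0f0f0f0f0f0f0f0f0f0f0f0a4a3f0f0f0f0a2f0f0f0f0f0f0f0f0f0f0f0f0f0f0938e8df0f0f0f0f071706f6e6c6b6a69f0f0f0f0f0f066656463f0f0f0f0f0f0f0f0f0f0f0f0f0f0f0f0535251504f4ef0f0f0f0f0f0f0f0f0f0f0f0f0f0f0f027262524f0f0f015100ff0f0f0f0,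 0xf0f0f0f0f0f0f0f0f0f0f0f0f0f0f0ecf0eaf0f0f0f0e9f0f0f0f0f0f0f0f0f0f0f0f0f0e6f0f0f0e4e3e2f0f0f0f0f0f0f0f0f0f0f0f0f0f0f0f0f0f0f0f0f0f0f0f0f0f0f0f0f0f0f0f0f0f0f0d4d3d2f0f0f0cecdccf0f0f0f0f0f0f0f0f0f0f0f0bebdbcf0b8f0b4b3b2f0aef0f0f0f0adacabf0f0f0f0f0f0f0f0f0a9f0f0f0f0f0f0f0f0f0f0f0f0f0f0a5f0a3f0f0f0f0a2f0f0f0f0f0f0f0f0f0f0f0f0f0948ff08df0f0f07ef07473726df0f0f06b6a69f0f0f067f0f0f0656463f0f0f0f0f0f0f0f0f0f0f0f0f0565554f0f0f0504f4ef0f0f0f0f0f0f0f0f0f0f0f0f02a2928f024f0f01611f00ff0f0f0, 0xf0f0f0f0f0f0f0f0f0f0f0f0f0f0f0edf0f0eaf0f0f0f0e9f0f0f0f0f0f0f0f0f0f0f0f0f0e6f0f0e5f0f0e3e2f0f0f0f0f0f0f0f0f0f0f0f0f0f0f0f0f0f0f0f0f0f0f0f0f0f0f0f0f0f0f0f0f0d5f0f0d3d2f0d0cff0ccf0f0f0f0f0f0f0f0f0f0f0c0bff0bcb9f0b6b5f0b2aff0f0f0f0f0f0f0adacf0f0f0f0aaf0f0f0a9f0f0f0f0f0f0f0f0f0f0f0f0f0a6f0f0a3f0f0f0f0a2f0f0f0f0f0f0f0f0f0f0f0f09590f0f08df0f07f7bf07675f06df0f06cf0f06a69f0f067f0f066f0f06463f0f0f0f0f0f0f0f0f0f0f057f0f05554f05251f04ef0f0f0f0f0f0f0f0f0f0f0f02c2bf02825f0f01712f0f00ff0f0,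 0xf0f0f0f0f0f0f0f0f0f0f0f0f0f0f0eef0f0f0eaf0f0f0f0e9f0f0f0f0f0f0f0f0f0f0f0f0f0e6f0f0e5f0e4f0e2f0f0f0f0f0f0f0f0f0f0f0f0f0f0f0f0f0f0f0f0f0f0f0f0f0f0f0f0f0f0f0f0f0d5f0d4f0d2d1f0cfcdf0f0f0f0f0f0f0f0f0f0f0c1f0bfbdbaf0b7f0b5b3b0f0f0f0f0f0f0f0f0f0adf0abf0f0aaf0f0f0a9f0f0f0f0f0f0f0f0f0f0f0f0a7f0f0f0a3f0f0f0f0a2f0f0f0f0f0f0f0f0f0f0f09691f0f0f08df0807c79f077f0f06df0f06cf06bf069f0f067f0f066f065f063f0f0f0f0f0f0f0f0f0f0f057f056f05453f0514ff0f0f0f0f0f0f0f0f0f0f0f02df02b2926f0f01813f0f0f00ff0, 0xf0f0f0f0f0f0f0f0f0f0f0f0f0f0f0eff0f0f0f0eaf0f0f0f0e9f0f0f0f0f0f0f0f0f0f0f0f0f0e6f0f0e5f0e4e3f0f0f0f0f0f0f0f0f0f0f0f0f0f0f0f0f0f0f0f0f0f0f0f0f0f0f0f0f0f0f0f0f0f0d5f0d4d3f0d1d0cef0f0f0f0f0f0f0f0f0f0f0f0c1c0bebbf0f0b7b6b4b1f0f0f0f0f0f0f0f0f0f0acf0abf0f0aaf0f0f0a9f0f0f0f0f0f0f0f0f0f0f0a8f0f0f0f0a3f0f0f0f0a2f0f0f0f0f0f0f0f0f0f09792f0f0f0f08d817d7a78f0f0f0f06df0f06cf06b6af0f0f067f0f066f06564f0f0f0f0f0f0f0f0f0f0f0f057f05655f0535250f0f0f0f0f0f0f0f0f0f0f0f0f02d2c2a27f0f01914f0f0f0f00f,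 0xf0f0f0f0f0f0f0f0f0f0f0f0f0f0f0f0ecebf0f0f0f0f0f0f0f0e9f0f0f0f0f0f0f0f0f0e7f0f0f0f0f0f0f0f0f0e4e3e2f0f0f0f0f0f0f0f0f0f0f0f0f0f0f0f0f0f0f0f0f0f0f0f0f0f0f0f0f0d8d7d6f0f0f0f0f0f0f0cecdccf0f0f0f0f0f0f0f0c4c3c2f0f0b8f0f0f0f0f0b4b3b2f0b1b0aff0f0f0f0f0f0f0f0f0f0f0f0f0aaa9f0f0f0f0f0f0f0f0f0f0a5a4f0f0f0f0f0f0f0f0a2f0f0f0f0f0f0f0f0f098f08f8ef0f0f08382f0f0f0f0747372706f6ef0f0f068f0f0f0f0f0f0f0f0f0656463f0f0f0f0f0f0f05a5958f0f0f0f0f0f0f0504f4ef0f0f0f0f0f0f0f0f0302f2ef0f024f01af01110f0f0f0, 0xf0f0f0f0f0f0f0f0f0f0f0f0f0f0f0f0edf0ebf0f0f0f0f0f0f0f0e9f0f0f0f0f0f0f0f0f0e7f0f0f0f0f0f0f0f0e5f0f0e3e2f0f0f0f0f0f0f0f0f0f0f0f0f0f0f0f0f0f0f0f0f0f0f0f0f0f0f0d9f0f0d7d6f0f0f0f0f0d0cff0ccf0f0f0f0f0f0f0c6c5f0c2f0b9f0f0f0f0f0b6b5f0b2f0f0f0b1b0f0f0f0f0aef0f0f0f0f0f0abf0a9f0f0f0f0f0f0f0f0f0a6f0a4f0f0f0f0f0f0f0f0a2f0f0f0f0f0f0f0f099f090f08ef0f084f082f0f07bf0767571f0f06f6ef0f068f0f0f0f0f0f0f0f066f0f06463f0f0f0f0f05bf0f05958f0f0f0f0f05251f04ef0f0f0f0f0f0f0f03231f02ef025f01bf012f010f0f0],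
  [0xf0f0f0f0f0f0f0f0f0f0f0f0f0f0f0f0eef0f0ebf0f0f0f0f0f0f0f0e9f0f0f0f0f0f0f0f0f0e7f0f0f0f0f0f0f0f0e5f0e4f0e2f0f0f0f0f0f0f0f0f0f0f0f0f0f0f0f0f0f0f0f0f0f0f0f0f0f0f0d9f0d8f0d6f0f0f0f0d1f0cfcdf0f0f0f0f0f0f0c7f0c5c3f0baf0f0f0f0f0b7f0b5b3f0f0f0f0f0b1f0aff0f0aef0f0f0f0f0acf0f0a9f0f0f0f0f0f0f0f0a7f0f0a4f0f0f0f0f0f0f0f0a2f0f0f0f0f0f0f09af091f0f08ef085f0f082f07c79f077f071f070f06ef0f068f0f0f0f0f0f0f0f066f065f063f0f0f0f0f05bf05af058f0f0f0f053f0514ff0f0f0f0f0f0f0f033f0312ff026f01cf013f0f010f0, 0xf0f0f0f0f0f0f0f0f0f0f0f0f0f0f0f0eff0f0f0ebf0f0f0f0f0f0f0f0e9f0f0f0f0f0f0f0f0f0e7f0f0f0f0f0f0f0f0e5f0e4e3f0f0f0f0f0f0f0f0f0f0f0f0f0f0f0f0f0f0f0f0f0f0f0f0f0f0f0f0d9f0d8d7f0f0f0f0f0d1d0cef0f0f0f0f0f0f0f0c7c6c4f0bbf0f0f0f0f0f0b7b6b4f0f0f0f0f0f0b0f0aff0f0aef0f0f0f0adf0f0f0a9f0f0f0f0f0f0f0a8f0f0f0a4f0f0f0f0f0f0f0f0a2f0f0f0f0f0f09bf092f0f0f08e86f0f0f0827d7a78f0f0f071f0706ff0f0f068f0f0f0f0f0f0f0f066f06564f0f0f0f0f0f05bf05a59f0f0f0f0f0535250f0f0f0f0f0f0f0f0f0333230f027f01df014f0f0f010,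 0xf0f0f0f0f0f0f0f0f0f0f0f0f0f0f0f0f0edecf0f0f0f0f0f0f0f0f0f0f0e9f0f0f0f0f0f0f0f0f0e7f0f0f0f0f0e6f0f0f0f0f0e3e2f0f0f0f0f0f0f0f0f0f0f0f0f0f0f0f0f0f0f0f0f0f0f0f0daf0f0f0f0f0d7d6f0f0d3d2f0f0ccf0f0f0f0f0f0c9c8f0f0c2bcf0f0f0f0f0f0f0f0f0b6b5f0b4b3f0f0f0f0f0f0f0afaef0f0f0abaaf0f0f0f0f0f0f0f0f0f0a6a5f0f0f0f0f0f0f0f0f0f0f0a2f0f0f0f0f09cf0f0908ff0f0f08483f0f07f7ef0f0f076757372f0f0f0f0f068f0f0f0f0f067f0f0f0f0f06463f0f05cf0f0f0f0f05958f0f05554f0f04ef0f0f0f0f0f0f03534f0f02e28f01ef0f01211f0f0, 0xf0f0f0f0f0f0f0f0f0f0f0f0f0f0f0f0f0eef0ecf0f0f0f0f0f0f0f0f0f0f0e9f0f0f0f0f0f0f0f0f0e7f0f0f0f0f0e6f0f0f0f0e4f0e2f0f0f0f0f0f0f0f0f0f0f0f0f0f0f0f0f0f0f0f0f0f0f0f0daf0f0f0f0d8f0d6f0d4f0d2f0cdf0f0f0f0f0f0caf0c8f0c3bdf0f0f0f0f0f0f0f0f0b7f0b5f0f0b4f0b2f0f0f0f0b0f0aef0f0acf0aaf0f0f0f0f0f0f0f0f0a7f0a5f0f0f0f0f0f0f0f0f0f0f0a2f0f0f0f09df0f091f08ff0f085f083f080f07ef079f07774f072f0f0f0f0f068f0f0f0f0f067f0f0f0f065f063f0f05cf0f0f0f05af058f056f054f04ff0f0f0f0f0f0f036f034f02f29f01ff0f013f011f0,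 0xf0f0f0f0f0f0f0f0f0f0f0f0f0f0f0f0f0eff0f0ecf0f0f0f0f0f0f0f0f0f0f0e9f0f0f0f0f0f0f0f0f0e7f0f0f0f0f0e6f0f0f0f0e4e3f0f0f0f0f0f0f0f0f0f0f0f0f0f0f0f0f0f0f0f0f0f0f0f0f0daf0f0f0f0d8d7f0f0d4d3f0cef0f0f0f0f0f0f0cac9f0c4bef0f0f0f0f0f0f0f0f0f0b7b6f0f0f0b3f0b2f0f0f0b1f0f0aef0adf0f0aaf0f0f0f0f0f0f0f0a8f0f0a5f0f0f0f0f0f0f0f0f0f0f0a2f0f0f09ef0f092f0f08ff086f0f08381f0f07e7a78f0f07473f0f0f0f0f0f068f0f0f0f0f067f0f0f0f06564f0f0f05cf0f0f0f05a59f0f05655f050f0f0f0f0f0f0f0f03635f0302af020f0f014f0f011, 0xf0f0f0f0f0f0f0f0f0f0f0f0f0f0f0f0f0f0eeedf0f0f0f0f0f0f0f0f0f0f0f0f0e9f0f0f0f0f0f0f0f0f0e7f0f0f0f0f0e6f0f0e5f0f0e2f0f0f0f0f0f0f0f0f0f0f0f0f0f0f0f0f0f0f0f0f0f0f0f0f0daf0f0d9f0f0d6d5f0f0d2cff0f0f0f0f0f0cbf0f0c8c5bff0f0f0f0f0f0f0f0f0f0f0f0b7f0b6f0f0f0b3b2f0f0b0aff0f0f0acabf0f0f0f0f0f0f0f0f0f0a7a6f0f0f0f0f0f0f0f0f0f0f0f0f0a2f0f09ff0f0f09190f0f0f08584f0f0807ff07c7bf0f07775f0f0f0f0f0f0f068f0f0f0f0f067f0f066f0f063f0f0f05cf0f05bf0f05857f0f05451f0f0f0f0f0f0f037f0f034312bf021f0f0f01312f0,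 0xf0f0f0f0f0f0f0f0f0f0f0f0f0f0f0f0f0f0eff0edf0f0f0f0f0f0f0f0f0f0f0f0f0e9f0f0f0f0f0f0f0f0f0e7f0f0f0f0f0e6f0f0e5f0e3f0f0f0f0f0f0f0f0f0f0f0f0f0f0f0f0f0f0f0f0f0f0f0f0f0f0daf0f0d9f0d7f0d5f0d3d0f0f0f0f0f0f0f0cbf0c9c6c0f0f0f0f0f0f0f0f0f0f0f0f0f0b7f0b5f0f0b4f0b2f0b1f0aff0f0adf0abf0f0f0f0f0f0f0f0f0a8f0a6f0f0f0f0f0f0f0f0f0f0f0f0f0a2f0a0f0f0f092f090f0f086f084f081f07f7df07b78f076f0f0f0f0f0f0f0f068f0f0f0f0f067f0f066f064f0f0f0f05cf0f05bf059f057f05552f0f0f0f0f0f0f0f037f035322cf022f0f0f014f012, 0xf0f0f0f0f0f0f0f0f0f0f0f0f0f0f0f0f0f0f0efeef0f0f0f0f0f0f0f0f0f0f0f0f0f0e9f0f0f0f0f0f0f0f0f0e7f0f0f0f0f0e6f0f0e5e4f0f0f0f0f0f0f0f0f0f0f0f0f0f0f0f0f0f0f0f0f0f0f0f0f0f0f0daf0f0d9d8f0f0d5d4d1f0f0f0f0f0f0f0f0cbcac7c1f0f0f0f0f0f0f0f0f0f0f0f0f0f0f0f0b6b5f0b4b3f0f0b1b0f0f0f0adacf0f0f0f0f0f0f0f0f0f0a8a7f0f0f0f0f0f0f0f0f0f0f0f0f0f0a2a1f0f0f0f09291f0f0f08685f0f08180f07d7c7a79f0f0f0f0f0f0f0f0f0f068f0f0f0f0f067f0f06665f0f0f0f0f05cf0f05b5af0f0575653f0f0f0f0f0f0f0f0f03736332df023f0f0f0f01413,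 0xf0f0f0f0f0f0f0f0f0f0f0f0f0f0f0f0f0f0f0f0f0ecebf0f0f0eaf0f0f0f0f0f0f0f0f0e8f0f0f0f0f0f0f0f0f0f0f0f0f0f0f0f0f0f0f0e4e3e2f0f0f0f0f0f0f0f0f0f0f0f0f0f0f0f0f0f0f0dddcdbf0f0f0f0f0f0f0f0f0f0f0f0cecdccf0f0f0f0f0f0f0f0f0c4c3c2f0f0bebdbcf0bbbab9f0f0f0f0f0f0f0f0f0f0f0f0f0f0f0f0f0f0aeaaa9f0f0f0f0f0f0f0f0f0a5a4f0f0f0a3f0f0f0f0f0f0f0f0f0f0989493f0f0f08988f0f0f087f0f0f0f0f0f0f0f0f0f0747372706f6ef0f0f06b6a69f0f0f0f0f0f0f05f5e5df0f0f0f0f0f0f0f0f0f0f0f0504f4ef0f0f0f03a3938f0f0f024f01a1615f0f0f0, 0xf0f0f0f0f0f0f0f0f0f0f0f0f0f0f0f0f0f0f0f0f0edf0ebf0f0f0eaf0f0f0f0f0f0f0f0f0e8f0f0f0f0f0f0f0f0f0f0f0f0f0f0f0f0f0f0e5f0f0e3e2f0f0f0f0f0f0f0f0f0f0f0f0f0f0f0f0f0def0f0dcdbf0f0f0f0f0f0f0f0f0f0d0cff0ccf0f0f0f0f0f0f0f0c6c5f0c2f0c0bff0bcf0f0f0bbbaf0f0f0f0b8f0f0f0f0f0f0f0f0f0f0f0afabf0a9f0f0f0f0f0f0f0f0a6f0a4f0f0f0a3f0f0f0f0f0f0f0f0f09995f093f0f08af088f0f0f087f0f0f0f0f0f0f0f07bf0767571f0f06f6ef06cf0f06a69f0f0f0f0f060f0f05e5df0f0f0f0f0f0f0f0f0f05251f04ef0f0f03c3bf038f0f025f01b17f015f0f0,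 0xf0f0f0f0f0f0f0f0f0f0f0f0f0f0f0f0f0f0f0f0f0eef0f0ebf0f0f0eaf0f0f0f0f0f0f0f0f0e8f0f0f0f0f0f0f0f0f0f0f0f0f0f0f0f0f0f0e5f0e4f0e2f0f0f0f0f0f0f0f0f0f0f0f0f0f0f0f0f0def0ddf0dbf0f0f0f0f0f0f0f0f0d1f0cfcdf0f0f0f0f0f0f0f0c7f0c5c3f0c1f0bfbdf0f0f0f0f0bbf0b9f0f0b8f0f0f0f0f0f0f0f0f0f0b0acf0f0a9f0f0f0f0f0f0f0a7f0f0a4f0f0f0a3f0f0f0f0f0f0f0f09a96f0f093f08bf0f088f0f0f087f0f0f0f0f0f0f07c79f077f071f070f06ef06cf06bf069f0f0f0f0f060f05ff05df0f0f0f0f0f0f0f0f053f0514ff0f0f03df03b39f0f026f01c18f0f015f0, 0xf0f0f0f0f0f0f0f0f0f0f0f0f0f0f0f0f0f0f0f0f0eff0f0f0ebf0f0f0eaf0f0f0f0f0f0f0f0f0e8f0f0f0f0f0f0f0f0f0f0f0f0f0f0f0f0f0f0e5f0e4e3f0f0f0f0f0f0f0f0f0f0f0f0f0f0f0f0f0f0def0dddcf0f0f0f0f0f0f0f0f0f0d1d0cef0f0f0f0f0f0f0f0f0c7c6c4f0f0c1c0bef0f0f0f0f0f0baf0b9f0f0b8f0f0f0f0f0f0f0f0f0b1adf0f0f0a9f0f0f0f0f0f0a8f0f0f0a4f0f0f0a3f0f0f0f0f0f0f09b97f0f0f0938cf0f0f088f0f0f087f0f0f0f0f0f07d7a78f0f0f071f0706ff0f06cf06b6af0f0f0f0f0f060f05f5ef0f0f0f0f0f0f0f0f0f0535250f0f0f0f03d3c3af0f027f01d19f0f0f015,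 0xf0f0f0f0f0f0f0f0f0f0f0f0f0f0f0f0f0f0f0f0f0f0edecf0f0f0f0f0f0eaf0f0f0f0f0f0f0f0f0e8f0f0f0f0f0f0f0f0f0f0f0f0f0f0f0e6f0f0f0f0f0e3e2f0f0f0f0f0f0f0f0f0f0f0f0f0f0dff0f0f0f0f0dcdbf0f0f0f0f0f0f0d3d2f0f0ccf0f0f0f0f0f0f0c9c8f0f0c2f0f0f0f0c0bff0bebdf0f0f0f0f0f0f0b9b8f0f0f0f0f0f0f0b2f0abaaf0f0f0f0f0f0f0f0f0a6a5f0f0f0f0f0f0a3f0f0f0f0f0f09cf09594f0f0f08a89f0f0f0f0f0f087f0f0f0f0f07f7ef0f0f076757372f06df0f0f0f0f06a69f0f061f0f0f0f0f05e5df0f0f0f0f0f0f05554f0f04ef0f03f3ef0f038f028f01ef01716f0f0, 0xf0f0f0f0f0f0f0f0f0f0f0f0f0f0f0f0f0f0f0f0f0f0eef0ecf0f0f0f0f0f0eaf0f0f0f0f0f0f0f0f0e8f0f0f0f0f0f0f0f0f0f0f0f0f0f0f0e6f0f0f0f0e4f0e2f0f0f0f0f0f0f0f0f0f0f0f0f0f0dff0f0f0f0ddf0dbf0f0f0f0f0f0d4f0d2f0cdf0f0f0f0f0f0f0caf0c8f0c3f0f0f0f0c1f0bff0f0bef0bcf0f0f0f0baf0b8f0f0f0f0f0f0b3f0acf0aaf0f0f0f0f0f0f0f0a7f0a5f0f0f0f0f0f0a3f0f0f0f0f09df096f094f0f08bf089f0f0f0f0f0f087f0f0f0f080f07ef079f07774f072f06df0f0f0f06bf069f0f061f0f0f0f05ff05df0f0f0f0f0f056f054f04ff0f040f03ef039f029f01ff018f016f0,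 0xf0f0f0f0f0f0f0f0f0f0f0f0f0f0f0f0f0f0f0f0f0f0eff0f0ecf0f0f0f0f0f0eaf0f0f0f0f0f0f0f0f0e8f0f0f0f0f0f0f0f0f0f0f0f0f0f0f0e6f0f0f0f0e4e3f0f0f0f0f0f0f0f0f0f0f0f0f0f0f0dff0f0f0f0dddcf0f0f0f0f0f0f0d4d3f0cef0f0f0f0f0f0f0f0cac9f0c4f0f0f0f0f0c1c0f0f0f0bdf0bcf0f0f0bbf0f0b8f0f0f0f0f0b4f0adf0f0aaf0f0f0f0f0f0f0a8f0f0a5f0f0f0f0f0f0a3f0f0f0f09ef097f0f094f08cf0f089f0f0f0f0f0f087f0f0f081f0f07e7a78f0f07473f0f06df0f0f0f06b6af0f0f061f0f0f0f05f5ef0f0f0f0f0f0f05655f050f0f0f0403ff03af02af020f019f0f016, 0xf0f0f0f0f0f0f0f0f0f0f0f0f0f0f0f0f0f0f0f0f0f0f0eeedf0f0f0f0f0f0f0f0eaf0f0f0f0f0f0f0f0f0e8f0f0f0f0f0f0f0f0f0f0f0f0f0f0f0e6f0f0e5f0f0e2f0f0f0f0f0f0f0f0f0f0f0f0f0f0f0dff0f0def0f0dbf0f0f0f0f0d5f0f0d2cff0f0f0f0f0f0f0cbf0f0c8c5f0f0f0f0f0f0f0c1f0c0f0f0f0bdbcf0f0bab9f0f0f0f0f0f0b5f0f0acabf0f0f0f0f0f0f0f0f0a7a6f0f0f0f0f0f0f0f0a3f0f0f09ff0f09695f0f0f08b8af0f0f0f0f0f0f0f087f0f0f0807ff07c7bf0f07775f0f0f06df0f06cf0f069f0f0f061f0f060f0f05df0f0f0f0f057f0f05451f0f041f0f03e3bf02bf021f0f01817f0],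
  [0xf0f0f0f0f0f0f0f0f0f0f0f0f0f0f0f0f0f0f0f0f0f0f0eff0edf0f0f0f0f0f0f0f0eaf0f0f0f0f0f0f0f0f0e8f0f0f0f0f0f0f0f0f0f0f0f0f0f0f0e6f0f0e5f0e3f0f0f0f0f0f0f0f0f0f0f0f0f0f0f0f0dff0f0def0dcf0f0f0f0f0f0d5f0d3d0f0f0f0f0f0f0f0f0cbf0c9c6f0f0f0f0f0f0f0f0c1f0bff0f0bef0bcf0bbf0b9f0f0f0f0f0b6f0f0adf0abf0f0f0f0f0f0f0f0a8f0a6f0f0f0f0f0f0f0f0a3f0f0a0f0f097f095f0f08cf08af0f0f0f0f0f0f0f087f0f081f07f7df07b78f076f0f0f0f06df0f06cf06af0f0f0f061f0f060f05ef0f0f0f0f0f057f05552f0f0f041f03f3cf02cf022f0f019f017, 0xf0f0f0f0f0f0f0f0f0f0f0f0f0f0f0f0f0f0f0f0f0f0f0f0efeef0f0f0f0f0f0f0f0f0eaf0f0f0f0f0f0f0f0f0e8f0f0f0f0f0f0f0f0f0f0f0f0f0f0f0e6f0f0e5e4f0f0f0f0f0f0f0f0f0f0f0f0f0f0f0f0f0dff0f0deddf0f0f0f0f0f0f0d5d4d1f0f0f0f0f0f0f0f0f0cbcac7f0f0f0f0f0f0f0f0f0f0f0c0bff0bebdf0f0bbbaf0f0f0f0f0b7f0f0f0adacf0f0f0f0f0f0f0f0f0a8a7f0f0f0f0f0f0f0f0f0a3f0a1f0f0f09796f0f0f08c8bf0f0f0f0f0f0f0f0f087f0f08180f07d7c7a79f0f0f0f0f0f06df0f06c6bf0f0f0f0f061f0f0605ff0f0f0f0f0f0f0575653f0f0f0f041403df02df023f0f0f01918,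 0xf0f0f0f0f0f0f0f0f0f0f0f0f0f0f0f0f0f0f0f0f0f0f0f0f0f0edecf0f0ebf0f0f0f0f0f0f0f0f0f0f0f0f0f0f0e8f0f0f0f0f0f0f0f0f0e7f0f0f0f0f0f0f0f0f0e3e2f0f0f0f0f0f0f0f0f0f0e0f0f0f0f0f0f0f0f0f0dcdbf0f0f0d7d6f0f0f0ccf0f0f0f0f0f0f0f0f0f0f0c9c8f0f0c6c5f0c4c3f0f0f0f0f0f0f0f0f0f0f0bcb9b8f0f0f0b2afaef0f0f0f0f0f0f0f0f0f0f0f0f0a6a5f0f0a4f0f0f0f0f0f0f09c9998f0f0f0f0f0f0f08a89f0f088f0f0f0f0f08483f0f082f0f0f0f0f0f076757372f06f6ef0f062f0f0f0f0f0f0f0f0f05e5df0f0f05958f0f0f04ef04342f0f0f0382ef0f01e1b1af0f0, 0xf0f0f0f0f0f0f0f0f0f0f0f0f0f0f0f0f0f0f0f0f0f0f0f0f0f0eef0ecf0f0ebf0f0f0f0f0f0f0f0f0f0f0f0f0f0f0e8f0f0f0f0f0f0f0f0f0e7f0f0f0f0f0f0f0f0e4f0e2f0f0f0f0f0f0f0f0f0f0e0f0f0f0f0f0f0f0f0ddf0dbf0f0d8f0d6f0f0cdf0f0f0f0f0f0f0f0f0f0f0caf0c8f0c7f0c5f0f0c4f0c2f0f0f0f0f0f0f0f0bdbaf0b8f0f0b3b0f0aef0f0f0f0f0f0f0f0f0f0f0f0a7f0a5f0f0a4f0f0f0f0f0f09d9af098f0f0f0f0f0f08bf089f0f088f0f0f0f085f083f0f082f0f0f0f079f07774f07270f06ef0f062f0f0f0f0f0f0f0f05ff05df0f05af058f0f04ff044f042f0f0392ff0f01f1cf01af0,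 0xf0f0f0f0f0f0f0f0f0f0f0f0f0f0f0f0f0f0f0f0f0f0f0f0f0f0eff0f0ecf0f0ebf0f0f0f0f0f0f0f0f0f0f0f0f0f0f0e8f0f0f0f0f0f0f0f0f0e7f0f0f0f0f0f0f0f0e4e3f0f0f0f0f0f0f0f0f0f0f0e0f0f0f0f0f0f0f0f0dddcf0f0f0d8d7f0f0cef0f0f0f0f0f0f0f0f0f0f0f0cac9f0f0c7c6f0f0f0c3f0c2f0f0f0f0f0f0f0bebbf0f0b8f0b4b1f0f0aef0f0f0f0f0f0f0f0f0f0f0a8f0f0a5f0f0a4f0f0f0f0f09e9bf0f098f0f0f0f0f08cf0f089f0f088f0f0f086f0f083f0f082f0f0f07a78f0f07473f0706ff0f0f062f0f0f0f0f0f0f0f05f5ef0f0f05a59f0f050f0f04443f0f03a30f0f0201df0f01a, 0xf0f0f0f0f0f0f0f0f0f0f0f0f0f0f0f0f0f0f0f0f0f0f0f0f0f0f0eeedf0f0f0f0ebf0f0f0f0f0f0f0f0f0f0f0f0f0f0f0e8f0f0f0f0f0f0f0f0f0e7f0f0f0f0f0f0e5f0f0e2f0f0f0f0f0f0f0f0f0f0f0e0f0f0f0f0f0f0def0f0dbf0d9f0f0d6f0cff0f0f0f0f0f0f0f0f0f0f0cbf0f0c8f0f0f0c7f0c6f0f0f0c3c2f0f0f0f0f0bff0bab9f0f0b5f0b0aff0f0f0f0f0f0f0f0f0f0f0f0f0a7a6f0f0f0f0a4f0f0f0f09ff09a99f0f0f0f0f0f0f08b8af0f0f0f088f0f0f08584f0f0f0f082f0f07c7bf0f0777571f0f06ef0f0f062f0f0f0f0f0f060f0f05df05bf0f058f051f045f0f042f03b31f0f021f01c1bf0,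 0xf0f0f0f0f0f0f0f0f0f0f0f0f0f0f0f0f0f0f0f0f0f0f0f0f0f0f0eff0edf0f0f0f0ebf0f0f0f0f0f0f0f0f0f0f0f0f0f0f0e8f0f0f0f0f0f0f0f0f0e7f0f0f0f0f0f0e5f0e3f0f0f0f0f0f0f0f0f0f0f0f0e0f0f0f0f0f0f0def0dcf0f0d9f0d7f0d0f0f0f0f0f0f0f0f0f0f0f0f0cbf0c9f0f0f0f0c7f0c5f0f0c4f0c2f0f0f0f0c0f0bbf0b9f0b6f0b1f0aff0f0f0f0f0f0f0f0f0f0f0f0a8f0a6f0f0f0f0a4f0f0f0a0f09bf099f0f0f0f0f0f08cf08af0f0f0f088f0f086f084f0f0f0f082f07df07b78f076f071f06ff0f0f0f062f0f0f0f0f0f060f05ef0f05bf059f052f0f045f043f03c32f0f022f01df01b, 0xf0f0f0f0f0f0f0f0f0f0f0f0f0f0f0f0f0f0f0f0f0f0f0f0f0f0f0f0efeef0f0f0f0f0ebf0f0f0f0f0f0f0f0f0f0f0f0f0f0f0e8f0f0f0f0f0f0f0f0f0e7f0f0f0f0f0f0e5e4f0f0f0f0f0f0f0f0f0f0f0f0f0e0f0f0f0f0f0f0deddf0f0f0d9d8f0d1f0f0f0f0f0f0f0f0f0f0f0f0f0cbcaf0f0f0f0f0f0f0c6c5f0c4c3f0f0f0f0c1f0f0bbbaf0b7f0f0b1b0f0f0f0f0f0f0f0f0f0f0f0f0f0a8a7f0f0f0f0f0a4f0f0a1f0f09b9af0f0f0f0f0f0f08c8bf0f0f0f0f088f0f08685f0f0f0f0f082f07d7c7a79f0f0f07170f0f0f0f0f062f0f0f0f0f0f0605ff0f0f05b5af053f0f0f04544f03d33f0f023f0f01d1c,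 0xf0f0f0f0f0f0f0f0f0f0f0f0f0f0f0f0f0f0f0f0f0f0f0f0f0f0f0f0f0f0eeedf0ecf0f0f0f0f0f0f0f0f0f0f0f0f0f0f0f0f0f0e8f0f0f0f0f0f0f0f0f0e7f0f0f0e6f0f0f0e2f0f0f0f0f0f0f0f0f0f0f0f0f0e0f0f0f0dff0f0f0dbdaf0f0f0d6d2f0f0f0f0f0f0f0f0f0f0f0f0f0f0f0cbf0f0caf0c9f0f0f0f0f0f0c5c3c2f0f0bfbdbcf0f0f0b5b3b2f0f0f0f0f0f0f0f0f0f0f0f0f0f0f0f0a7a6f0a5f0f0f0f0f09f9d9cf0f0f0f0f0f0f0f0f0f08b8af089f0f0f0f0f0f08584f083f0f0807ff07ef0f0f0777572f0f0f0f0f0f062f0f0f061f0f0f05d5cf0f0f05854f046f0f0f0423e34f0f0f0211f1ef0, 0xf0f0f0f0f0f0f0f0f0f0f0f0f0f0f0f0f0f0f0f0f0f0f0f0f0f0f0f0f0f0eff0edf0ecf0f0f0f0f0f0f0f0f0f0f0f0f0f0f0f0f0f0e8f0f0f0f0f0f0f0f0f0e7f0f0f0e6f0f0e3f0f0f0f0f0f0f0f0f0f0f0f0f0f0e0f0f0f0dff0f0dcf0daf0f0d7d3f0f0f0f0f0f0f0f0f0f0f0f0f0f0f0f0cbf0f0caf0c8f0f0f0f0f0c6c4f0c2f0c0bef0bcf0f0b6b4f0b2f0f0f0f0f0f0f0f0f0f0f0f0f0f0f0a8f0a6f0a5f0f0f0f0a09ef09cf0f0f0f0f0f0f0f0f08cf08af089f0f0f0f0f086f084f083f081f07ff07ef078f07673f0f0f0f0f0f0f062f0f0f061f0f05ef05cf0f05955f0f046f0f0433f35f0f0f02220f01e,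 0xf0f0f0f0f0f0f0f0f0f0f0f0f0f0f0f0f0f0f0f0f0f0f0f0f0f0f0f0f0f0f0efeef0f0ecf0f0f0f0f0f0f0f0f0f0f0f0f0f0f0f0f0f0e8f0f0f0f0f0f0f0f0f0e7f0f0f0e6f0e4f0f0f0f0f0f0f0f0f0f0f0f0f0f0f0e0f0f0f0dff0ddf0f0daf0d8d4f0f0f0f0f0f0f0f0f0f0f0f0f0f0f0f0f0cbf0f0f0f0c9c8f0f0f0c7f0c4c3f0c1f0bebdf0f0b7f0b4b3f0f0f0f0f0f0f0f0f0f0f0f0f0f0f0f0a8a7f0f0a5f0f0f0a1f09e9df0f0f0f0f0f0f0f0f0f08c8bf0f089f0f0f0f0f08685f0f083f08180f0f07e7a79f074f0f0f0f0f0f0f0f062f0f0f061f05ff0f05cf05a56f0f0f046f0444036f0f0f023f0201f, 0xf0f0f0f0f0f0f0f0f0f0f0f0f0f0f0f0f0f0f0f0f0f0f0f0f0f0f0f0f0f0f0f0f0efeeedf0f0f0f0f0f0f0f0f0f0f0f0f0f0f0f0f0f0f0e8f0f0f0f0f0f0f0f0f0e7f0f0f0e6e5f0f0f0f0f0f0f0f0f0f0f0f0f0f0f0f0e0f0f0f0dfdef0f0f0dad9d5f0f0f0f0f0f0f0f0f0f0f0f0f0f0f0f0f0f0f0f0f0f0f0f0cac9c8f0c7c6c5f0f0c1c0bff0f0f0b7b6b5f0f0f0f0f0f0f0f0f0f0f0f0f0f0f0f0f0f0a8a7a6f0f0f0f0a1a09ff0f0f0f0f0f0f0f0f0f0f0f08c8b8af0f0f0f0f0f0f0868584f0f0f081807f7d7c7bf0f0f0f0f0f0f0f0f0f062f0f0f06160f0f0f05c5b57f0f0f0f046454137f0f0f0f0232221,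 0xf0f0f0f0f0f0f0f0f0f0f0f0f0f0f0f0f0f0f0f0f0f0f0f0f0f0f0f0f0f0f0f0f0f0f0f0edecf0f0ebf0f0f0f0f0eaf0f0f0f0f0f0f0f0f0e9f0f0f0f0f0f0f0f0f0f0f0f0f0f0e3e2f0f0f0f0f0e1f0f0f0f0f0f0f0f0f0f0f0f0f0f0f0f0f0f0f0f0dcdbf0f0f0f0d7d6f0f0f0d3d2f0f0d0cff0cecdf0f0f0f0f0f0f0f0f0f0f0f0f0f0f0f0f0f0f0f0f0f0c2bcb9b8f0f0b2afaef0f0abaaf0f0a9f0f0f0f0f0f0f0f0f0f0f0f09c9998f0f09594f0f093f0f0f0f0f0908ff0f08ef0f0f0f0f08df0f0f0f0f0f0f0f0f0f076757372f06f6ef0f06a69f0f0f06463f0f0f0f04e4847f0f0f0f0f0382e282524f0f0, 0xf0f0f0f0f0f0f0f0f0f0f0f0f0f0f0f0f0f0f0f0f0f0f0f0f0f0f0f0f0f0f0f0f0f0f0f0eef0ecf0f0ebf0f0f0f0f0eaf0f0f0f0f0f0f0f0f0e9f0f0f0f0f0f0f0f0f0f0f0f0f0e4f0e2f0f0f0f0f0e1f0f0f0f0f0f0f0f0f0f0f0f0f0f0f0f0f0f0f0ddf0dbf0f0f0d8f0d6f0f0d4f0d2f0d1f0cff0f0cef0ccf0f0f0f0f0f0f0f0f0f0f0f0f0f0f0f0f0f0f0c3bdbaf0b8f0b3b0f0aef0acf0aaf0f0a9f0f0f0f0f0f0f0f0f0f0f09d9af098f096f094f0f093f0f0f0f091f08ff0f08ef0f0f0f0f08df0f0f0f0f0f0f0f079f07774f07270f06ef06bf069f0f065f063f0f0f04f49f047f0f0f0f0392f2926f024f0,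 0xf0f0f0f0f0f0f0f0f0f0f0f0f0f0f0f0f0f0f0f0f0f0f0f0f0f0f0f0f0f0f0f0f0f0f0f0eff0f0ecf0f0ebf0f0f0f0f0eaf0f0f0f0f0f0f0f0f0e9f0f0f0f0f0f0f0f0f0f0f0f0f0e4e3f0f0f0f0f0f0e1f0f0f0f0f0f0f0f0f0f0f0f0f0f0f0f0f0f0f0dddcf0f0f0f0d8d7f0f0f0d4d3f0f0d1d0f0f0f0cdf0ccf0f0f0f0f0f0f0f0f0f0f0f0f0f0f0f0f0f0c4bebbf0f0b8b4b1f0f0aeadf0f0aaf0f0a9f0f0f0f0f0f0f0f0f0f09e9bf0f09897f0f094f0f093f0f0f092f0f08ff0f08ef0f0f0f0f08df0f0f0f0f0f0f07a78f0f07473f0706ff0f06b6af0f0f06564f0f0f050f04948f0f0f0f03a302a27f0f024, 0xf0f0f0f0f0f0f0f0f0f0f0f0f0f0f0f0f0f0f0f0f0f0f0f0f0f0f0f0f0f0f0f0f0f0f0f0f0eeedf0f0f0f0ebf0f0f0f0f0eaf0f0f0f0f0f0f0f0f0e9f0f0f0f0f0f0f0f0f0f0f0e5f0f0e2f0f0f0f0f0f0e1f0f0f0f0f0f0f0f0f0f0f0f0f0f0f0f0f0def0f0dbf0f0d9f0f0d6f0d5f0f0d2f0f0f0d1f0d0f0f0f0cdccf0f0f0f0f0f0f0f0f0f0f0f0f0f0f0f0c5bff0bab9f0b5f0b0aff0f0acabf0f0f0f0a9f0f0f0f0f0f0f0f0f09ff09a99f0f09695f0f0f0f093f0f0f09190f0f0f0f08ef0f0f0f0f08df0f0f0f0f0f07c7bf0f0777571f0f06e6cf0f069f066f0f063f0f0514af0f047f0f0f03b312bf02625f0],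
  [0xf0f0f0f0f0f0f0f0f0f0f0f0f0f0f0f0f0f0f0f0f0f0f0f0f0f0f0f0f0f0f0f0f0f0f0f0f0eff0edf0f0f0f0ebf0f0f0f0f0eaf0f0f0f0f0f0f0f0f0e9f0f0f0f0f0f0f0f0f0f0f0e5f0e3f0f0f0f0f0f0f0e1f0f0f0f0f0f0f0f0f0f0f0f0f0f0f0f0f0def0dcf0f0f0d9f0d7f0f0d5f0d3f0f0f0f0d1f0cff0f0cef0ccf0f0f0f0f0f0f0f0f0f0f0f0f0f0f0c6c0f0bbf0b9b6f0b1f0aff0adf0abf0f0f0f0a9f0f0f0f0f0f0f0f0a0f09bf099f097f095f0f0f0f093f0f092f090f0f0f0f08ef0f0f0f0f08df0f0f0f0f07df07b78f076f071f06ff06cf06af0f066f064f0f052f04af048f0f0f03c322cf027f025, 0xf0f0f0f0f0f0f0f0f0f0f0f0f0f0f0f0f0f0f0f0f0f0f0f0f0f0f0f0f0f0f0f0f0f0f0f0f0f0efeef0f0f0f0f0ebf0f0f0f0f0eaf0f0f0f0f0f0f0f0f0e9f0f0f0f0f0f0f0f0f0f0f0e5e4f0f0f0f0f0f0f0f0e1f0f0f0f0f0f0f0f0f0f0f0f0f0f0f0f0f0deddf0f0f0f0d9d8f0f0f0d5d4f0f0f0f0f0f0f0d0cff0cecdf0f0f0f0f0f0f0f0f0f0f0f0f0f0f0c7c1f0f0bbbab7f0f0b1b0f0f0adacf0f0f0f0f0a9f0f0f0f0f0f0f0a1f0f09b9af0f09796f0f0f0f0f093f0f09291f0f0f0f0f08ef0f0f0f0f08df0f0f0f0f07d7c7a79f0f0f07170f0f06c6bf0f0f06665f0f053f0f04a49f0f0f03d332df0f02726,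 0xf0f0f0f0f0f0f0f0f0f0f0f0f0f0f0f0f0f0f0f0f0f0f0f0f0f0f0f0f0f0f0f0f0f0f0f0f0f0f0f0eeedf0ecf0f0f0f0f0f0f0f0eaf0f0f0f0f0f0f0f0f0e9f0f0f0f0f0f0f0f0e6f0f0f0e2f0f0f0f0f0f0f0f0e1f0f0f0f0f0f0f0f0f0f0f0f0f0f0dff0f0f0dbf0daf0f0f0d6f0f0f0f0d5f0f0d4f0d3f0f0f0f0f0f0cfcdccf0f0f0f0f0f0f0f0f0f0f0f0c8f0bfbdbcf0f0b5b3b2f0f0f0f0f0acabf0aaf0f0f0f0f0f0f0f0f0f09f9d9cf0f0f0f0f09695f094f0f0f0f0f0f09190f08ff0f0f0f0f0f0f0f08df0f0f0807ff07ef0f0f07775726df0f0f06967f0f0f063f0544bf0f0f047f0f03e34f02b2928f0, 0xf0f0f0f0f0f0f0f0f0f0f0f0f0f0f0f0f0f0f0f0f0f0f0f0f0f0f0f0f0f0f0f0f0f0f0f0f0f0f0f0eff0edf0ecf0f0f0f0f0f0f0f0eaf0f0f0f0f0f0f0f0f0e9f0f0f0f0f0f0f0f0e6f0f0e3f0f0f0f0f0f0f0f0f0e1f0f0f0f0f0f0f0f0f0f0f0f0f0f0dff0f0dcf0f0daf0f0d7f0f0f0f0f0d5f0f0d4f0d2f0f0f0f0f0d0cef0ccf0f0f0f0f0f0f0f0f0f0f0c9f0c0bef0bcf0b6b4f0b2f0f0f0f0adf0abf0aaf0f0f0f0f0f0f0f0f0a09ef09cf0f0f0f097f095f094f0f0f0f0f092f090f08ff0f0f0f0f0f0f0f08df0f081f07ff07ef078f07673f06df0f06af067f0f064f055f04bf0f048f0f03f35f02c2af028,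 0xf0f0f0f0f0f0f0f0f0f0f0f0f0f0f0f0f0f0f0f0f0f0f0f0f0f0f0f0f0f0f0f0f0f0f0f0f0f0f0f0f0efeef0f0ecf0f0f0f0f0f0f0f0eaf0f0f0f0f0f0f0f0f0e9f0f0f0f0f0f0f0f0e6f0e4f0f0f0f0f0f0f0f0f0f0e1f0f0f0f0f0f0f0f0f0f0f0f0f0f0dff0ddf0f0f0daf0d8f0f0f0f0f0f0d5f0f0f0f0d3d2f0f0f0d1f0cecdf0f0f0f0f0f0f0f0f0f0f0caf0c1f0bebdf0b7f0b4b3f0f0f0f0f0adacf0f0aaf0f0f0f0f0f0f0f0a1f09e9df0f0f0f0f09796f0f094f0f0f0f0f09291f0f08ff0f0f0f0f0f0f0f08df0f08180f0f07e7a79f074f0f06df06bf0f067f065f056f0f04bf049f0f04036f02df02a29, 0xf0f0f0f0f0f0f0f0f0f0f0f0f0f0f0f0f0f0f0f0f0f0f0f0f0f0f0f0f0f0f0f0f0f0f0f0f0f0f0f0f0f0f0efeeedf0f0f0f0f0f0f0f0f0eaf0f0f0f0f0f0f0f0f0e9f0f0f0f0f0f0f0f0e6e5f0f0f0f0f0f0f0f0f0f0f0e1f0f0f0f0f0f0f0f0f0f0f0f0f0f0dfdef0f0f0f0dad9f0f0f0f0f0f0f0f0f0f0f0f0f0d4d3d2f0d1d0cff0f0f0f0f0f0f0f0f0f0f0cbf0f0c1c0bff0f0b7b6b5f0f0f0f0f0f0f0adacabf0f0f0f0f0f0f0f0f0a1a09ff0f0f0f0f0f0f0979695f0f0f0f0f0f0f0929190f0f0f0f0f0f0f0f0f08df0f0f081807f7d7c7bf0f0f0f06d6cf0f0f06766f057f0f0f04b4af0f04137f0f02d2c2b,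 0xf0f0f0f0f0f0f0f0f0f0f0f0f0f0f0f0f0f0f0f0f0f0f0f0f0f0f0f0f0f0f0f0f0f0f0f0f0f0f0f0f0f0f0f0f0f0eeedf0ecf0f0ebf0f0f0f0f0f0f0f0f0f0f0f0f0e9f0f0f0f0e7f0f0f0f0e2f0f0f0f0f0f0f0f0f0f0f0e1f0f0f0f0f0f0f0f0f0f0e0f0f0f0f0dbf0f0f0f0f0daf0f0f0d9f0f0d8f0d7f0f0f0f0f0f0f0f0f0f0d2cfcdccf0f0f0f0f0f0f0f0c8c5c3c2f0f0f0f0f0f0b5b3b2f0b0aff0aef0f0f0f0f0f0f0f0f0f0f0f0f0f09f9d9cf09a99f098f0f0f0f0f0f0f0f0f0f0f0f09190f08ff0f08ef0f0f08584f083f0f082f0f0f0f07775726e68f0f0f0f063584cf0f0f0f047f042f034312f2ef0, 0xf0f0f0f0f0f0f0f0f0f0f0f0f0f0f0f0f0f0f0f0f0f0f0f0f0f0f0f0f0f0f0f0f0f0f0f0f0f0f0f0f0f0f0f0f0f0eff0edf0ecf0f0ebf0f0f0f0f0f0f0f0f0f0f0f0f0e9f0f0f0f0e7f0f0f0e3f0f0f0f0f0f0f0f0f0f0f0f0e1f0f0f0f0f0f0f0f0f0f0e0f0f0f0dcf0f0f0f0f0f0daf0f0f0d9f0f0d8f0d6f0f0f0f0f0f0f0f0f0d3d0cef0ccf0f0f0f0f0f0f0c9c6c4f0c2f0f0f0f0f0b6b4f0b2b1f0aff0aef0f0f0f0f0f0f0f0f0f0f0f0f0a09ef09c9bf099f098f0f0f0f0f0f0f0f0f0f0f092f090f08ff0f08ef0f086f084f083f0f082f0f078f076736ff068f0f0f06459f04cf0f0f048f043f0353230f02e,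 0xf0f0f0f0f0f0f0f0f0f0f0f0f0f0f0f0f0f0f0f0f0f0f0f0f0f0f0f0f0f0f0f0f0f0f0f0f0f0f0f0f0f0f0f0f0f0f0efeef0f0ecf0f0ebf0f0f0f0f0f0f0f0f0f0f0f0f0e9f0f0f0f0e7f0f0e4f0f0f0f0f0f0f0f0f0f0f0f0f0e1f0f0f0f0f0f0f0f0f0f0e0f0f0ddf0f0f0f0f0f0f0daf0f0f0d9f0f0f0f0d7d6f0f0f0f0f0f0f0d4d1f0cecdf0f0f0f0f0f0f0cac7f0c4c3f0f0f0f0f0b7f0b4b3f0b1b0f0f0aef0f0f0f0f0f0f0f0f0f0f0f0a1f09e9df09b9af0f098f0f0f0f0f0f0f0f0f0f0f09291f0f08ff0f08ef0f08685f0f083f0f082f07a79f07470f0f068f0f0655af0f04cf0f049f044f03633f0302f, 0xf0f0f0f0f0f0f0f0f0f0f0f0f0f0f0f0f0f0f0f0f0f0f0f0f0f0f0f0f0f0f0f0f0f0f0f0f0f0f0f0f0f0f0f0f0f0f0f0f0efeeedf0f0f0ebf0f0f0f0f0f0f0f0f0f0f0f0f0e9f0f0f0f0e7f0e5f0f0f0f0f0f0f0f0f0f0f0f0f0f0e1f0f0f0f0f0f0f0f0f0f0e0f0def0f0f0f0f0f0f0f0daf0f0f0f0f0f0f0f0f0d8d7d6f0f0f0f0d5f0d1d0cff0f0f0f0f0f0f0cbf0c7c6c5f0f0f0f0f0f0b7b6b5f0f0f0b1b0aff0f0f0f0f0f0f0f0f0f0f0f0f0a1a09ff0f0f09b9a99f0f0f0f0f0f0f0f0f0f0f0f0f0929190f0f0f08ef0f0f0868584f0f0f0827d7c7bf071f0f0f068f0665bf0f0f04cf04af045f037f0333231,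 0xf0f0f0f0f0f0f0f0f0f0f0f0f0f0f0f0f0f0f0f0f0f0f0f0f0f0f0f0f0f0f0f0f0f0f0f0f0f0f0f0f0f0f0f0f0f0f0f0f0f0f0f0efeeedecf0f0f0f0f0f0f0f0f0f0f0f0f0f0e9f0f0f0f0e7e6f0f0f0f0f0f0f0f0f0f0f0f0f0f0f0e1f0f0f0f0f0f0f0f0f0f0e0dff0f0f0f0f0f0f0f0f0f0f0f0f0f0f0f0f0f0f0f0f0d9d8d7d6f0d5d4d3d2f0f0f0f0f0f0f0f0cbcac9c8f0f0f0f0f0f0f0f0f0b7b6b5b4b3b2f0f0f0f0f0f0f0f0f0f0f0f0f0f0f0f0a1a09f9e9d9cf0f0f0f0f0f0f0f0f0f0f0f0f0f0f0f09291908ff0f0f0f0f0f08685848381807f7ef0f0f0f0f068675cf0f0f0f04c4bf046f0f037363534, 0xf0f0f0f0f0f0f0f0f0f0f0f0f0f0f0f0f0f0f0f0f0f0f0f0f0f0f0f0f0f0f0f0f0f0f0f0f0f0f0f0f0f0f0f0f0f0f0f0f0f0f0f0f0f0f0f0eeedf0ecf0f0ebf0f0f0eaf0f0f0f0e8f0f0f0f0f0e2f0f0f0f0f0f0f0f0f0f0f0f0f0f0f0e1f0f0f0f0f0f0f0f0f0f0f0e0f0f0f0f0dff0f0f0def0f0ddf0dcf0f0f0f0f0f0f0f0f0f0f0f0f0f0f0d6d2cfcdccf0f0f0f0f0f0f0c8c5c3c2f0bfbdbcf0bab9f0b8f0f0f0f0f0f0f0f0f0f0f0f0f0f0f0f0f0f0f0f0f0f0f0f09f9d9cf09a99f098f0f09695f094f0f093f0f0f08b8af089f0f088f0f0f087f0f0f0f0f07775726e695d4df0f0f0f0f047f0423e3b3938f0,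 0xf0f0f0f0f0f0f0f0f0f0f0f0f0f0f0f0f0f0f0f0f0f0f0f0f0f0f0f0f0f0f0f0f0f0f0f0f0f0f0f0f0f0f0f0f0f0f0f0f0f0f0f0f0f0f0f0eff0edf0ecf0f0ebf0f0f0eaf0f0f0f0e8f0f0f0f0e3f0f0f0f0f0f0f0f0f0f0f0f0f0f0f0f0e1f0f0f0f0f0f0f0f0f0f0f0e0f0f0f0f0dff0f0f0def0f0ddf0dbf0f0f0f0f0f0f0f0f0f0f0f0f0f0d7d3d0cef0ccf0f0f0f0f0f0c9c6c4f0c2c0bef0bcbbf0b9f0b8f0f0f0f0f0f0f0f0f0f0f0f0f0f0f0f0f0f0f0f0f0f0f0a09ef09c9bf099f098f097f095f094f0f093f0f08cf08af089f0f088f0f0f087f0f0f078f076736f6a5ef04df0f0f0f048f0433f3c3af038, 0xf0f0f0f0f0f0f0f0f0f0f0f0f0f0f0f0f0f0f0f0f0f0f0f0f0f0f0f0f0f0f0f0f0f0f0f0f0f0f0f0f0f0f0f0f0f0f0f0f0f0f0f0f0f0f0f0f0efeef0f0ecf0f0ebf0f0f0eaf0f0f0f0e8f0f0f0e4f0f0f0f0f0f0f0f0f0f0f0f0f0f0f0f0f0e1f0f0f0f0f0f0f0f0f0f0f0e0f0f0f0f0dff0f0f0def0f0f0f0dcdbf0f0f0f0f0f0f0f0f0f0f0f0d8d4d1f0cecdf0f0f0f0f0f0cac7f0c4c3c1f0bebdf0bbbaf0f0b8f0f0f0f0f0f0f0f0f0f0f0f0f0f0f0f0f0f0f0f0f0f0a1f09e9df09b9af0f098f09796f0f094f0f093f0f08c8bf0f089f0f088f0f0f087f0f07a79f074706b5ff0f04df0f0f049f044403df03a39,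 0xf0f0f0f0f0f0f0f0f0f0f0f0f0f0f0f0f0f0f0f0f0f0f0f0f0f0f0f0f0f0f0f0f0f0f0f0f0f0f0f0f0f0f0f0f0f0f0f0f0f0f0f0f0f0f0f0f0f0f0efeeedf0f0f0ebf0f0f0eaf0f0f0f0e8f0f0e5f0f0f0f0f0f0f0f0f0f0f0f0f0f0f0f0f0f0e1f0f0f0f0f0f0f0f0f0f0f0e0f0f0f0f0dff0f0f0f0f0f0f0f0f0dddcdbf0f0f0f0f0f0f0f0f0d9d5f0d1d0cff0f0f0f0f0f0cbf0c7c6c5f0c1c0bff0f0f0bbbab9f0f0f0f0f0f0f0f0f0f0f0f0f0f0f0f0f0f0f0f0f0f0f0a1a09ff0f0f09b9a99f0f0f0979695f0f0f093f0f0f08c8b8af0f0f088f0f0f087f07d7c7bf0716c60f0f0f04df0f04af04541f03d3c3b, 0xf0f0f0f0f0f0f0f0f0f0f0f0f0f0f0f0f0f0f0f0f0f0f0f0f0f0f0f0f0f0f0f0f0f0f0f0f0f0f0f0f0f0f0f0f0f0f0f0f0f0f0f0f0f0f0f0f0f0f0f0f0f0efeeedecf0f0f0f0eaf0f0f0f0e8f0e6f0f0f0f0f0f0f0f0f0f0f0f0f0f0f0f0f0f0f0e1f0f0f0f0f0f0f0f0f0f0f0e0f0f0f0f0f0f0f0f0f0f0f0f0f0f0f0f0dedddcdbf0f0f0f0f0daf0d5d4d3d2f0f0f0f0f0f0f0cbcac9c8f0f0f0f0c1c0bfbebdbcf0f0f0f0f0f0f0f0f0f0f0f0f0f0f0f0f0f0f0f0f0f0f0f0f0f0a1a09f9e9d9cf0f0f0f0f0f097969594f0f0f0f0f0f08c8b8a89f0f0f0f08781807f7ef06d61f0f0f0f04df04bf046f041403f3e],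
  [0xf0f0f0f0f0f0f0f0f0f0f0f0f0f0f0f0f0f0f0f0f0f0f0f0f0f0f0f0f0f0f0f0f0f0f0f0f0f0f0f0f0f0f0f0f0f0f0f0f0f0f0f0f0f0f0f0f0f0f0f0f0f0f0f0f0f0efeeedecebf0f0f0f0f0e8e7f0f0f0f0f0f0f0f0f0f0f0f0f0f0f0f0f0f0f0f0e1f0f0f0f0f0f0f0f0f0f0f0f0f0f0f0f0f0f0f0f0f0f0f0f0f0f0f0f0f0f0f0dfdedddcdbf0dad9d8d7d6f0f0f0f0f0f0f0f0f0f0f0cbcac9c8c7c6c5c4c3c2f0f0f0f0f0f0f0f0f0f0f0f0f0f0f0f0f0f0f0f0f0f0f0f0f0f0f0f0f0f0f0f0a1a09f9e9d9c9b9a9998f0f0f0f0f0f0f0f0f0f08c8b8a89888685848382f062f0f0f0f0f04d4cf0f04645444342, 0xf0f0f0f0f0f0f0f0f0f0f0f0f0f0f0f0f0f0f0f0f0f0f0f0f0f0f0f0f0f0f0f0f0f0f0f0f0f0f0f0f0f0f0f0f0f0f0f0f0f0f0f0f0f0f0f0f0f0f0f0f0f0f0f0f0f0f0f0f0f0f0efeeedecebeae9f0f0f0f0f0f0f0f0f0f0f0f0f0f0f0f0f0f0f0f0f0f0f0f0f0f0f0f0f0f0f0f0f0f0f0f0f0f0f0f0f0f0f0f0f0f0f0f0f0f0f0f0f0f0f0f0f0f0f0f0f0f0f0e0dfdedddcdbdad9d8d7d6d5d4d3d2d1d0cfcecdccf0f0f0f0f0f0f0f0f0f0f0f0f0f0f0f0f0f0f0f0f0f0f0f0f0f0f0f0f0f0f0f0f0f0f0f0f0f0f0f0f0f0a1a09f9e9d9c9b9a999897969594939291908f8e8df0f0f0f0f0f0f0f04d4c4b4a494847,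 0xf0f0f0f0f0f0f0f0f0f0f0f0f0f0f0f0f0f0f0f0f0f0f0f0f0f0f0f0f0f0f0f0f0f0f0f0f0f0f0f0f0f0f0f0f0f0f0f0f0f0f0f0f0f0f0f0f0f0f0f0f0f0f0f0f0f0f0f0f0f0f0f0f0f0f0f0f0f0eeedf0ecf0f0ebf0f0f0eaf0f0f0f0e9f0f0f0f0f0e8f0f0f0f0f0e7f0f0f0f0e6f0f0f0e5f0f0e4f0e3f0f0f0f0f0f0f0f0f0f0f0f0f0f0f0f0f0f0f0f0f0f0f0f0f0f0f0f0f0f0f0f0f0f0f0f0f0f0f0f0f0f0dbd6d2cfcdccf0c8c5c3c2f0bfbdbcf0bab9f0b8f0f0b5b3b2f0b0aff0aef0f0acabf0aaf0f0a9f0f0f0a7a6f0a5f0f0a4f0f0f0a3f0f0f0f0a2f0f0f0f0f0f0f07775726e69635d5854514f4ef0, 0xf0f0f0f0f0f0f0f0f0f0f0f0f0f0f0f0f0f0f0f0f0f0f0f0f0f0f0f0f0f0f0f0f0f0f0f0f0f0f0f0f0f0f0f0f0f0f0f0f0f0f0f0f0f0f0f0f0f0f0f0f0f0f0f0f0f0f0f0f0f0f0f0f0f0f0f0f0f0eff0edf0ecf0f0ebf0f0f0eaf0f0f0f0e9f0f0f0f0f0e8f0f0f0f0f0e7f0f0f0f0e6f0f0f0e5f0f0e4f0e2f0f0f0f0f0f0f0f0f0f0f0f0f0f0f0f0f0f0f0f0f0f0f0f0f0f0f0f0f0f0f0f0f0f0f0f0f0f0f0f0f0dcd7d3d0cef0ccc9c6c4f0c2c0bef0bcbbf0b9f0b8f0b6b4f0b2b1f0aff0aef0adf0abf0aaf0f0a9f0f0a8f0a6f0a5f0f0a4f0f0f0a3f0f0f0f0a2f0f0f0f0f078f076736f6a645e59555250f04e,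 0xf0f0f0f0f0f0f0f0f0f0f0f0f0f0f0f0f0f0f0f0f0f0f0f0f0f0f0f0f0f0f0f0f0f0f0f0f0f0f0f0f0f0f0f0f0f0f0f0f0f0f0f0f0f0f0f0f0f0f0f0f0f0f0f0f0f0f0f0f0f0f0f0f0f0f0f0f0f0f0efeef0f0ecf0f0ebf0f0f0eaf0f0f0f0e9f0f0f0f0f0e8f0f0f0f0f0e7f0f0f0f0e6f0f0f0e5f0f0f0f0e3e2f0f0f0f0f0f0f0f0f0f0f0f0f0f0f0f0f0f0f0f0f0f0f0f0f0f0f0f0f0f0f0f0f0f0f0f0f0f0f0ddd8d4d1f0cecdcac7f0c4c3c1f0bebdf0bbbaf0f0b8b7f0b4b3f0b1b0f0f0aef0adacf0f0aaf0f0a9f0f0a8a7f0f0a5f0f0a4f0f0f0a3f0f0f0f0a2f0f0f0f07a79f074706b655f5a5653f0504f, 0xf0f0f0f0f0f0f0f0f0f0f0f0f0f0f0f0f0f0f0f0f0f0f0f0f0f0f0f0f0f0f0f0f0f0f0f0f0f0f0f0f0f0f0f0f0f0f0f0f0f0f0f0f0f0f0f0f0f0f0f0f0f0f0f0f0f0f0f0f0f0f0f0f0f0f0f0f0f0f0f0f0efeeedf0f0f0ebf0f0f0eaf0f0f0f0e9f0f0f0f0f0e8f0f0f0f0f0e7f0f0f0f0e6f0f0f0f0f0f0f0f0f0e4e3e2f0f0f0f0f0f0f0f0f0f0f0f0f0f0f0f0f0f0f0f0f0f0f0f0f0f0f0f0f0f0f0f0f0f0f0f0ded9d5f0d1d0cfcbf0c7c6c5f0c1c0bff0f0f0bbbab9f0b7b6b5f0f0f0b1b0aff0f0f0adacabf0f0f0a9f0f0f0a8a7a6f0f0f0a4f0f0f0a3f0f0f0f0a2f0f0f07d7c7bf0716c66605b57f0535251,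 0xf0f0f0f0f0f0f0f0f0f0f0f0f0f0f0f0f0f0f0f0f0f0f0f0f0f0f0f0f0f0f0f0f0f0f0f0f0f0f0f0f0f0f0f0f0f0f0f0f0f0f0f0f0f0f0f0f0f0f0f0f0f0f0f0f0f0f0f0f0f0f0f0f0f0f0f0f0f0f0f0f0f0f0f0efeeedecf0f0f0f0eaf0f0f0f0e9f0f0f0f0f0e8f0f0f0f0f0e7f0f0f0f0f0f0f0f0f0f0f0f0f0f0f0f0e5e4e3e2f0f0f0f0f0f0f0f0f0f0f0f0f0f0f0f0f0f0f0f0f0f0f0f0f0f0f0f0f0f0f0f0dfdaf0d5d4d3d2f0cbcac9c8f0f0f0f0c1c0bfbebdbcf0f0f0f0b7b6b5b4b3b2f0f0f0f0f0f0adacabaaf0f0f0f0f0f0a8a7a6a5f0f0f0f0a3f0f0f0f0a2f0f081807f7ef06d67615cf057565554, 0xf0f0f0f0f0f0f0f0f0f0f0f0f0f0f0f0f0f0f0f0f0f0f0f0f0f0f0f0f0f0f0f0f0f0f0f0f0f0f0f0f0f0f0f0f0f0f0f0f0f0f0f0f0f0f0f0f0f0f0f0f0f0f0f0f0f0f0f0f0f0f0f0f0f0f0f0f0f0f0f0f0f0f0f0f0f0f0f0efeeedecebf0f0f0f0f0e9f0f0f0f0f0e8f0f0f0f0f0f0f0f0f0f0f0f0f0f0f0f0f0f0f0f0f0f0f0f0f0e6e5e4e3e2f0f0f0f0f0f0f0f0f0f0f0f0f0f0f0f0f0f0f0f0f0f0f0f0f0f0f0e0f0dad9d8d7d6f0f0f0f0f0cbcac9c8c7c6c5c4c3c2f0f0f0f0f0f0f0f0f0f0b7b6b5b4b3b2b1b0afaef0f0f0f0f0f0f0f0f0f0a8a7a6a5a4f0f0f0f0f0a2f08685848382f06862f05c5b5a5958,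 0xf0f0f0f0f0f0f0f0f0f0f0f0f0f0f0f0f0f0f0f0f0f0f0f0f0f0f0f0f0f0f0f0f0f0f0f0f0f0f0f0f0f0f0f0f0f0f0f0f0f0f0f0f0f0f0f0f0f0f0f0f0f0f0f0f0f0f0f0f0f0f0f0f0f0f0f0f0f0f0f0f0f0f0f0f0f0f0f0f0f0f0f0f0efeeedecebeaf0f0f0f0f0f0f0f0f0f0f0f0f0f0f0f0f0f0f0f0f0f0f0f0f0f0f0f0f0f0f0f0f0f0f0f0e7e6e5e4e3e2f0f0f0f0f0f0f0f0f0f0f0f0f0f0f0f0f0f0f0f0f0f0e0dfdedddcdbf0f0f0f0f0f0f0f0f0f0f0f0f0f0f0cbcac9c8c7c6c5c4c3c2c1c0bfbebdbcbbbab9b8f0f0f0f0f0f0f0f0f0f0f0f0f0f0f0a8a7a6a5a4a3f08c8b8a898887f0f06261605f5e5d, 0xf0f0f0f0f0f0f0f0f0f0f0f0f0f0f0f0f0f0f0f0f0f0f0f0f0f0f0f0f0f0f0f0f0f0f0f0f0f0f0f0f0f0f0f0f0f0f0f0f0f0f0f0f0f0f0f0f0f0f0f0f0f0f0f0f0f0f0f0f0f0f0f0f0f0f0f0f0f0f0f0f0f0f0f0f0f0f0f0f0f0f0f0f0f0f0f0f0f0f0efeeedecebeaf0f0f0f0f0f0f0f0f0f0f0f0f0f0f0f0f0f0f0f0f0f0f0f0f0f0f0f0f0f0f0f0f0f0f0f0e7e6e5e4e3e2f0f0f0f0f0f0f0f0f0f0f0f0f0f0f0e1f0f0f0f0f0f0dad9d8d7d6d5d4d3d2d1d0cfcecdccf0f0f0f0f0f0f0f0f0f0f0f0f0f0f0f0f0f0f0f0b7b6b5b4b3b2b1b0afaeadacabaaa9f0f0f0f0f0f0a29291908f8e8df0f0686766656463,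 0xf0f0f0f0f0f0f0f0f0f0f0f0f0f0f0f0f0f0f0f0f0f0f0f0f0f0f0f0f0f0f0f0f0f0f0f0f0f0f0f0f0f0f0f0f0f0f0f0f0f0f0f0f0f0f0f0f0f0f0f0f0f0f0f0f0f0f0f0f0f0f0f0f0f0f0f0f0f0f0f0f0f0f0f0f0f0f0f0f0f0f0f0f0f0f0f0f0f0f0f0f0f0f0f0f0efeeedecebf0f0f0f0f0f0f0f0f0f0f0f0f0f0f0f0f0f0f0f0f0f0f0f0f0e9f0f0f0f0f0e8f0f0f0f0f0e6e5e4e3e2f0f0f0f0f0f0f0f0f0f0f0e1f0f0f0f0f0dfdedddcdbf0f0f0f0f0f0f0f0f0f0d5d4d3d2d1d0cfcecdccf0f0f0f0f0f0f0f0f0f0c1c0bfbebdbcbbbab9b8f0f0f0f0f0adacabaaa9f0a39796959493f08d87f06d6c6b6a69, 0xf0f0f0f0f0f0f0f0f0f0f0f0f0f0f0f0f0f0f0f0f0f0f0f0f0f0f0f0f0f0f0f0f0f0f0f0f0f0f0f0f0f0f0f0f0f0f0f0f0f0f0f0f0f0f0f0f0f0f0f0f0f0f0f0f0f0f0f0f0f0f0f0f0f0f0f0f0f0f0f0f0f0f0f0f0f0f0f0f0f0f0f0f0f0f0f0f0f0f0f0f0f0f0f0f0f0f0f0f0f0efeeedecf0f0f0f0f0f0f0f0f0f0f0f0f0f0f0f0eaf0f0f0f0f0e9f0f0f0f0f0e8f0f0f0f0e7f0f0f0f0e5e4e3e2f0f0f0f0f0f0f0f0e1f0f0f0f0e0f0f0f0f0dedddcdbf0f0f0f0f0f0d9d8d7d6f0f0f0f0f0f0d1d0cfcecdccf0f0f0f0c7c6c5c4c3c2f0f0f0f0bbbab9b8f0b1b0afaef0a9a49b9a9998f0938e8882f071706f6e,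 0xf0f0f0f0f0f0f0f0f0f0f0f0f0f0f0f0f0f0f0f0f0f0f0f0f0f0f0f0f0f0f0f0f0f0f0f0f0f0f0f0f0f0f0f0f0f0f0f0f0f0f0f0f0f0f0f0f0f0f0f0f0f0f0f0f0f0f0f0f0f0f0f0f0f0f0f0f0f0f0f0f0f0f0f0f0f0f0f0f0f0f0f0f0f0f0f0f0f0f0f0f0f0f0f0f0f0f0f0f0f0f0f0f0f0efeeedf0f0f0f0f0f0f0f0f0ebf0f0f0f0eaf0f0f0f0f0e9f0f0f0f0f0e8f0f0f0f0e7f0f0f0e6f0f0f0e4e3e2f0f0f0f0f0f0e1f0f0f0f0e0f0f0f0dff0f0f0dddcdbf0f0f0daf0f0f0d8d7d6f0f0f0d4d3d2f0f0f0cecdccf0cac9c8f0f0f0c4c3c2f0bebdbcf0b8b4b3b2f0aeaaa59e9d9cf098948f89837ef0747372, 0xf0f0f0f0f0f0f0f0f0f0f0f0f0f0f0f0f0f0f0f0f0f0f0f0f0f0f0f0f0f0f0f0f0f0f0f0f0f0f0f0f0f0f0f0f0f0f0f0f0f0f0f0f0f0f0f0f0f0f0f0f0f0f0f0f0f0f0f0f0f0f0f0f0f0f0f0f0f0f0f0f0f0f0f0f0f0f0f0f0f0f0f0f0f0f0f0f0f0f0f0f0f0f0f0f0f0f0f0f0f0f0f0f0f0f0f0f0efeef0f0f0f0ecf0f0f0ebf0f0f0f0eaf0f0f0f0f0e9f0f0f0f0f0e8f0f0f0f0e7f0f0f0e6f0f0e5f0f0e3e2f0f0f0f0f0e1f0f0f0f0e0f0f0f0dff0f0def0f0dcdbf0f0daf0f0d9f0f0d7d6f0d5f0f0d3d2f0d0cff0cccbf0f0c9c8f0c6c5f0c2c0bff0bcb9b6b5f0b2afaba6a09ff09c9995908a847f7bf07675,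 0xf0f0f0f0f0f0f0f0f0f0f0f0f0f0f0f0f0f0f0f0f0f0f0f0f0f0f0f0f0f0f0f0f0f0f0f0f0f0f0f0f0f0f0f0f0f0f0f0f0f0f0f0f0f0f0f0f0f0f0f0f0f0f0f0f0f0f0f0f0f0f0f0f0f0f0f0f0f0f0f0f0f0f0f0f0f0f0f0f0f0f0f0f0f0f0f0f0f0f0f0f0f0f0f0f0f0f0f0f0f0f0f0f0f0f0f0f0f0f0eff0edf0f0ecf0f0f0ebf0f0f0f0eaf0f0f0f0f0e9f0f0f0f0f0e8f0f0f0f0e7f0f0f0e6f0f0e5f0e4f0e2f0f0f0f0f0e1f0f0f0f0e0f0f0f0dff0f0def0ddf0dbf0f0daf0f0d9f0d8f0d6f0d5f0d4f0d2d1f0cfcdf0cbf0caf0c8c7f0c5c3c1f0bfbdbab7f0b5b3b0aca7a1f09f9d9a96918b85807c79f077, 0xf0f0f0f0f0f0f0f0f0f0f0f0f0f0f0f0f0f0f0f0f0f0f0f0f0f0f0f0f0f0f0f0f0f0f0f0f0f0f0f0f0f0f0f0f0f0f0f0f0f0f0f0f0f0f0f0f0f0f0f0f0f0f0f0f0f0f0f0f0f0f0f0f0f0f0f0f0f0f0f0f0f0f0f0f0f0f0f0f0f0f0f0f0f0f0f0f0f0f0f0f0f0f0f0f0f0f0f0f0f0f0f0f0f0f0f0f0f0f0f0eef0edf0f0ecf0f0f0ebf0f0f0f0eaf0f0f0f0f0e9f0f0f0f0f0e8f0f0f0f0e7f0f0f0e6f0f0e5f0e4e3f0f0f0f0f0f0e1f0f0f0f0e0f0f0f0dff0f0def0dddcf0f0f0daf0f0d9f0d8d7f0f0d5f0d4d3f0d1d0cef0f0cbf0cac9f0c7c6c4f0c1c0bebbf0b7b6b4b1ada8f0a1a09e9b97928c86817d7a78f0]]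

/-- the parities of `cor r i` -/
def CO : ℕ := 0x52d292b2a2aaaea8aca4b494d454afada5b595d555a1b191d151b999d95989c949e96929bb9bdb5b8bcb4beb6b2b83c343e36323f373331387c747e76727f7773717ff7f3f1f0ffd7d3d1d0d050186c646e66626f6763616fe7e3e1e0efa7a3a1a0a02fc7c3c1c0c04f878381808f0703010e06020c040808040c02060e0103070f008183878f8040c1c3c7cfc020a1a3a7afa0e1e3e7efe163676f62666e646c68601050d1d3d7dfd0f1f3f7fff173777f72767e747c787133373f32363e343c3832b6beb4bcb8b5bdb9bbb2969e949c98959d999b951d191b1a155d595b5a5adaf54d494b4a4aca8aeaaa2b292d252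

/-- the parities of `car i r` -/
def CA : ℕ := 0x80c06030180e07060f193161c181030b1d3565c585143c6ccc8c2a7ada9a52f2b2a2e2422272d2925afabaaaea4a4cecacbcfc5c94d4742445e5a5b5f5559ddd7d2d8bcb6b3b1383c363331b0d0441e1a1b1f15199d979298fcf6f3f1786c666361e0887c767371f098ece6e3e1698d87828b0f050e0a04040a0e050f0b02878d898163e6ece8e091f3767c787081e3666c686173f6fcf8f2979d99951f1b1a1e141040d1b3363c383133b6bcb8b2d7ddd9d55f5b5a5e5452474d4945cfcbcacec4c4aeaaabafa5a92d2722242e2a2b2f2529ada7a2a8ccc6c3c1485c565351d0b0381c16131190f06070e183060c080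

/-- a row -/
def rN (r : ℕ) : ℕ := (RT.getD (r / 16) []).getD (r % 16) 0

/-- the index of `r + s` -/
def tgT (r s : ℕ) : ℕ := (rN r >>> (8 * s)) % 256

/-- bits -/
def bit (N k : ℕ) : Bool := Nat.beq ((N >>> k) % 2) 1

/-- the Cartan part -/
def ct (r : ℕ) : List ℕ := (List.range 8).foldr (fun i l => if bit CO (8 * r + i) = true then (240 + i) :: l else l) []

/-- **the structure constants** -/
def bt (r s : ℕ) : List ℕ :=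
  if Nat.blt r 240 = true then
    if Nat.blt s 240 = true then
      if Nat.beq (r + s) 239 = true then ct r
      else if Nat.blt (tgT r s) 240 = true then [tgT r s] else []
    else if (Nat.blt s 248 && bit CA (8 * r + (s - 240))) = true then [r] else []
  else if (Nat.blt s 240 && (Nat.blt r 248 && bit CA (8 * s + (r - 240)))) = true then [s] else []

private noncomputable def _root_.Cfsg.Agent.KOdd2348c.k0 : ((x0 : Prop) → ((@Decidable @x0) → @Bool)) := @(fun (x0 : Prop) (x1 : @Decidable @x0) => @Decidable.rec.{1} @x0 @(fun (x2 : @Decidable @x0) => @Bool) @(fun (x2 : @Not @x0) => @Bool.false) @(fun (x2 : x0) => @Bool.true) @x1)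
private theorem _root_.Cfsg.Agent.KOdd2348c.e0 : @Decidable.decide = @_root_.Cfsg.Agent.KOdd2348c.k0 := by delta _root_.Cfsg.Agent.KOdd2348c.k0; rfl'
private noncomputable def _root_.Cfsg.Agent.KOdd2348c.k1 : (by first | exact type_of% @Cfsg.Agent.ChevFast.fld | exact Unit : Sort _) := by first | (refine @Subtype.val _ (fun g => @Cfsg.Agent.ChevFast.fld = @g) (@Subtype.mk _ _ (@(fun (x0 : @Nat) (x1 : @Nat) => @Nat.mod (@Nat.shiftRight @x0 (@Nat.mul (nat_lit 9) @x1)) (nat_lit 512))) ?_); rfl') | exact @Cfsg.Agent.ChevFast.fld | exact ()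
private theorem _root_.Cfsg.Agent.KOdd2348c.e1 : (by first | exact @Cfsg.Agent.ChevFast.fld = @_root_.Cfsg.Agent.KOdd2348c.k1 | exact True : Prop) := by first | (delta _root_.Cfsg.Agent.KOdd2348c.k1; exact @Subtype.property _ (fun g => @Cfsg.Agent.ChevFast.fld = @g) _) | rfl | trivial
private noncomputable def _root_.Cfsg.Agent.KOdd2348c.k2 : (by first | exact type_of% @Cfsg.Agent.ChevFast.cc | exact Unit : Sort _) := by first | (refine @Subtype.val _ (fun g => @Cfsg.Agent.ChevFast.cc = @g) (@Subtype.mk _ _ (@(fun (x0 : @Nat) (x1 : @Nat) (x2 : @Nat) (x3 : @Nat) => @Cfsg.Agent.KOdd2348c.k1 (@Nat.mod (@Nat.shiftRight @x1 (@Nat.mul @x0 @x2)) (@Nat.pow (nat_lit 2) @x0)) @x3)) ?_); rewrite [← Cfsg.Agent.KOdd2348c.e1]; (try delta Cfsg.Agent.ChevFast.cc); (try generalize @Cfsg.Agent.ChevFast.fld = g0); rfl') | exact @Cfsg.Agent.ChevFast.cc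 | exact ()
private theorem _root_.Cfsg.Agent.KOdd2348c.e2 : (by first | exact @Cfsg.Agent.ChevFast.cc = @_root_.Cfsg.Agent.KOdd2348c.k2 | exact True : Prop) := by first | (delta _root_.Cfsg.Agent.KOdd2348c.k2; exact @Subtype.property _ (fun g => @Cfsg.Agent.ChevFast.cc = @g) _) | rfl | trivial
private noncomputable def _root_.Cfsg.Agent.KOdd2348c.k3 : (by first | exact type_of% @Cfsg.Agent.ChevFast.Tg.tF | exact Unit : Sort _) := by first | (refine @Subtype.val _ (fun g => @Cfsg.Agent.ChevFast.Tg.tF = @g) (@Subtype.mk _ _ (@(fun (x0 : @Nat) (x1 : @Nat) => @Nat.rec.{1} @(fun (x2 : @Nat) => @Nat) (nat_lit 240) @(fun (x2 : @Nat) (x3 : @Nat) => @Nat.sub (@Nat.div (@Nat.succ @x2) (nat_lit 2)) (nat_lit 1)) (@Nat.rec.{1} @(fun (x2 : @Nat) => @Nat) (@Cfsg.Agent.KOdd2348c.k2 (nat_lit 2160) @Cfsg.Agent.ChevFast.E8.tT (nat_lit 0) @x1) @(fun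 (x2 : @Nat) (x3 : @Nat) => @Cfsg.Agent.KOdd2348c.k2 (nat_lit 2160) @Cfsg.Agent.ChevFast.E8.tT (@Nat.succ @x2) @x1) @x0))) ?_); rewrite [← Cfsg.Agent.KOdd2348c.e2]; (try delta Cfsg.Agent.ChevFast.Tg.tF); (try generalize @Cfsg.Agent.ChevFast.cc = g0); (try generalize @Cfsg.Agent.ChevFast.E8.tT = g1); rfl') | exact @Cfsg.Agent.ChevFast.Tg.tF | exact ()
private theorem _root_.Cfsg.Agent.KOdd2348c.e3 : (by first | exact @Cfsg.Agent.ChevFast.Tg.tF = @_root_.Cfsg.Agent.KOdd2348c.k3 | exact True : Prop) := by first | (delta _root_.Cfsg.Agent.KOdd2348c.k3; exact @Subtype.property _ (fun g => @Cfsg.Agent.ChevFast.Tg.tF = @g) _) | rfl | trivial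
private theorem _root_.Cfsg.Agent.KOdd2348c.e4.{ku, kv} {α : Type kv} {M : List α → Sort ku} (φ : ∀ l, M l) {z : M List.nil} {s : ∀ a l, M l → M (List.cons a l)} (h0 : φ List.nil = z) (hs : ∀ a l, φ (List.cons a l) = s a l (φ l)) (l : List α) : φ l = @List.rec α M z s l := List.rec h0 (fun a l ih => (hs a l).trans (congrArg (s a l) ih)) l
private noncomputable def _root_.Cfsg.Agent.KOdd2348c.k6.{ku0} : ((x0 : Sort (ku0+1)) → ((@List.{ku0} @x0) → (@Nat → @Option.{ku0} @x0))) := @(fun (x0 : Sort (ku0+1)) (x1 : @List.{ku0} @x0) (x2 : @Nat) => @List.rec.{(ku0+1), ku0} @x0 @(fun (x3 : @List.{ku0} @x0) => (@Nat → @Option.{ku0} @x0)) @(fun (x3 : @Nat) => @Option.none.{ku0} @x0) @(fun (x3 : x0) (x4 : @List.{ku0} @x0) (x5 : (@Nat → @Option.{ku0} @x0)) (x6 : @Nat) => @Nat.rec.{(ku0+1)} @(fun (x7 : @Nat) => @Option.{ku0} @x0) (@Option.some.{ku0}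 @x0 @x3) @(fun (x7 : @Nat) (x8 : @Option.{ku0} @x0) => @x5 @x7) @x6) @x1 @x2)
private theorem _root_.Cfsg.Agent.KOdd2348c.e6.{ku0} : @List.get?Internal.{ku0} = @_root_.Cfsg.Agent.KOdd2348c.k6.{ku0} := by delta _root_.Cfsg.Agent.KOdd2348c.k6; funext a0 a1 a2; refine (congrFun (_root_.Cfsg.Agent.KOdd2348c.e4 (fun a1 a2 => @List.get?Internal.{ku0} a0 a1 a2) ?_ (fun c0 c1 => ?_) a1) a2 :) <;> [(funext b0; (rfl')); (funext b0; (cases b0 with | @zero  => (rfl') | @succ b0_0 => (rfl')))]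
private noncomputable def _root_.Cfsg.Agent.KOdd2348c.k7 : (by first | exact type_of% @Cfsg.Agent.H996.L16.rN | exact Unit : Sort _) := by first | (refine @Subtype.val _ (fun g => @Cfsg.Agent.H996.L16.rN = @g) (@Subtype.mk _ _ (@(fun (x0 : @Nat) => @Option.rec.{1, 0} @Nat @(fun (x1 : @Option.{0} @Nat) => @Nat) (nat_lit 0) @(fun (x1 : @Nat) => x1) (@Cfsg.Agent.KOdd2348c.k6.{0} @Nat (@Option.rec.{1, 0} (@List.{0} @Nat) @(fun (x1 : @Option.{0} (@List.{0} @Nat)) => @List.{0} @Nat) (@List.nil.{0} @Nat) @(fun (x1 : @List.{0} @Nat) => x1) (@Cfsg.Agent.KOdd2348c.k6.{0} (@List.{0} @Nat) @Cfsg.Agent.H996.L16.RT (@Nat.div @x0 (nat_lit 16)))) (@Nat.mod @x0 (nat_lit 16))))) ?_); rewrite [← Cfsg.Agent.KOdd2348c.e6.{0}]; (try delta Cfsg.Agent.H996.L16.rN); (try generalize @Cfsg.Agent.H996.L16.RT = g0); rfl') | exact @Cfsg.Agent.H996.L16.rN | exact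 ()
private theorem _root_.Cfsg.Agent.KOdd2348c.e7 : (by first | exact @Cfsg.Agent.H996.L16.rN = @_root_.Cfsg.Agent.KOdd2348c.k7 | exact True : Prop) := by first | (delta _root_.Cfsg.Agent.KOdd2348c.k7; exact @Subtype.property _ (fun g => @Cfsg.Agent.H996.L16.rN = @g) _) | rfl | trivial
private noncomputable def _root_.Cfsg.Agent.KOdd2348c.k8 : (by first | exact type_of% @Cfsg.Agent.H996.L16.tgT | exact Unit : Sort _) := by first | (refine @Subtype.val _ (fun g => @Cfsg.Agent.H996.L16.tgT = @g) (@Subtype.mk _ _ (@(fun (x0 : @Nat) (x1 : @Nat) => @Nat.mod (@Nat.shiftRight (@Cfsg.Agent.KOdd2348c.k7 @x0) (@Nat.mul (nat_lit 8) @x1)) (nat_lit 256))) ?_); rewrite [← Cfsg.Agent.KOdd2348c.e7]; (try delta Cfsg.Agent.H996.L16.tgT); (try generalize @Cfsg.Agent.H996.L16.rN = g0); rfl') | exact @Cfsg.Agent.H996.L16.tgT | exact ()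
private theorem _root_.Cfsg.Agent.KOdd2348c.e8 : (by first | exact @Cfsg.Agent.H996.L16.tgT = @_root_.Cfsg.Agent.KOdd2348c.k8 | exact True : Prop) := by first | (delta _root_.Cfsg.Agent.KOdd2348c.k8; exact @Subtype.property _ (fun g => @Cfsg.Agent.H996.L16.tgT = @g) _) | rfl | trivial
private noncomputable def _root_.Cfsg.Agent.KOdd2348c.k11 : ((x0 : @Nat) → ((x1 : @Nat) → @Decidable (@Eq.{1} @Nat @x0 @x1))) := @(fun (x0 : @Nat) (x1 : @Nat) => @Bool.rec.{1} @(fun (x2 : @Bool) => ((@Eq.{1} @Bool (@Nat.beq @x0 @x1) @x2) → @Decidable (@Eq.{1} @Nat @x0 @x1))) @(fun (x2 : @Eq.{1} @Bool (@Nat.beq @x0 @x1) @Bool.false) => @Decidable.isFalse (@Eq.{1} @Nat @x0 @x1) (@Nat.ne_of_beq_eq_false @x0 @x1 @x2)) @(fun (x2 : @Eq.{1} @Bool (@Nat.beq @x0 @x1) @Bool.true) => @Decidable.isTrue (@Eq.{1} @Nat @x0 @x1) (@Nat.eq_of_beq_eq_true @x0 @x1 @x2))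 (@Nat.beq @x0 @x1) (@Eq.refl.{1} @Bool (@Nat.beq @x0 @x1)))
private theorem _root_.Cfsg.Agent.KOdd2348c.e11 : @Nat.decEq = @_root_.Cfsg.Agent.KOdd2348c.k11 := by delta _root_.Cfsg.Agent.KOdd2348c.k11; rfl'
private noncomputable def _root_.Cfsg.Agent.KOdd2348c.k12 : @DecidableEq.{1} @Nat := @Cfsg.Agent.KOdd2348c.k11
private theorem _root_.Cfsg.Agent.KOdd2348c.e12 : @instDecidableEqNat = @_root_.Cfsg.Agent.KOdd2348c.k12 := by delta _root_.Cfsg.Agent.KOdd2348c.k12; rewrite [← Cfsg.Agent.KOdd2348c.e11]; rfl'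

theorem tg_all : ∀ r < 240, ∀ s < 240, tg r s = tgT r s := by
  rewrite [Cfsg.Agent.ChevFast.Tg.tg]
  open scoped Cfsg.Agent.ChevFast.Lin in (first | (refine of_decide_eq_true ?_; rewrite [Cfsg.Agent.KOdd2348c.e0, Cfsg.Agent.KOdd2348c.e3, Cfsg.Agent.KOdd2348c.e8, Cfsg.Agent.KOdd2348c.e12]; decide +kernel) | decide +kernel)

theorem tgT_eq {r s : ℕ} (hr : r < 240) (hs : s < 240) : tg r s = tgT r s := tg_all r hr s hs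

private noncomputable def _root_.Cfsg.Agent.KOdd2348c.k9.{ku0} : ((x0 : Sort ku0) → ((x1 : @Bool) → ((x2 : @Bool) → ((@Eq.{1} @Bool @x1 @x2) → @Bool.noConfusionType.{ku0} @x0 @x1 @x2)))) := @(fun (x0 : Sort ku0) (x1 : @Bool) (x2 : @Bool) (x3 : @Eq.{1} @Bool @x1 @x2) => @Eq.rec.{ku0, 1} @Bool @x1 @(fun (x4 : @Bool) (x5 : @Eq.{1} @Bool @x1 @x4) => @Bool.noConfusionType.{ku0} @x0 @x1 @x4) (@Bool.rec.{ku0} @(fun (x4 : @Bool) => @Bool.noConfusionType.{ku0} @x0 @x4 @x4) @(fun (x4 : x0) => x4) @(fun (x4 : x0) => x4) @x1) @x2 @x3)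
private theorem _root_.Cfsg.Agent.KOdd2348c.e9.{ku0} : @Bool.noConfusion.{ku0} = @_root_.Cfsg.Agent.KOdd2348c.k9.{ku0} := by delta _root_.Cfsg.Agent.KOdd2348c.k9; rfl'
private noncomputable def _root_.Cfsg.Agent.KOdd2348c.k10 : ((x0 : @Bool) → ((x1 : @Bool) → @Decidable (@Eq.{1} @Bool @x0 @x1))) := @(fun (x0 : @Bool) (x1 : @Bool) => @Bool.rec.{1} @(fun (x2 : @Bool) => @Decidable (@Eq.{1} @Bool @x2 @x1)) (@Bool.rec.{1} @(fun (x2 : @Bool) => @Decidable (@Eq.{1} @Bool @Bool.false @x2)) (@Decidable.isTrue (@Eq.{1} @Bool @Bool.false @Bool.false) (@rfl.{1} @Bool @Bool.false)) (@Decidable.isFalse (@Eq.{1} @Bool @Bool.false @Bool.true) @(fun (x2 : @Eq.{1} @Bool @Bool.false @Bool.true) => @Cfsg.Agent.KOdd2348c.k9.{0} @False @Bool.false @Bool.true @x2)) @x1) (@Bool.rec.{1} @(fun (x2 : @Bool) => @Decidable (@Eq.{1} @Bool @Bool.true @x2)) (@Decidable.isFalse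 (@Eq.{1} @Bool @Bool.true @Bool.false) @(fun (x2 : @Eq.{1} @Bool @Bool.true @Bool.false) => @Cfsg.Agent.KOdd2348c.k9.{0} @False @Bool.true @Bool.false @x2)) (@Decidable.isTrue (@Eq.{1} @Bool @Bool.true @Bool.true) (@rfl.{1} @Bool @Bool.true)) @x1) @x0)
private theorem _root_.Cfsg.Agent.KOdd2348c.e10 : @Bool.decEq = @_root_.Cfsg.Agent.KOdd2348c.k10 := by delta _root_.Cfsg.Agent.KOdd2348c.k10; rewrite [← Cfsg.Agent.KOdd2348c.e9.{0}]; rfl'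
private noncomputable def _root_.Cfsg.Agent.KOdd2348c.k13.{ku0} : ((x0 : Sort (ku0+1)) → ((@List.{ku0} @x0) → ((x0 → @Bool) → @Bool))) := @(fun (x0 : Sort (ku0+1)) (x1 : @List.{ku0} @x0) (x2 : (x0 → @Bool)) => @List.rec.{(ku0+1), ku0} @x0 @(fun (x3 : @List.{ku0} @x0) => ((x0 → @Bool) → @Bool)) @(fun (x3 : (x0 → @Bool)) => @Bool.true) @(fun (x3 : x0) (x4 : @List.{ku0} @x0) (x5 : ((x0 → @Bool) → @Bool)) (x6 : (x0 → @Bool)) => @Bool.rec.{1} @(fun (x7 : @Bool) => @Bool) @Bool.false (@x5 @x6) (@x6 @x3)) @x1 @x2)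
private theorem _root_.Cfsg.Agent.KOdd2348c.e13.{ku0} : @List.all.{ku0} = @_root_.Cfsg.Agent.KOdd2348c.k13.{ku0} := by delta _root_.Cfsg.Agent.KOdd2348c.k13; funext a0 a1 a2; refine (congrFun (_root_.Cfsg.Agent.KOdd2348c.e4 (fun a1 a2 => @List.all.{ku0} a0 a1 a2) ?_ (fun c0 c1 => ?_) a1) a2 :) <;> (rfl')
private theorem _root_.Cfsg.Agent.KOdd2348c.e14.{ku} {M : Nat → Sort ku} (φ : ∀ n, M n) {z : M Nat.zero} {s : ∀ n, M n → M (Nat.succ n)} (h0 : φ Nat.zero = z) (hs : ∀ n, φ (Nat.succ n) = s n (φ n)) (n : Nat) : φ n = @Nat.rec M z s n := Nat.rec h0 (fun n ih => (hs n).trans (congrArg (s n) ih)) n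
private noncomputable def _root_.Cfsg.Agent.KOdd2348c.k15 : (@Nat → ((@List.{0} @Nat) → @List.{0} @Nat)) := @(fun (x0 : @Nat) (x1 : @List.{0} @Nat) => @Nat.rec.{1} @(fun (x2 : @Nat) => ((@List.{0} @Nat) → @List.{0} @Nat)) @(fun (x2 : @List.{0} @Nat) => x2) @(fun (x2 : @Nat) (x3 : ((@List.{0} @Nat) → @List.{0} @Nat)) (x4 : @List.{0} @Nat) => @x3 (@List.cons.{0} @Nat @x2 @x4)) @x0 @x1)
private theorem _root_.Cfsg.Agent.KOdd2348c.e15 : @List.range.loop = @_root_.Cfsg.Agent.KOdd2348c.k15 := by delta _root_.Cfsg.Agent.KOdd2348c.k15; funext a0 a1; refine (congrFun (_root_.Cfsg.Agent.KOdd2348c.e14 (fun a0 a1 => @List.range.loop a0 a1) ?_ (fun c0 => ?_) a0) a1 :) <;> (rfl')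
private noncomputable def _root_.Cfsg.Agent.KOdd2348c.k16 : (@Nat → @List.{0} @Nat) := @(fun (x0 : @Nat) => @Cfsg.Agent.KOdd2348c.k15 @x0 (@List.nil.{0} @Nat))
private theorem _root_.Cfsg.Agent.KOdd2348c.e16 : @List.range = @_root_.Cfsg.Agent.KOdd2348c.k16 := by delta _root_.Cfsg.Agent.KOdd2348c.k16; rewrite [← Cfsg.Agent.KOdd2348c.e15]; rfl'
private noncomputable def _root_.Cfsg.Agent.KOdd2348c.k17 : (@Bool → (@Bool → @Bool)) := @(fun (x0 : @Bool) (x1 : @Bool) => @Bool.rec.{1} @(fun (x2 : @Bool) => @Bool) @Bool.false @x1 @x0)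
private theorem _root_.Cfsg.Agent.KOdd2348c.e17 : @Bool.and = @_root_.Cfsg.Agent.KOdd2348c.k17 := by delta _root_.Cfsg.Agent.KOdd2348c.k17; rfl'
private noncomputable def _root_.Cfsg.Agent.KOdd2348c.k18 : (by first | exact type_of% @Cfsg.Agent.H996.L16.bit | exact Unit : Sort _) := by first | (refine @Subtype.val _ (fun g => @Cfsg.Agent.H996.L16.bit = @g) (@Subtype.mk _ _ (@(fun (x0 : @Nat) (x1 : @Nat) => @Nat.beq (@Nat.mod (@Nat.shiftRight @x0 @x1) (nat_lit 2)) (nat_lit 1))) ?_); rfl') | exact @Cfsg.Agent.H996.L16.bit | exact ()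
private theorem _root_.Cfsg.Agent.KOdd2348c.e18 : (by first | exact @Cfsg.Agent.H996.L16.bit = @_root_.Cfsg.Agent.KOdd2348c.k18 | exact True : Prop) := by first | (delta _root_.Cfsg.Agent.KOdd2348c.k18; exact @Subtype.property _ (fun g => @Cfsg.Agent.H996.L16.bit = @g) _) | rfl | trivial
private noncomputable def _root_.Cfsg.Agent.KOdd2348c.k23 : ((x0 : @Nat) → ((x1 : @Nat) → @Decidable (@LE.le.{0} @Nat @instLENat @x0 @x1))) := @(fun (x0 : @Nat) (x1 : @Nat) => @Decidable.rec.{1} (@Eq.{1} @Bool (@Nat.ble @x0 @x1) @Bool.true) @(fun (x2 : @Decidable (@Eq.{1} @Bool (@Nat.ble @x0 @x1) @Bool.true)) => @Decidable (@LE.le.{0} @Nat @instLENat @x0 @x1)) @(fun (x2 : @Not (@Eq.{1} @Bool (@Nat.ble @x0 @x1) @Bool.true)) => @Decidable.isFalse (@LE.le.{0} @Nat @instLENat @x0 @x1) (@Nat.not_le_of_not_ble_eq_true @x0 @x1 @x2)) @(fun (x2 : @Eq.{1}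 @Bool (@Nat.ble @x0 @x1) @Bool.true) => @Decidable.isTrue (@LE.le.{0} @Nat @instLENat @x0 @x1) (@Nat.le_of_ble_eq_true @x0 @x1 @x2)) (@Cfsg.Agent.KOdd2348c.k10 (@Nat.ble @x0 @x1) @Bool.true))
private theorem _root_.Cfsg.Agent.KOdd2348c.e23 : @Nat.decLe = @_root_.Cfsg.Agent.KOdd2348c.k23 := by delta _root_.Cfsg.Agent.KOdd2348c.k23; rewrite [← Cfsg.Agent.KOdd2348c.e10]; rfl'
private noncomputable def _root_.Cfsg.Agent.KOdd2348c.k24.{ku0} : ((x0 : Sort (ku0+1)) → ((@Array.{ku0} @x0) → (@Nat → (x0 → x0)))) := @(fun (x0 : Sort (ku0+1)) (x1 : @Array.{ku0} @x0) (x2 : @Nat) (x3 : x0) => @Decidable.rec.{(ku0+1)} (@LT.lt.{0} @Nat @instLTNat @x2 (@Array.size.{ku0} @x0 @x1)) @(fun (x4 : @Decidable (@LT.lt.{0} @Nat @instLTNat @x2 (@Array.size.{ku0} @x0 @x1))) => x0) @(fun (x4 : @Not (@LT.lt.{0} @Nat @instLTNat @x2 (@Array.size.{ku0} @x0 @x1)))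 => x3) @(fun (x4 : @LT.lt.{0} @Nat @instLTNat @x2 (@Array.size.{ku0} @x0 @x1)) => @List.get.{ku0} @x0 (@Array.toList.{ku0} @x0 @x1) (@Fin.mk (@List.length.{ku0} @x0 (@Array.toList.{ku0} @x0 @x1)) @x2 @x4)) (@Cfsg.Agent.KOdd2348c.k23 (@Nat.succ @x2) (@List.length.{ku0} @x0 (@Array.toList.{ku0} @x0 @x1))))
private theorem _root_.Cfsg.Agent.KOdd2348c.e24.{ku0} : @Array.getD.{ku0} = @_root_.Cfsg.Agent.KOdd2348c.k24.{ku0} := by delta _root_.Cfsg.Agent.KOdd2348c.k24; rewrite [← Cfsg.Agent.KOdd2348c.e23]; rfl'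
private noncomputable def _root_.Cfsg.Agent.KOdd2348c.k25.{ku0} : ((x0 : Sort ku0) → (@Bool → (x0 → (x0 → x0)))) := @(fun (x0 : Sort ku0) (x1 : @Bool) (x2 : x0) (x3 : x0) => @Bool.rec.{ku0} @(fun (x4 : @Bool) => x0) @x3 @x2 @x1)
private theorem _root_.Cfsg.Agent.KOdd2348c.e25.{ku0} : @cond.{ku0} = @_root_.Cfsg.Agent.KOdd2348c.k25.{ku0} := by delta _root_.Cfsg.Agent.KOdd2348c.k25; rfl'
private noncomputable def _root_.Cfsg.Agent.KOdd2348c.k26 : (by first | exact type_of% @Cfsg.Agent.ChevFast.dz | exact Unit : Sort _) := by first | (refine @Subtype.val _ (fun g => @Cfsg.Agent.ChevFast.dz = @g) (@Subtype.mk _ _ (@(fun (x0 : @Nat) => @Bool.rec.{1} @(fun (x1 : @Bool) => @Int) (@Int.ofNat (@Nat.shiftRight @x0 (nat_lit 1))) (@Int.negSucc (@Nat.shiftRight @x0 (nat_lit 1))) (@Nat.beq (@Nat.land @x0 (nat_lit 1)) (nat_lit 1)))) ?_); rfl')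 | exact @Cfsg.Agent.ChevFast.dz | exact ()
private theorem _root_.Cfsg.Agent.KOdd2348c.e26 : (by first | exact @Cfsg.Agent.ChevFast.dz = @_root_.Cfsg.Agent.KOdd2348c.k26 | exact True : Prop) := by first | (delta _root_.Cfsg.Agent.KOdd2348c.k26; exact @Subtype.property _ (fun g => @Cfsg.Agent.ChevFast.dz = @g) _) | rfl | trivial
private noncomputable def _root_.Cfsg.Agent.KOdd2348c.k27 : (by first | exact type_of% @Cfsg.Agent.ChevFast.gz | exact Unit : Sort _) := by first | (refine @Subtype.val _ (fun g => @Cfsg.Agent.ChevFast.gz = @g) (@Subtype.mk _ _ (@(fun (x0 : @Nat) (x1 : @Nat) (x2 : @Nat) (x3 : @Nat) => @Cfsg.Agent.KOdd2348c.k26 (@Nat.mod (@Nat.shiftRight (@Nat.mod (@Nat.shiftRight @x1 (@Nat.mul @x0 @x2)) (@Nat.pow (nat_lit 2) @x0)) (@Nat.mul (nat_lit 4) @x3)) (nat_lit 16)))) ?_); rewrite [← Cfsg.Agent.KOdd2348c.e26]; (try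 delta Cfsg.Agent.ChevFast.gz); (try generalize @Cfsg.Agent.ChevFast.dz = g0); rfl') | exact @Cfsg.Agent.ChevFast.gz | exact ()
private theorem _root_.Cfsg.Agent.KOdd2348c.e27 : (by first | exact @Cfsg.Agent.ChevFast.gz = @_root_.Cfsg.Agent.KOdd2348c.k27 | exact True : Prop) := by first | (delta _root_.Cfsg.Agent.KOdd2348c.k27; exact @Subtype.property _ (fun g => @Cfsg.Agent.ChevFast.gz = @g) _) | rfl | trivial
private noncomputable def _root_.Cfsg.Agent.KOdd2348c.k28 : ((x0 : Prop) → ((x1 : Prop) → ((@Decidable @x0) → ((@Decidable @x1) → @Decidable (@Iff @x0 @x1))))) := @(fun (x0 : Prop) (x1 : Prop) (x2 : @Decidable @x0) (x3 : @Decidable @x1) => @Decidable.rec.{1} @x0 @(fun (x4 : @Decidable @x0) => @Decidable (@Iff @x0 @x1)) @(fun (x4 : @Not @x0) => @Decidable.rec.{1} @x1 @(fun (x5 : @Decidable @x1) => @Decidable (@Iff @x0 @x1))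 @(fun (x5 : @Not @x1) => @Decidable.isTrue (@Iff @x0 @x1) (@instDecidableIff._proof_4 @x0 @x1 @x4 @x5)) @(fun (x5 : x1) => @Decidable.isFalse (@Iff @x0 @x1) (@instDecidableIff._proof_3 @x0 @x1 @x4 @x5)) @x3) @(fun (x4 : x0) => @Decidable.rec.{1} @x1 @(fun (x5 : @Decidable @x1) => @Decidable (@Iff @x0 @x1)) @(fun (x5 : @Not @x1) => @Decidable.isFalse (@Iff @x0 @x1) (@instDecidableIff._proof_2 @x0 @x1 @x4 @x5)) @(fun (x5 : x1) => @Decidable.isTrue (@Iff @x0 @x1) (@instDecidableIff._proof_1 @x0 @x1 @x4 @x5)) @x3) @x2)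
private theorem _root_.Cfsg.Agent.KOdd2348c.e28 : @instDecidableIff = @_root_.Cfsg.Agent.KOdd2348c.k28 := by delta _root_.Cfsg.Agent.KOdd2348c.k28; rfl'
private noncomputable def _root_.Cfsg.Agent.KOdd2348c.k29 : @DecidableEq.{1} @Bool := @Cfsg.Agent.KOdd2348c.k10
private theorem _root_.Cfsg.Agent.KOdd2348c.e29 : @instDecidableEqBool = @_root_.Cfsg.Agent.KOdd2348c.k29 := by delta _root_.Cfsg.Agent.KOdd2348c.k29; rewrite [← Cfsg.Agent.KOdd2348c.e10]; rfl'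
private noncomputable def _root_.Cfsg.Agent.KOdd2348c.k30 : ((x0 : Prop) → ((@Decidable @x0) → @Decidable (@Not @x0))) := @(fun (x0 : Prop) (x1 : @Decidable @x0) => @Decidable.rec.{1} @x0 @(fun (x2 : @Decidable @x0) => @Decidable (@Not @x0)) @(fun (x2 : @Not @x0) => @Decidable.isTrue (@Not @x0) @x2) @(fun (x2 : x0) => @Decidable.isFalse (@Not @x0) (@absurd.{0} @x0 @False @x2)) @x1)
private theorem _root_.Cfsg.Agent.KOdd2348c.e30 : @instDecidableNot = @_root_.Cfsg.Agent.KOdd2348c.k30 := by delta _root_.Cfsg.Agent.KOdd2348c.k30; rfl'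
private noncomputable def _root_.Cfsg.Agent.KOdd2348c.k31 : ((x0 : @Int) → ((x1 : @Int) → @Decidable (@Eq.{1} @Int @x0 @x1))) := @(fun (x0 : @Int) (x1 : @Int) => @Int.rec.{1} @(fun (x2 : @Int) => @Decidable (@Eq.{1} @Int @x2 @x1)) @(fun (x2 : @Nat) => @Int.rec.{1} @(fun (x3 : @Int) => @Decidable (@Eq.{1} @Int (@Int.ofNat @x2) @x3)) @(fun (x3 : @Nat) => @Decidable.rec.{1} (@Eq.{1} @Nat @x2 @x3) @(fun (x4 : @Decidable (@Eq.{1} @Nat @x2 @x3)) => @Decidable (@Eq.{1} @Int (@Int.ofNat @x2) (@Int.ofNat @x3))) @(fun (x4 : @Not (@Eq.{1} @Nat @x2 @x3)) => @Decidable.isFalse (@Eq.{1} @Int (@Int.ofNat @x2) (@Int.ofNat @x3)) (@Int.decEq._proof_2 @x2 @x3 @x4)) @(fun (x4 : @Eq.{1} @Nat @x2 @x3) => @Decidable.isTrue (@Eq.{1} @Int (@Int.ofNat @x2) (@Int.ofNat @x3)) (@Int.decEq._proof_1 @x2 @x3 @x4)) (@Cfsg.Agent.KOdd2348c.k11 @x2 @x3)) @(fun (x3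 : @Nat) => @Decidable.isFalse (@Eq.{1} @Int (@Int.ofNat @x2) (@Int.negSucc @x3)) (@Int.decEq._proof_3 @x2 @x3)) @x1) @(fun (x2 : @Nat) => @Int.rec.{1} @(fun (x3 : @Int) => @Decidable (@Eq.{1} @Int (@Int.negSucc @x2) @x3)) @(fun (x3 : @Nat) => @Decidable.isFalse (@Eq.{1} @Int (@Int.negSucc @x2) (@Int.ofNat @x3)) (@Int.decEq._proof_4 @x2 @x3)) @(fun (x3 : @Nat) => @Decidable.rec.{1} (@Eq.{1} @Nat @x2 @x3) @(fun (x4 : @Decidable (@Eq.{1} @Nat @x2 @x3)) => @Decidable (@Eq.{1} @Int (@Int.negSucc @x2) (@Int.negSucc @x3))) @(fun (x4 : @Not (@Eq.{1} @Nat @x2 @x3)) => @Decidable.isFalse (@Eq.{1} @Int (@Int.negSucc @x2) (@Int.negSucc @x3)) (@Int.decEq._proof_6 @x2 @x3 @x4)) @(fun (x4 : @Eq.{1} @Nat @x2 @x3) => @Decidable.isTrue (@Eq.{1} @Int (@Int.negSucc @x2) (@Int.negSucc @x3)) (@Int.decEq._proof_5 @x2 @x3 @x4)) (@Cfsg.Agent.KOdd2348c.k11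 @x2 @x3)) @x1) @x0)
private theorem _root_.Cfsg.Agent.KOdd2348c.e31 : @Int.decEq = @_root_.Cfsg.Agent.KOdd2348c.k31 := by delta _root_.Cfsg.Agent.KOdd2348c.k31; rewrite [← Cfsg.Agent.KOdd2348c.e11]; rfl'
private noncomputable def _root_.Cfsg.Agent.KOdd2348c.k32 : @DecidableEq.{1} @Int := @Cfsg.Agent.KOdd2348c.k31
private theorem _root_.Cfsg.Agent.KOdd2348c.e32 : @Int.instDecidableEq = @_root_.Cfsg.Agent.KOdd2348c.k32 := by delta _root_.Cfsg.Agent.KOdd2348c.k32; rewrite [← Cfsg.Agent.KOdd2348c.e31]; rfl'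

theorem co_all_0 : ((List.range 60).all fun r => (List.range 8).all fun i =>
    decide (bit CO (8 * r + i) = true ↔ cor chevE8 r i % 2 ≠ 0) && decide (bit CA (8 * r + i) = true ↔ car chevE8 i r % 2 ≠ 0)) =
    true := by (delta Cfsg.Agent.ChevalleyStructure.Columns.car Cfsg.Agent.ChevalleyStructure.Columns.cor; rewrite [Cfsg.Agent.ChevFast.E8.coroot]; (try set_option simprocs false in simp -zeta only [Cfsg.Agent.ChevFast.E8.cartanR]); (rewrite [Cfsg.Agent.KOdd2348c.e13.{0}, Cfsg.Agent.KOdd2348c.e16, Cfsg.Agent.KOdd2348c.e17, Cfsg.Agent.KOdd2348c.e0, Cfsg.Agent.KOdd2348c.e18, Cfsg.Agent.KOdd2348c.e24.{0}, Cfsg.Agent.KOdd2348c.e25.{1}, Cfsg.Agent.KOdd2348c.e27, Cfsg.Agent.KOdd2348c.e28, Cfsg.Agent.KOdd2348c.e29, Cfsg.Agent.KOdd2348c.e30, Cfsg.Agent.KOdd2348c.e32]; ((try (delta Array.size Cfsg.Agent.KOdd2348c.k24; rewrite [Cfsg.Agent.LsF.nadd_pat,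 Cfsg.Agent.LsF.nmul_pat, Cfsg.Agent.LsF.imod_pat, Cfsg.Agent.LsF.get_eq])); decide +kernel)))

private noncomputable def _root_.Cfsg.Agent.LsF.f56c983_1 : {f // @Cfsg.Agent.H996.L16.bit = f} := ⟨_, by first | (delta Cfsg.Agent.H996.L16.bit; rewrite [Cfsg.Agent.LsF.nmod_pat, Cfsg.Agent.LsF.nshr_pat]; exact rfl) | exact rfl⟩
private noncomputable def _root_.Cfsg.Agent.LsF.f56c983_2 : {f // @Cfsg.Agent.ChevFast.dz = f} := ⟨_, by first | (delta Cfsg.Agent.ChevFast.dz; rewrite [Cfsg.Agent.LsF.cond_eq]; exact rfl) | exact rfl⟩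
private noncomputable def _root_.Cfsg.Agent.LsF.f56c983_3 : {f // @Cfsg.Agent.ChevFast.gz = f} := ⟨_, by first | (delta Cfsg.Agent.ChevFast.gz; rewrite [Cfsg.Agent.LsF.f56c983_2.2]; exact rfl) | exact rfl⟩
theorem co_all_1 : ((List.range 60).all fun r => (List.range 8).all fun i =>
    decide (bit CO (8 * (60 + r) + i) = true ↔ cor chevE8 (60 + r) i % 2 ≠ 0) && decide (bit CA (8 * (60 + r) + i) = true ↔ car chevE8 i (60 + r) % 2 ≠ 0)) =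
    true := by (delta Cfsg.Agent.ChevalleyStructure.Columns.car Cfsg.Agent.ChevalleyStructure.Columns.cor; rewrite [Cfsg.Agent.ChevFast.E8.coroot]; (try set_option simprocs false in simp -zeta only [Cfsg.Agent.ChevFast.E8.cartanR]); ((try (rewrite [Cfsg.Agent.LsF.f56c983_1.2, Cfsg.Agent.LsF.f56c983_3.2, Cfsg.Agent.LsF.nadd_pat, Cfsg.Agent.LsF.nmul_pat, Cfsg.Agent.LsF.imod_pat, Cfsg.Agent.LsF.and_eq, Cfsg.Agent.LsF.cond_eq, Cfsg.Agent.LsF.all_eq, Cfsg.Agent.LsF.range_eq, Cfsg.Agent.LsF.agetD_eq, Cfsg.Agent.LsF.instIDecEq_eq, Cfsg.Agent.LsF.dNot_eq, Cfsg.Agent.LsF.dBoolEq_eq, Cfsg.Agent.LsF.dIffI_eq, Cfsg.Agent.LsF.decide_eq])); decide +kernel))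

theorem co_all_2 : ((List.range 60).all fun r => (List.range 8).all fun i =>
    decide (bit CO (8 * (120 + r) + i) = true ↔ cor chevE8 (120 + r) i % 2 ≠ 0) && decide (bit CA (8 * (120 + r) + i) = true ↔ car chevE8 i (120 + r) % 2 ≠ 0)) =
    true := by (delta Cfsg.Agent.ChevalleyStructure.Columns.car Cfsg.Agent.ChevalleyStructure.Columns.cor; rewrite [Cfsg.Agent.ChevFast.E8.coroot]; (try set_option simprocs false in simp -zeta only [Cfsg.Agent.ChevFast.E8.cartanR]); (first | (rewrite [Cfsg.Agent.KOdd2348c.e13.{0}, Cfsg.Agent.KOdd2348c.e16, Cfsg.Agent.KOdd2348c.e17, Cfsg.Agent.KOdd2348c.e0, Cfsg.Agent.KOdd2348c.e18, Cfsg.Agent.KOdd2348c.e24.{0}, Cfsg.Agent.KOdd2348c.e25.{1}, Cfsg.Agent.KOdd2348c.e27, Cfsg.Agent.KOdd2348c.e28, Cfsg.Agent.KOdd2348c.e29, Cfsg.Agent.KOdd2348c.e30, Cfsg.Agent.KOdd2348c.e32]; decide +kernel) | decide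 +kernel))

theorem co_all_3 : ((List.range 60).all fun r => (List.range 8).all fun i =>
    decide (bit CO (8 * (180 + r) + i) = true ↔ cor chevE8 (180 + r) i % 2 ≠ 0) && decide (bit CA (8 * (180 + r) + i) = true ↔ car chevE8 i (180 + r) % 2 ≠ 0)) =
    true := by (delta Cfsg.Agent.ChevalleyStructure.Columns.car Cfsg.Agent.ChevalleyStructure.Columns.cor; rewrite [Cfsg.Agent.ChevFast.E8.coroot]; (try set_option simprocs false in simp -zeta only [Cfsg.Agent.ChevFast.E8.cartanR]); ((try (rewrite [Cfsg.Agent.LsF.f56c983_1.2, Cfsg.Agent.LsF.f56c983_3.2, Cfsg.Agent.LsF.nadd_pat, Cfsg.Agent.LsF.nmul_pat, Cfsg.Agent.LsF.imod_pat, Cfsg.Agent.LsF.and_eq, Cfsg.Agent.LsF.cond_eq, Cfsg.Agent.LsF.all_eq, Cfsg.Agent.LsF.range_eq, Cfsg.Agent.LsF.agetD_eq, Cfsg.Agent.LsF.instIDecEq_eq, Cfsg.Agent.LsF.dNot_eq, Cfsg.Agent.LsF.dBoolEq_eq, Cfsg.Agent.LsF.dIffI_eq,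 Cfsg.Agent.LsF.decide_eq])); decide +kernel))

theorem co_all : ((List.range 240).all fun r => (List.range 8).all fun i =>
    decide (bit CO (8 * r + i) = true ↔ cor chevE8 r i % 2 ≠ 0) && decide (bit CA (8 * r + i) = true ↔ car chevE8 i r % 2 ≠ 0)) =
    true := by
  refine List.all_eq_true.2 fun r hr => ?_
  have hr := List.mem_range.1 hr
  rcases Nat.lt_or_ge r 60 with h | h
  · exact List.all_eq_true.1 co_all_0 r (List.mem_range.2 h)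
  rcases Nat.lt_or_ge r 120 with h' | h'
  · obtain ⟨s, rfl⟩ := Nat.exists_eq_add_of_le h
    exact List.all_eq_true.1 co_all_1 s (List.mem_range.2 (by omega))
  rcases Nat.lt_or_ge r 180 with h'' | h''
  · obtain ⟨s, rfl⟩ := Nat.exists_eq_add_of_le h'
    exact List.all_eq_true.1 co_all_2 s (List.mem_range.2 (by omega))
  · obtain ⟨s, rfl⟩ := Nat.exists_eq_add_of_le h''
    exact List.all_eq_true.1 co_all_3 s (List.mem_range.2 (by omega))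

theorem co_spec {r i : ℕ} (hr : r < 240) (hi : i < 8) : (bit CO (8 * r + i) = true ↔ cor chevE8 r i % 2 ≠ 0) ∧
    (bit CA (8 * r + i) = true ↔ car chevE8 i r % 2 ≠ 0) := by
  have h := List.all_eq_true.1 (List.all_eq_true.1 co_all r (List.mem_range.2 hr)) i (List.mem_range.2 hi)
  rw [Bool.and_eq_true, decide_eq_true_eq, decide_eq_true_eq] at h
  exact h

end Cfsg.Agent.H996.L16
end

-- part: H996/L16/E8
section
/-!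
# The calculator for the Lie algebra of type `E₈` in characteristic two (helper996, for S5916)

Indices: `s < 240` the root vectors `er s`, `240 + i` (`i < 8`) the Cartan basis. Operators (for `H : H939.L16.Ops Fp ta`):
`0` is `Fp`, `1` is `ta`, `10 + r` is `xl r 1`.
-/

set_option autoImplicit false
set_option maxRecDepth 20000

namespace Cfsg.Agent.H996.L16

open Cfsg Cfsg.Lie Cfsg.Lie.ChevalleyDatum
open Cfsg.Agent.H939.L64 (KK LK brK)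
open Cfsg.Agent.H413.L16
open Cfsg.Agent.ChevalleyStructure.Columns (car cor)
open Cfsg.Agent.H939.L16 (wi xl)

theorem bltT {a b : ℕ} (h : a < b) : Nat.blt a b = true := Nat.ble_eq_true_of_le h

theorem ltB {a b : ℕ} (h : Nat.blt a b = true) : a < b := Nat.le_of_ble_eq_true h

theorem bltF {a b : ℕ} (h : ¬ a < b) : ¬ Nat.blt a b = true := fun h1 => h (ltB h1)

/-! ### the basis -/

/-- the basis: root vectors and the Cartan part -/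
noncomputable def bs (s : ℕ) : LK := if s < 240 then er s else hv fun i => if (i : ℕ) + 240 = s then 1 else 0

theorem bs_er {s : ℕ} (h : s < 240) : bs s = er s := if_pos h

theorem bs_hv (i : ℕ) : bs (240 + i) = hv fun k => if (k : ℕ) = i then 1 else 0 := by
  rw [bs, if_neg (by omega)]
  congr 1
  funext k
  by_cases h : (k : ℕ) = i
  · rw [if_pos h, if_pos (by omega)]
  · rw [if_neg h, if_neg (by omega)]

theorem bs_ge {s : ℕ} (h : 248 ≤ s) : bs s = 0 := by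
  rw [bs, if_neg (by omega)]
  have : (fun i : Fin chevE8.rank => if (i : ℕ) + 240 = s then (1 : KK) else 0) = 0 := by
    funext i
    have hi : (i : ℕ) < 8 := lt_of_lt_of_eq i.2 rk8
    rw [if_neg (by omega)]
    rfl
  rw [this]
  funext a
  rcases a with a | a <;> rfl

/-- the list of the bits -/
def ctb (c : ℕ → Bool) (L : List ℕ) : List ℕ := L.foldr (fun i l => if c i = true then (240 + i) :: l else l) []

theorem ctb_sum (c : ℕ → Bool) (L : List ℕ) :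
    ((ctb c L).map bs).sum = (L.map fun i => if c i = true then bs (240 + i) else 0).sum := by
  induction L with
  | nil => rfl
  | cons i L ih =>
    rw [List.map_cons, List.sum_cons, ← ih]
    show ((if c i = true then (240 + i) :: ctb c L else ctb c L).map bs).sum = _
    split_ifs with h
    · rw [List.map_cons, List.sum_cons]
    · rw [zero_add]

theorem sum_range8 {M : Type*} [AddCommMonoid M] (f : ℕ → M) : ((List.range 8).map f).sum = ∑ i ∈ Finset.range 8, f i := rfl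

theorem ctb_hv (c : ℕ → Bool) : ((ctb c (List.range 8)).map bs).sum = hv fun k => if c k = true then 1 else 0 := by
  rw [ctb_sum, sum_range8]
  funext a
  rw [Finset.sum_apply]
  rcases a with a | a
  · have ha : (a : ℕ) < 8 := lt_of_lt_of_eq a.2 rk8
    rw [Finset.sum_eq_single (a : ℕ)]
    · show (if c a = true then bs (240 + a) else 0 : LK) (Sum.inl a) = if c a = true then 1 else 0
      split_ifs with h
      · rw [bs_hv]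
        exact if_pos rfl
      · rfl
    · intro i _ hi
      split_ifs with h
      · rw [bs_hv]
        exact if_neg (Ne.symm hi)
      · rfl
    · intro h
      exact absurd (Finset.mem_range.2 ha) h
  · refine Finset.sum_eq_zero fun i _ => ?_
    split_ifs
    · rw [bs_hv]
      rfl
    · rfl

theorem ct_eq (r : ℕ) : ct r = ctb (fun i => bit CO (8 * r + i)) (List.range 8) := rfl

theorem hr_eq {r : ℕ} (hr' : r < 240) : hr r = ((ct r).map bs).sum := by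
  rw [ct_eq, ctb_hv]
  unfold hr
  congr 1
  funext i
  have h := (co_spec hr' (lt_of_lt_of_eq i.2 rk8)).1
  by_cases h1 : bit CO (8 * r + i) = true
  · rw [if_pos h1, cast_odd (h.1 h1)]
  · rw [if_neg h1, cast_even (not_not.1 fun h2 => h1 (h.2 h2))]

theorem sum_car {r s : ℕ} (hr : 240 ≤ r) (hr8 : r < 248) (hs : s < 240) :
    (∑ i : Fin chevE8.rank, (if (i : ℕ) + 240 = r then (1 : KK) else 0) * ((car chevE8 i s : ℤ) : KK)) =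
      if bit CA (8 * s + (r - 240)) = true then 1 else 0 := by
  have hk : r - 240 < chevE8.rank := by rw [rk8]; omega
  rw [Finset.sum_eq_single (⟨r - 240, hk⟩ : Fin chevE8.rank)]
  · rw [if_pos (show r - 240 + 240 = r by omega), one_mul]
    have h := (co_spec (i := r - 240) hs (by omega)).2
    by_cases h1 : bit CA (8 * s + (r - 240)) = true
    · rw [if_pos h1, cast_odd (h.1 h1)]
    · rw [if_neg h1, cast_even (not_not.1 fun h2 => h1 (h.2 h2))]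
  · intro i _ hi
    rw [if_neg, zero_mul]
    intro h
    exact hi (Fin.ext (by show (i : ℕ) = r - 240; omega))
  · intro h
    exact absurd (Finset.mem_univ _) h

/-- **the bracket on the basis** -/
theorem bt_spec (r s : ℕ) : brK (bs r) (bs s) = ((bt r s).map bs).sum := by
  unfold bt
  by_cases hr : r < 240
  · rw [if_pos (bltT hr), bs_er hr]
    by_cases hs : s < 240
    · rw [if_pos (bltT hs), bs_er hs]
      by_cases hrs : r + s = 239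
      · rw [if_pos (by rw [hrs]; rfl), show s = 239 - r by omega, br_neg hr, hr_eq hr]
      · rw [if_neg (fun h => hrs (Nat.eq_of_beq_eq_true h)), br_rr hr hs (by omega), tgT_eq hr hs]
        by_cases ht : tgT r s < 240
        · rw [if_pos (bltT ht), List.map_cons, List.map_nil,
            List.sum_cons, List.sum_nil, add_zero, bs_er ht]
        · rw [if_neg (bltF ht), er_ge (by omega)]
          rfl
    · rw [if_neg (bltF hs)]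
      by_cases hs8 : s < 248
      · rw [bs, if_neg hs, br_er_hv _ hr, sum_car (by omega) hs8 hr]
        by_cases hb : bit CA (8 * r + (s - 240)) = true
        · rw [if_pos hb, one_smul, if_pos, List.map_cons, List.map_nil, List.sum_cons, List.sum_nil, add_zero, bs_er hr]
          rw [hb, bltT hs8]
          rfl
        · rw [if_neg hb, zero_smul, if_neg]
          · rfl
          · intro h
            rw [Bool.and_eq_true] at h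
            exact hb h.2
      · rw [bs_ge (by omega), Cfsg.Agent.H413.L16.br_comm]
        have h0 : brK (0 : LK) (er r) = 0 := by
          have := Cfsg.Agent.H971.RV.br_smul_left (D := chevE8) (0 : KK) (er r) (er r)
          rwa [zero_smul, zero_smul] at this
        rw [h0, if_neg]
        · rfl
        · intro h
          rw [Bool.and_eq_true] at h
          exact hs8 (ltB h.1)
  · rw [if_neg (bltF hr)]
    by_cases hs : s < 240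
    · by_cases hr8 : r < 248
      · rw [bs_er hs, bs, if_neg hr, br_hv _ hs, sum_car (by omega) hr8 hs]
        by_cases hb : bit CA (8 * s + (r - 240)) = true
        · rw [if_pos hb, one_smul, if_pos, List.map_cons, List.map_nil, List.sum_cons, List.sum_nil, add_zero, bs_er hs]
          rw [hb, bltT hr8,
            bltT hs]
          rfl
        · rw [if_neg hb, zero_smul, if_neg]
          · rfl
          · intro h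
            rw [Bool.and_eq_true, Bool.and_eq_true] at h
            exact hb h.2.2
      · have h0 : brK (0 : LK) (bs s) = 0 := by
          have := Cfsg.Agent.H971.RV.br_smul_left (D := chevE8) (0 : KK) (bs s) (bs s)
          rwa [zero_smul, zero_smul] at this
        rw [bs_ge (show 248 ≤ r by omega), h0, if_neg]
        · rfl
        · intro h
          rw [Bool.and_eq_true, Bool.and_eq_true] at h
          exact hr8 (ltB h.2.1)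
    · rw [if_neg]
      · unfold bs
        rw [if_neg hr, if_neg hs, br_hh]
        rfl
      · intro h
        rw [Bool.and_eq_true] at h
        exact hs (ltB h.1)

/-! ### the operators -/

/-- the simple roots -/
def six' : List ℕ := [162, 141, 135, 130, 126, 123, 121, 120]

theorem six_spec : ∀ i : Fin 8, ct (six'.getD i 0) = [240 + (i : ℕ)] ∧ six'.getD i 0 < 240 := by decide +kernel

private noncomputable def _root_.Cfsg.Agent.KOdd2348c.k33 : (by first | exact type_of% @Cfsg.Agent.H939.L16.wi | exact Unit : Sort _) := by first | (refine @Subtype.val _ (fun g => @Cfsg.Agent.H939.L16.wi = @g) (@Subtype.mk _ _ (@(fun (x0 : @Nat) => @Option.rec.{1, 0} @Nat @(fun (x1 : @Option.{0} @Nat) => @Nat) (nat_lit 240) @(fun (x1 : @Nat) => x1) (@Cfsg.Agent.KOdd2348c.k6.{0} @Nat @Cfsg.Agent.H939.L16.WT @x0))) ?_); rewrite [← Cfsg.Agent.KOdd2348c.e6.{0}];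 (try delta Cfsg.Agent.H939.L16.wi); (try generalize @Cfsg.Agent.H939.L16.WT = g0); rfl') | exact @Cfsg.Agent.H939.L16.wi | exact ()
private theorem _root_.Cfsg.Agent.KOdd2348c.e33 : (by first | exact @Cfsg.Agent.H939.L16.wi = @_root_.Cfsg.Agent.KOdd2348c.k33 | exact True : Prop) := by first | (delta _root_.Cfsg.Agent.KOdd2348c.k33; exact @Subtype.property _ (fun g => @Cfsg.Agent.H939.L16.wi = @g) _) | rfl | trivial
private noncomputable def _root_.Cfsg.Agent.KOdd2348c.k34 : ((x0 : @Nat) → ((x1 : @Nat) → @Decidable (@LT.lt.{0} @Nat @instLTNat @x0 @x1))) := @(fun (x0 : @Nat) (x1 : @Nat) => @Cfsg.Agent.KOdd2348c.k23 (@Nat.succ @x0) @x1)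
private theorem _root_.Cfsg.Agent.KOdd2348c.e34 : @Nat.decLt = @_root_.Cfsg.Agent.KOdd2348c.k34 := by delta _root_.Cfsg.Agent.KOdd2348c.k34; rewrite [← Cfsg.Agent.KOdd2348c.e23]; rfl'

theorem wi_all : ((List.range 240).all fun r => decide (wi r < 240) && decide (wi (239 - r) = 239 - wi r)) = true := by
  (first | (rewrite [Cfsg.Agent.KOdd2348c.e13.{0}, Cfsg.Agent.KOdd2348c.e16, Cfsg.Agent.KOdd2348c.e17, Cfsg.Agent.KOdd2348c.e0, Cfsg.Agent.KOdd2348c.e33, Cfsg.Agent.KOdd2348c.e34, Cfsg.Agent.KOdd2348c.e12]; decide +kernel) | decide +kernel)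

theorem wi_lt {r : ℕ} (h : r < 240) : wi r < 240 := by
  have := List.all_eq_true.1 wi_all r (List.mem_range.2 h)
  rw [Bool.and_eq_true, decide_eq_true_eq] at this
  exact this.1

theorem wi_neg {r : ℕ} (h : r < 240) : wi (239 - r) = 239 - wi r := by
  have := List.all_eq_true.1 wi_all r (List.mem_range.2 h)
  rw [Bool.and_eq_true, decide_eq_true_eq, decide_eq_true_eq] at this
  exact this.2

/-- the table of a permutation of the roots -/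
def pT (σ : ℕ → ℕ) (s : ℕ) : List ℕ :=
  if Nat.blt s 240 = true then [σ s] else if Nat.blt s 248 = true then ct (σ (six'.getD (s - 240) 0)) else []

/-- the table of `xl r 1` -/
def xT (r s : ℕ) : List ℕ := s :: (bt r s ++ if Nat.beq (r + s) 239 = true then [r] else [])

/-- the tables of the root elements -/
def tb2 (i s : ℕ) : List ℕ := if (Nat.ble 8 i && Nat.blt i 248) = true then xT (i - 8) s else [s]

/-- the tables -/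
def tb (i s : ℕ) : List ℕ :=
  match i with
  | 0 => pT wi s
  | 1 => pT (fun r => wi (wi (wi (wi r)))) s
  | i + 2 => tb2 i s

/-- the powers -/
def ks (i : ℕ) : ℕ := if Nat.beq i 0 then 2 else 1

/-- the root elements -/
noncomputable def PHI2 (i : ℕ) : LK → LK := if h : 8 ≤ i ∧ i < 248 then xl ⟨i - 8, by rw [nr]; omega⟩ 1 else id

/-- the operators -/
noncomputable def PHI (Fp : LK → LK) (ta : LK →ₗ[KK] LK) (i : ℕ) : LK → LK :=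
  match i with
  | 0 => Fp
  | 1 => ta
  | i + 2 => PHI2 i

/-- a semilinear map which permutes the roots and respects the bracket -/
theorem perm_bs {Φ : LK → LK} {σ : ℕ → ℕ} (hb : ∀ u v, Φ (brK u v) = brK (Φ u) (Φ v)) (he : ∀ s < 240, Φ (er s) = er (σ s))
    (h0 : Φ 0 = 0) (hσ : ∀ r < 240, σ r < 240 ∧ σ (239 - r) = 239 - σ r) (s : ℕ) : Φ (bs s) = ((pT σ s).map bs).sum := by
  unfold pT
  by_cases hs : s < 240
  · rw [if_pos (bltT hs), List.map_cons, List.map_nil, List.sum_cons,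
      List.sum_nil, add_zero, bs_er hs, he s hs, bs_er (hσ s hs).1]
  · rw [if_neg (bltF hs)]
    by_cases hs8 : s < 248
    · rw [if_pos (bltT hs8)]
      obtain ⟨h1, h2⟩ := six_spec ⟨s - 240, by omega⟩
      rw [Fin.val_mk, show 240 + (s - 240) = s by omega] at h1
      rw [Fin.val_mk] at h2
      have h3 : bs s = hr (six'.getD (s - 240) 0) := by
        rw [hr_eq h2, h1, List.map_cons, List.map_nil, List.sum_cons, List.sum_nil, add_zero]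
      rw [h3, ← br_neg h2, hb, he _ h2, he _ (by omega), (hσ _ h2).2, br_neg (hσ _ h2).1, hr_eq (hσ _ h2).1]
    · rw [if_neg (bltF hs8), bs_ge (by omega), h0]
      rfl

theorem bs_inr (s : ℕ) (r : Fin chevE8.nroots) : bs s (Sum.inr r) = if s = r then 1 else 0 := by
  have hr : (r : ℕ) < 240 := lt_of_lt_of_eq r.2 nr
  unfold bs
  split_ifs with h1 h2 h2
  · subst h2
    rw [er_of r.2]
    exact Pi.single_eq_same _ _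
  · rw [er_of (by rw [nr]; exact h1), Pi.single_eq_of_ne]
    intro h3
    exact h2 (congrArg Fin.val (Sum.inr.inj h3)).symm
  · omega
  · rfl

theorem xl_bs (r : Fin chevE8.nroots) (s : ℕ) : xl r 1 (bs s) = ((xT r s).map bs).sum := by
  have hr : (r : ℕ) < 240 := lt_of_lt_of_eq r.2 nr
  unfold xl xT
  rw [List.map_cons, List.sum_cons, List.map_append, List.sum_append, ← bt_spec, bs_er hr, one_smul, one_pow, one_mul,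
    bs_inr, ← add_assoc]
  congr 1
  have h1 : ((Fin.rev r : Fin chevE8.nroots) : ℕ) = 239 - r := by
    have h2 := nr
    rw [Fin.val_rev]
    omega
  rw [h1]
  by_cases h : (r : ℕ) + s = 239
  · rw [if_pos (show s = 239 - (r : ℕ) by omega), if_pos (by rw [h]; rfl), one_smul, List.map_cons, List.map_nil,
      List.sum_cons, List.sum_nil, add_zero, bs_er hr]
  · rw [if_neg (show ¬ s = 239 - (r : ℕ) by omega), if_neg (fun h2 => h (Nat.eq_of_beq_eq_true h2)), zero_smul]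
    rfl

theorem xl_add (r : Fin chevE8.nroots) (v w : LK) : xl r 1 (v + w) = xl r 1 v + xl r 1 w := by
  have h1 : brK (er r) (v + w) = brK (er r) v + brK (er r) w := Cfsg.Agent.H971.RV.br_add_right _ _ _
  unfold xl
  rw [one_smul, one_smul, one_smul, one_pow, one_mul, one_mul, one_mul, h1, Pi.add_apply, add_smul]
  abel

theorem xl_smul (r : Fin chevE8.nroots) (c : KK) (v : LK) : xl r 1 (c • v) = c • xl r 1 v := by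
  have h1 : brK (er r) (c • v) = c • brK (er r) v := Cfsg.Agent.H971.RV.br_smul_right _ _ _
  unfold xl
  rw [one_smul, one_smul, one_pow, one_mul, one_mul, h1, Pi.smul_apply, smul_add, smul_add, smul_smul, smul_eq_mul]

theorem ops {Fp : LK → LK} {ta : LK →ₗ[KK] LK} (H : Cfsg.Agent.H939.L16.Ops Fp ta) :
    Ops (K := KK) bs tb ks (PHI Fp ta) := by
  have hF0 : Fp 0 = 0 := by
    have := H.smul 0 0
    rwa [zero_smul, zero_pow two_ne_zero, zero_smul] at this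
  have hw : ∀ r < 240, wi r < 240 ∧ wi (239 - r) = 239 - wi r := fun r hr => ⟨wi_lt hr, wi_neg hr⟩
  have hw4 : ∀ r < 240, wi (wi (wi (wi r))) < 240 ∧ wi (wi (wi (wi (239 - r)))) = 239 - wi (wi (wi (wi r))) := fun r hr =>
    ⟨wi_lt (wi_lt (wi_lt (wi_lt hr))), by
      rw [wi_neg hr, wi_neg (wi_lt hr), wi_neg (wi_lt (wi_lt hr)), wi_neg (wi_lt (wi_lt (wi_lt hr)))]⟩
  refine ⟨fun i => ?_, fun i v w => ?_, fun i c s => ?_⟩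
  · match i with
    | 0 => exact hF0
    | 1 => exact map_zero ta
    | i + 2 =>
      show PHI2 i 0 = 0
      unfold PHI2
      split_ifs with h
      · have := xl_smul ⟨i - 8, by rw [nr]; omega⟩ 0 0
        rwa [zero_smul, zero_smul] at this
      · rfl
  · match i with
    | 0 => exact H.add v w
    | 1 => exact map_add ta v w
    | i + 2 =>
      show PHI2 i (v + w) = PHI2 i v + PHI2 i w
      unfold PHI2
      split_ifs with h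
      · exact xl_add _ v w
      · rfl
  · match i with
    | 0 =>
      show Fp (c • bs s) = c ^ 2 • ((pT wi s).map bs).sum
      rw [H.smul, perm_bs H.br H.er hF0 hw]
    | 1 =>
      show ta (c • bs s) = c ^ 1 • ((pT (fun r => wi (wi (wi (wi r)))) s).map bs).sum
      rw [map_smul, pow_one, perm_bs (σ := fun r => wi (wi (wi (wi r)))) H.tbr H.ter (map_zero ta) hw4]
    | i + 2 =>
      show PHI2 i (c • bs s) = c ^ 1 • ((tb2 i s).map bs).sum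
      unfold PHI2 tb2
      rw [pow_one]
      by_cases h : 8 ≤ i ∧ i < 248
      · rw [dif_pos h, xl_smul, xl_bs, if_pos]
        rw [show Nat.ble 8 i = true from Nat.ble_eq_true_of_le h.1, bltT h.2]
        rfl
      · rw [dif_neg h, if_neg]
        · rw [List.map_cons, List.map_nil, List.sum_cons, List.sum_nil, add_zero]
          rfl
        · intro h2
          rw [Bool.and_eq_true] at h2
          exact h ⟨Nat.le_of_ble_eq_true h2.1, ltB h2.2⟩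

/-! ### the theorems -/

/-- the value of an expression -/
noncomputable def VAL (Fp : LK → LK) (ta : LK →ₗ[KK] LK) (x : ℕ → KK) (e : Ex) : LK := e.val x bs brM (PHI Fp ta)

/-- the coordinate -/
noncomputable def phi (u : ℕ) : LK →ₗ[KK] KK :=
  if h : u < chevE8.nroots then LinearMap.proj (Sum.inr ⟨u, h⟩)
  else if h : u - 240 < chevE8.rank then LinearMap.proj (Sum.inl ⟨u - 240, h⟩) else 0

theorem phi_bs {u : ℕ} (hu : u < 248) (s : ℕ) : phi u (bs s) = if s = u then 1 else 0 := by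
  unfold phi
  by_cases h : u < chevE8.nroots
  · rw [dif_pos h]
    exact bs_inr s ⟨u, h⟩
  · have h1 : ¬ u < 240 := by rw [← nr]; exact h
    have h2 : u - 240 < chevE8.rank := by rw [rk8]; omega
    rw [dif_neg h, dif_pos h2]
    show bs s (Sum.inl ⟨u - 240, h2⟩) = _
    unfold bs
    by_cases hs : s < 240
    · rw [if_pos hs, er_of (by rw [nr]; exact hs), Pi.single_eq_of_ne (by simp), if_neg (by omega)]
    · rw [if_neg hs]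
      show (if u - 240 + 240 = s then (1 : KK) else 0) = _
      by_cases h3 : s = u
      · rw [if_pos h3, if_pos (by omega)]
      · rw [if_neg h3, if_neg (by omega)]

variable {Fp : LK → LK} {ta : LK →ₗ[KK] LK} (H : Cfsg.Agent.H939.L16.Ops Fp ta) (x : ℕ → KK)

include H in
/-- **the coordinates of an expression** -/
theorem coord {e : Ex} {u : ℕ} {p : List (List ℕ)} (hu : u < 248) (h : e.chk bt tb ks u p = true) :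
    phi u (VAL Fp ta x e) = evP x p :=
  Ex.coord x brM bt bt_spec (ops H) h (phi u) (phi_bs hu)

include H in
/-- **the relations** -/
theorem rel {e : Ex} {u : ℕ} {p : List (List ℕ)} (hu : u < 248) (h : e.chk bt tb ks u p = true) (h0 : VAL Fp ta x e = 0) :
    evP x p = 0 := by
  rw [← coord H x hu h, h0, map_zero]

/-! ### unfolding -/

theorem VAL_lit (l : Vec) : VAL Fp ta x (.lit l) = ev x bs l := rfl

theorem VAL_add (a c : Ex) : VAL Fp ta x (.add a c) = VAL Fp ta x a + VAL Fp ta x c := rfl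

theorem VAL_br (a c : Ex) : VAL Fp ta x (.br a c) = brK (VAL Fp ta x a) (VAL Fp ta x c) := rfl

theorem VAL_fp (a : Ex) : VAL Fp ta x (.op 0 a) = Fp (VAL Fp ta x a) := rfl

theorem VAL_ta (a : Ex) : VAL Fp ta x (.op 1 a) = ta (VAL Fp ta x a) := rfl

end Cfsg.Agent.H996.L16
end

-- part: H945/L16/ElimN01
section
/-!
# S5916: the elimination of type N, `(0,1)` (helper945)

`elimN01 : Ops Fp ta → ElimN01 Fp ta`.
Coefficient 104 of `SIG` is `o1 ^ 6`; coefficient 196 of `[s ++, s -+]` is `o3 B²`; coefficient 135 of `INV2` is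
`o3 ^ 10 + B ^ 20` modulo `o1`, `A A2`.
-/

set_option autoImplicit false
set_option maxRecDepth 20000

namespace Cfsg.Agent.H945.L16

open Cfsg.Agent.H939.L64 (KK LK brK)
open Cfsg.Agent.H413.L16 (er nr)
open Cfsg.Agent.H939.L16 (iz xl)
open Cfsg.Agent.H996.L16
open Cfsg.Agent.H955.L16

/-- the variables -/
noncomputable def xv (k o1 o3 r1 r2 r3 r0 K1 K2 A A2 B : KK) : ℕ → KK
  | 0 => k
  | 1 => o1
  | 2 => o3
  | 3 => r1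
  | 4 => r2
  | 5 => r3
  | 6 => r0
  | 7 => K1
  | 8 => K2
  | 9 => A
  | 10 => A2
  | 11 => B
  | _ => 0

/-- `vR` -/
def lR : Vec := [(128, [1]), (127, [0, 1]), (131, [0, 1]), (136, [0, 0, 1]), (163, [0, 0, 1]), (147, [0, 0, 0, 1]),
  (137, [0, 0, 0, 0, 1]), (143, [0, 0, 0, 0, 0, 1]), (148, [0, 0, 0, 0, 0, 0, 1])]

/-- `vN` -/
def lN : Vec := [(157, [0, 0, 0, 0, 0, 0, 0, 1]), (172, [0, 0, 0, 0, 0, 0, 0, 0, 1]), (2, [0, 0, 0, 0, 0, 0, 0, 0, 0, 1]),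
  (154, [0, 0, 0, 0, 0, 0, 0, 0, 0, 1]), (129, [0, 0, 0, 0, 0, 0, 0, 0, 0, 0, 1]), (156, [0, 0, 0, 0, 0, 0, 0, 0, 0, 0, 1]),
  (2, [0, 0, 0, 0, 0, 0, 0, 0, 0, 0, 0, 1]), (167, [0, 0, 0, 0, 0, 0, 0, 0, 0, 0, 0, 1])]

/-- `t0` -/
def Tx (e : Ex) : Ex := .op 131 (.op 136 (.op 151 (.op 145 (.op 1 e))))

/-- the family -/
def S (a b : Bool) : Ex :=
  match a, b with
  | true, true => .lit lR
  | false, true => .op 0 (.lit lN)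
  | false, false => Tx (.lit lR)
  | true, false => Tx (.op 0 (.lit lN))

def sgx (a d : Bool) : Ex := .add (.br (S a true) (.op 0 (S false d))) (.br (S a false) (.op 0 (S true d)))

def SIGx : Ex := .add (.br (sgx true true) (sgx false false)) (.br (sgx true false) (sgx false true))

def ix (b c d : Bool) : Ex :=
  .br (.br (S true b) (.op 0 (.op 0 (S c d)))) (.br (S false (!b)) (.op 0 (.op 0 (S (!c) (!d)))))

def INVx : Ex :=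
  .add (.add (.add (ix true true true) (ix true true false)) (.add (ix true false true) (ix true false false)))
    (.add (.add (ix false true true) (ix false true false)) (.add (ix false false true) (ix false false false)))

private noncomputable def _root_.Cfsg.Agent.KOdd2348c.k35 : (by first | exact type_of% @Cfsg.Agent.H945.L16.Tx | exact Unit : Sort _) := by first | (refine @Subtype.val _ (fun g => @Cfsg.Agent.H945.L16.Tx = @g) (@Subtype.mk _ _ (@(fun (x0 : @Cfsg.Agent.H996.L16.Ex) => @Cfsg.Agent.H996.L16.Ex.op (nat_lit 131) (@Cfsg.Agent.H996.L16.Ex.op (nat_lit 136) (@Cfsg.Agent.H996.L16.Ex.op (nat_lit 151) (@Cfsg.Agent.H996.L16.Ex.op (nat_lit 145) (@Cfsg.Agent.H996.L16.Ex.op (nat_lit 1) @x0)))))) ?_); rfl') | exact @Cfsg.Agent.H945.L16.Tx | exact ()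
private theorem _root_.Cfsg.Agent.KOdd2348c.e35 : (by first | exact @Cfsg.Agent.H945.L16.Tx = @_root_.Cfsg.Agent.KOdd2348c.k35 | exact True : Prop) := by first | (delta _root_.Cfsg.Agent.KOdd2348c.k35; exact @Subtype.property _ (fun g => @Cfsg.Agent.H945.L16.Tx = @g) _) | rfl | trivial
private noncomputable def _root_.Cfsg.Agent.KOdd2348c.k36 : (by first | exact type_of% @Cfsg.Agent.H945.L16.S | exact Unit : Sort _) := by first | (refine @Subtype.val _ (fun g => @Cfsg.Agent.H945.L16.S = @g) (@Subtype.mk _ _ (@(fun (x0 : @Bool) (x1 : @Bool) => @Bool.rec.{1} @(fun (x2 : @Bool) => @Cfsg.Agent.H996.L16.Ex) (@Bool.rec.{1} @(fun (x2 : @Bool) => @Cfsg.Agent.H996.L16.Ex) (@Cfsg.Agent.KOdd2348c.k35 (@Cfsg.Agent.H996.L16.Ex.lit @Cfsg.Agent.H945.L16.lR)) (@Cfsg.Agent.H996.L16.Ex.op (nat_lit 0) (@Cfsg.Agent.H996.L16.Ex.lit @Cfsg.Agent.H945.L16.lN))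 @x1) (@Bool.rec.{1} @(fun (x2 : @Bool) => @Cfsg.Agent.H996.L16.Ex) (@Cfsg.Agent.KOdd2348c.k35 (@Cfsg.Agent.H996.L16.Ex.op (nat_lit 0) (@Cfsg.Agent.H996.L16.Ex.lit @Cfsg.Agent.H945.L16.lN))) (@Cfsg.Agent.H996.L16.Ex.lit @Cfsg.Agent.H945.L16.lR) @x1) @x0)) ?_); rewrite [← Cfsg.Agent.KOdd2348c.e35]; (try delta Cfsg.Agent.H945.L16.S); (try generalize @Cfsg.Agent.H945.L16.Tx = g0); (try generalize @Cfsg.Agent.H945.L16.lR = g1); (try generalize @Cfsg.Agent.H945.L16.lN = g2); rfl') | exact @Cfsg.Agent.H945.L16.S | exact ()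
private theorem _root_.Cfsg.Agent.KOdd2348c.e36 : (by first | exact @Cfsg.Agent.H945.L16.S = @_root_.Cfsg.Agent.KOdd2348c.k36 | exact True : Prop) := by first | (delta _root_.Cfsg.Agent.KOdd2348c.k36; exact @Subtype.property _ (fun g => @Cfsg.Agent.H945.L16.S = @g) _) | rfl | trivial
private noncomputable def _root_.Cfsg.Agent.KOdd2348c.k37 : (by first | exact type_of% @Cfsg.Agent.H945.L16.sgx | exact Unit : Sort _) := by first | (refine @Subtype.val _ (fun g => @Cfsg.Agent.H945.L16.sgx = @g) (@Subtype.mk _ _ (@(fun (x0 : @Bool) (x1 : @Bool) => @Cfsg.Agent.H996.L16.Ex.add (@Cfsg.Agent.H996.L16.Ex.br (@Cfsg.Agent.KOdd2348c.k36 @x0 @Bool.true) (@Cfsg.Agent.H996.L16.Ex.op (nat_lit 0) (@Cfsg.Agent.KOdd2348c.k36 @Bool.false @x1))) (@Cfsg.Agent.H996.L16.Ex.br (@Cfsg.Agent.KOdd2348c.k36 @x0 @Bool.false) (@Cfsg.Agent.H996.L16.Ex.op (nat_lit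 0) (@Cfsg.Agent.KOdd2348c.k36 @Bool.true @x1))))) ?_); rewrite [← Cfsg.Agent.KOdd2348c.e36]; (try delta Cfsg.Agent.H945.L16.sgx); (try generalize @Cfsg.Agent.H945.L16.S = g0); rfl') | exact @Cfsg.Agent.H945.L16.sgx | exact ()
private theorem _root_.Cfsg.Agent.KOdd2348c.e37 : (by first | exact @Cfsg.Agent.H945.L16.sgx = @_root_.Cfsg.Agent.KOdd2348c.k37 | exact True : Prop) := by first | (delta _root_.Cfsg.Agent.KOdd2348c.k37; exact @Subtype.property _ (fun g => @Cfsg.Agent.H945.L16.sgx = @g) _) | rfl | trivial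
private noncomputable def _root_.Cfsg.Agent.KOdd2348c.oB.{ku} (α : Sort ku) (c : Bool) (f t : α) : α := @Decidable.rec (c = true) (fun _ => α) (fun _ => f) (fun _ => t) (instDecidableEqBool c true)
private noncomputable def _root_.Cfsg.Agent.KOdd2348c.k38.{ku} (α : Sort ku) (c : Bool) (f t : α) : α := @Bool.rec (fun _ => α) f t c
private theorem _root_.Cfsg.Agent.KOdd2348c.e38.{ku} : @_root_.Cfsg.Agent.KOdd2348c.oB.{ku} = @_root_.Cfsg.Agent.KOdd2348c.k38.{ku} := funext fun α => funext fun c => funext fun f => funext fun t => by cases c <;> rfl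
private noncomputable def _root_.Cfsg.Agent.KOdd2348c.k40 : (by first | exact type_of% @Cfsg.Agent.H996.L16.eqM | exact Unit : Sort _) := by first | (refine @Subtype.val _ (fun g => @Cfsg.Agent.H996.L16.eqM = @g) (@Subtype.mk _ _ (@(fun (x0 : @List.{0} @Nat) (x1 : @List.{0} @Nat) => @List.rec.{1, 0} @Nat @(fun (x2 : @List.{0} @Nat) => ((@List.{0} @Nat) → @Bool)) @(fun (x2 : @List.{0} @Nat) => @List.rec.{1, 0} @Nat @(fun (x3 : @List.{0} @Nat) => @Bool) @Bool.true @(fun (x3 : @Nat) (x4 : @List.{0} @Nat) (x5 : @Bool) => @Bool.false) @x2) @(fun (x2 : @Nat) (x3 : @List.{0} @Nat) (x4 : ((@List.{0} @Nat) → @Bool)) (x5 : @List.{0} @Nat) => @List.rec.{1, 0} @Nat @(fun (x6 : @List.{0} @Nat) => @Bool) @Bool.false @(fun (x6 : @Nat) (x7 : @List.{0} @Nat) (x8 : @Bool) => @Bool.rec.{1} @(fun (x9 : @Bool) => @Bool) @Bool.false (@x4 @x7) (@Nat.beq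 @x2 @x6)) @x5) @x0 @x1)) ?_); funext a0 a1; refine (congrFun (_root_.Cfsg.Agent.KOdd2348c.e4 (fun a0 a1 => @Cfsg.Agent.H996.L16.eqM a0 a1) ?_ (fun c0 c1 => ?_) a0) a1 :) <;> [(funext b0; (cases b0 with | @nil  => (rfl') | @cons b0_0 b0_1 => (rfl'))); (funext b0; (cases b0 with | @nil  => (rfl') | @cons b0_0 b0_1 => (rfl')))]) | exact @Cfsg.Agent.H996.L16.eqM | exact ()
private theorem _root_.Cfsg.Agent.KOdd2348c.e40 : (by first | exact @Cfsg.Agent.H996.L16.eqM = @_root_.Cfsg.Agent.KOdd2348c.k40 | exact True : Prop) := by first | (delta _root_.Cfsg.Agent.KOdd2348c.k40; exact @Subtype.property _ (fun g => @Cfsg.Agent.H996.L16.eqM = @g) _) | rfl | trivial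
private noncomputable def _root_.Cfsg.Agent.KOdd2348c.k41 : (by first | exact type_of% @Cfsg.Agent.H996.L16.ins | exact Unit : Sort _) := by first | (refine @Subtype.val _ (fun g => @Cfsg.Agent.H996.L16.ins = @g) (@Subtype.mk _ _ (@(fun (x0 : @Prod.{0, 0} @Nat (@List.{0} @Nat)) (x1 : @Cfsg.Agent.H996.L16.Vec) => @List.rec.{1, 0} (@Prod.{0, 0} @Nat (@List.{0} @Nat)) @(fun (x2 : @Cfsg.Agent.H996.L16.Vec) => @Cfsg.Agent.H996.L16.Vec) (@List.cons.{0} (@Prod.{0, 0} @Nat (@List.{0} @Nat)) @x0 (@List.nil.{0} (@Prod.{0, 0} @Nat (@List.{0} @Nat)))) @(fun (x2 : @Prod.{0, 0} @Nat (@List.{0} @Nat)) (x3 : @List.{0} (@Prod.{0, 0} @Nat (@List.{0} @Nat))) (x4 : @Cfsg.Agent.H996.L16.Vec) => @Cfsg.Agent.KOdd2348c.k38.{1} @Cfsg.Agent.H996.L16.Vec (@Bool.rec.{1} @(fun (x5 : @Bool) => @Bool) @Bool.false (@Cfsg.Agent.KOdd2348c.k40 (@Prod.snd.{0, 0} @Nat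 (@List.{0} @Nat) @x0) (@Prod.snd.{0, 0} @Nat (@List.{0} @Nat) @x2)) (@Nat.beq (@Prod.fst.{0, 0} @Nat (@List.{0} @Nat) @x0) (@Prod.fst.{0, 0} @Nat (@List.{0} @Nat) @x2))) (@List.cons.{0} (@Prod.{0, 0} @Nat (@List.{0} @Nat)) @x2 @x4) @x3) @x1)) ?_); rewrite [← Cfsg.Agent.KOdd2348c.e38.{1}, ← Cfsg.Agent.KOdd2348c.e40]; funext a0 a1; refine (_root_.Cfsg.Agent.KOdd2348c.e4 (fun a1 => @Cfsg.Agent.H996.L16.ins a0 a1) ?_ (fun c0 c1 => ?_) a1 :) <;> ((try delta Cfsg.Agent.H996.L16.ins Cfsg.Agent.H996.L16.ins._f); (try generalize @Cfsg.Agent.H996.L16.eqM = g0); rfl')) | exact @Cfsg.Agent.H996.L16.ins | exact ()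
private theorem _root_.Cfsg.Agent.KOdd2348c.e41 : (by first | exact @Cfsg.Agent.H996.L16.ins = @_root_.Cfsg.Agent.KOdd2348c.k41 | exact True : Prop) := by first | (delta _root_.Cfsg.Agent.KOdd2348c.k41; exact @Subtype.property _ (fun g => @Cfsg.Agent.H996.L16.ins = @g) _) | rfl | trivial
private noncomputable def _root_.Cfsg.Agent.KOdd2348c.k42 : (by first | exact type_of% @Cfsg.Agent.H996.L16.nrm | exact Unit : Sort _) := by first | (refine @Subtype.val _ (fun g => @Cfsg.Agent.H996.L16.nrm = @g) (@Subtype.mk _ _ (@(fun (x0 : @Cfsg.Agent.H996.L16.Vec) => @List.rec.{1, 0} (@Prod.{0, 0} @Nat (@List.{0} @Nat)) @(fun (x1 : @Cfsg.Agent.H996.L16.Vec) => @Cfsg.Agent.H996.L16.Vec) (@List.nil.{0} (@Prod.{0, 0} @Nat (@List.{0} @Nat))) @(fun (x1 : @Prod.{0, 0} @Nat (@List.{0} @Nat)) (x2 : @List.{0} (@Prod.{0, 0} @Nat (@List.{0} @Nat))) (x3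 : @Cfsg.Agent.H996.L16.Vec) => @Cfsg.Agent.KOdd2348c.k41 @x1 @x3) @x0)) ?_); rewrite [← Cfsg.Agent.KOdd2348c.e41]; funext a0; refine (_root_.Cfsg.Agent.KOdd2348c.e4 (fun a0 => @Cfsg.Agent.H996.L16.nrm a0) ?_ (fun c0 c1 => ?_) a0 :) <;> ((try delta Cfsg.Agent.H996.L16.nrm Cfsg.Agent.H996.L16.nrm._f); (try generalize @Cfsg.Agent.H996.L16.ins = g0); rfl')) | exact @Cfsg.Agent.H996.L16.nrm | exact ()
private theorem _root_.Cfsg.Agent.KOdd2348c.e42 : (by first | exact @Cfsg.Agent.H996.L16.nrm = @_root_.Cfsg.Agent.KOdd2348c.k42 | exact True : Prop) := by first | (delta _root_.Cfsg.Agent.KOdd2348c.k42; exact @Subtype.property _ (fun g => @Cfsg.Agent.H996.L16.nrm = @g) _) | rfl | trivial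
private noncomputable def _root_.Cfsg.Agent.KOdd2348c.k43 : (by first | exact type_of% @Cfsg.Agent.H996.L16.trM | exact Unit : Sort _) := by first | (refine @Subtype.val _ (fun g => @Cfsg.Agent.H996.L16.trM = @g) (@Subtype.mk _ _ (@(fun (x0 : @List.{0} @Nat) => @List.rec.{1, 0} @Nat @(fun (x1 : @List.{0} @Nat) => @List.{0} @Nat) (@List.nil.{0} @Nat) @(fun (x1 : @Nat) (x2 : @List.{0} @Nat) (x3 : @List.{0} @Nat) => @Cfsg.Agent.KOdd2348c.k38.{1} (@List.{0} @Nat) (@Bool.rec.{1} @(fun (x4 : @Bool) => @Bool) @Bool.false (@List.rec.{1, 0} @Nat @(fun (x4 : @List.{0} @Nat) => @Bool) @Bool.true @(fun (x4 : @Nat) (x5 : @List.{0} @Nat) (x6 : @Bool) => @Bool.false) @x3) (@Nat.beq @x1 (nat_lit 0))) (@List.cons.{0} @Nat @x1 @x3) (@List.nil.{0} @Nat)) @x0)) ?_); rewrite [← Cfsg.Agent.KOdd2348c.e38.{1}]; funext a0; refine (_root_.Cfsg.Agent.KOdd2348c.e4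 (fun a0 => @Cfsg.Agent.H996.L16.trM a0) ?_ (fun c0 c1 => ?_) a0 :) <;> (rfl')) | exact @Cfsg.Agent.H996.L16.trM | exact ()
private theorem _root_.Cfsg.Agent.KOdd2348c.e43 : (by first | exact @Cfsg.Agent.H996.L16.trM = @_root_.Cfsg.Agent.KOdd2348c.k43 | exact True : Prop) := by first | (delta _root_.Cfsg.Agent.KOdd2348c.k43; exact @Subtype.property _ (fun g => @Cfsg.Agent.H996.L16.trM = @g) _) | rfl | trivial
private noncomputable def _root_.Cfsg.Agent.KOdd2348c.k44 : (by first | exact type_of% @Cfsg.Agent.H996.L16.trV | exact Unit : Sort _) := by first | (refine @Subtype.val _ (fun g => @Cfsg.Agent.H996.L16.trV = @g) (@Subtype.mk _ _ (@(fun (x0 : @Cfsg.Agent.H996.L16.Vec) => @List.rec.{1, 0} (@Prod.{0, 0} @Nat (@List.{0} @Nat)) @(fun (x1 : @Cfsg.Agent.H996.L16.Vec) => @Cfsg.Agent.H996.L16.Vec) (@List.nil.{0} (@Prod.{0, 0} @Nat (@List.{0}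 @Nat))) @(fun (x1 : @Prod.{0, 0} @Nat (@List.{0} @Nat)) (x2 : @List.{0} (@Prod.{0, 0} @Nat (@List.{0} @Nat))) (x3 : @Cfsg.Agent.H996.L16.Vec) => @List.cons.{0} (@Prod.{0, 0} @Nat (@List.{0} @Nat)) (@Prod.mk.{0, 0} @Nat (@List.{0} @Nat) (@Prod.fst.{0, 0} @Nat (@List.{0} @Nat) @x1) (@Cfsg.Agent.KOdd2348c.k43 (@Prod.snd.{0, 0} @Nat (@List.{0} @Nat) @x1))) @x3) @x0)) ?_); rewrite [← Cfsg.Agent.KOdd2348c.e43]; funext a0; refine (_root_.Cfsg.Agent.KOdd2348c.e4 (fun a0 => @Cfsg.Agent.H996.L16.trV a0) ?_ (fun c0 c1 => ?_) a0 :) <;> ((try delta Cfsg.Agent.H996.L16.trV Cfsg.Agent.H996.L16.trV._f); (try generalize @Cfsg.Agent.H996.L16.trM = g0); rfl')) | exact @Cfsg.Agent.H996.L16.trV | exact ()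
private theorem _root_.Cfsg.Agent.KOdd2348c.e44 : (by first | exact @Cfsg.Agent.H996.L16.trV = @_root_.Cfsg.Agent.KOdd2348c.k44 | exact True : Prop) := by first | (delta _root_.Cfsg.Agent.KOdd2348c.k44; exact @Subtype.property _ (fun g => @Cfsg.Agent.H996.L16.trV = @g) _) | rfl | trivial
private noncomputable def _root_.Cfsg.Agent.KOdd2348c.k45.{ku0, ku1} : ((x0 : Sort (ku0+1)) → ((x1 : Sort (ku1+1)) → ((x0 → x1) → ((@List.{ku0} @x0) → @List.{ku1} @x1)))) := @(fun (x0 : Sort (ku0+1)) (x1 : Sort (ku1+1)) (x2 : (x0 → x1)) (x3 : @List.{ku0} @x0) => @List.rec.{(ku1+1), ku0} @x0 @(fun (x4 : @List.{ku0} @x0) => @List.{ku1} @x1) (@List.nil.{ku1} @x1) @(fun (x4 : x0) (x5 : @List.{ku0} @x0) (x6 : @List.{ku1} @x1) => @List.cons.{ku1} @x1 (@x2 @x4) @x6) @x3)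
private theorem _root_.Cfsg.Agent.KOdd2348c.e45.{ku0, ku1} : @List.map.{ku0, ku1} = @_root_.Cfsg.Agent.KOdd2348c.k45.{ku0, ku1} := by delta _root_.Cfsg.Agent.KOdd2348c.k45; funext a0 a1 a2 a3; refine (_root_.Cfsg.Agent.KOdd2348c.e4 (fun a3 => @List.map.{ku0, ku1} a0 a1 a2 a3) ?_ (fun c0 c1 => ?_) a3 :) <;> (rfl')
private noncomputable def _root_.Cfsg.Agent.KOdd2348c.k46 : (by first | exact type_of% @Cfsg.Agent.H996.L16.asV | exact Unit : Sort _) := by first | (refine @Subtype.val _ (fun g => @Cfsg.Agent.H996.L16.asV = @g) (@Subtype.mk _ _ (@(fun (x0 : @List.{0} (@List.{0} @Nat)) => @Cfsg.Agent.KOdd2348c.k45.{0, 0} (@List.{0} @Nat) (@Prod.{0, 0} @Nat (@List.{0} @Nat)) @(fun (x1 : @List.{0} @Nat) => @Prod.mk.{0, 0} @Nat (@List.{0} @Nat) (nat_lit 0) @x1) @x0)) ?_); rewrite [← Cfsg.Agent.KOdd2348c.e45.{0, 0}]; rfl') | exact @Cfsg.Agent.H996.L16.asV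 | exact ()
private theorem _root_.Cfsg.Agent.KOdd2348c.e46 : (by first | exact @Cfsg.Agent.H996.L16.asV = @_root_.Cfsg.Agent.KOdd2348c.k46 | exact True : Prop) := by first | (delta _root_.Cfsg.Agent.KOdd2348c.k46; exact @Subtype.property _ (fun g => @Cfsg.Agent.H996.L16.asV = @g) _) | rfl | trivial
private noncomputable def _root_.Cfsg.Agent.KOdd2348c.k47.{ku0} : ((x0 : Sort (ku0+1)) → ((@List.{ku0} @x0) → ((@List.{ku0} @x0) → @List.{ku0} @x0))) := @(fun (x0 : Sort (ku0+1)) (x1 : @List.{ku0} @x0) (x2 : @List.{ku0} @x0) => @List.rec.{(ku0+1), ku0} @x0 @(fun (x3 : @List.{ku0} @x0) => ((@List.{ku0} @x0) → @List.{ku0} @x0)) @(fun (x3 : @List.{ku0} @x0) => x3) @(fun (x3 : x0) (x4 : @List.{ku0} @x0) (x5 : ((@List.{ku0} @x0) → @List.{ku0} @x0)) (x6 : @List.{ku0} @x0) => @List.cons.{ku0} @x0 @x3 (@x5 @x6)) @x1 @x2)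
private theorem _root_.Cfsg.Agent.KOdd2348c.e47.{ku0} : @List.append.{ku0} = @_root_.Cfsg.Agent.KOdd2348c.k47.{ku0} := by delta _root_.Cfsg.Agent.KOdd2348c.k47; funext a0 a1 a2; refine (congrFun (_root_.Cfsg.Agent.KOdd2348c.e4 (fun a1 a2 => @List.append.{ku0} a0 a1 a2) ?_ (fun c0 c1 => ?_) a1) a2 :) <;> (rfl')
private noncomputable def _root_.Cfsg.Agent.KOdd2348c.k48 : (by first | exact type_of% @Cfsg.Agent.H996.L16.eqP | exact Unit : Sort _) := by first | (refine @Subtype.val _ (fun g => @Cfsg.Agent.H996.L16.eqP = @g) (@Subtype.mk _ _ (@(fun (x0 : @List.{0} (@List.{0} @Nat)) (x1 : @List.{0} (@List.{0} @Nat)) => @List.rec.{1, 0} (@Prod.{0, 0} @Nat (@List.{0} @Nat)) @(fun (x2 : @List.{0} (@Prod.{0, 0} @Nat (@List.{0} @Nat))) => @Bool) @Bool.true @(fun (x2 : @Prod.{0, 0} @Nat (@List.{0} @Nat)) (x3 : @List.{0} (@Prod.{0, 0} @Nat (@List.{0}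 @Nat))) (x4 : @Bool) => @Bool.false) (@Cfsg.Agent.KOdd2348c.k42 (@Cfsg.Agent.KOdd2348c.k44 (@Cfsg.Agent.KOdd2348c.k46 (@Cfsg.Agent.KOdd2348c.k47.{0} (@List.{0} @Nat) @x0 @x1)))))) ?_); rewrite [← Cfsg.Agent.KOdd2348c.e42, ← Cfsg.Agent.KOdd2348c.e44, ← Cfsg.Agent.KOdd2348c.e46, ← Cfsg.Agent.KOdd2348c.e47.{0}]; (try delta Cfsg.Agent.H996.L16.eqP); (try generalize @Cfsg.Agent.H996.L16.nrm = g0); (try generalize @Cfsg.Agent.H996.L16.trV = g1); (try generalize @Cfsg.Agent.H996.L16.asV = g2); rfl') | exact @Cfsg.Agent.H996.L16.eqP | exact ()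
private theorem _root_.Cfsg.Agent.KOdd2348c.e48 : (by first | exact @Cfsg.Agent.H996.L16.eqP = @_root_.Cfsg.Agent.KOdd2348c.k48 | exact True : Prop) := by first | (delta _root_.Cfsg.Agent.KOdd2348c.k48; exact @Subtype.property _ (fun g => @Cfsg.Agent.H996.L16.eqP = @g) _) | rfl | trivial
private noncomputable def _root_.Cfsg.Agent.KOdd2348c.k49 : (by first | exact type_of% @Cfsg.Agent.H996.L16.co | exact Unit : Sort _) := by first | (refine @Subtype.val _ (fun g => @Cfsg.Agent.H996.L16.co = @g) (@Subtype.mk _ _ (@(fun (x0 : @Nat) (x1 : @Cfsg.Agent.H996.L16.Vec) => @List.rec.{1, 0} (@Prod.{0, 0} @Nat (@List.{0} @Nat)) @(fun (x2 : @Cfsg.Agent.H996.L16.Vec) => @List.{0} (@List.{0} @Nat)) (@List.nil.{0} (@List.{0} @Nat)) @(fun (x2 : @Prod.{0, 0} @Nat (@List.{0} @Nat)) (x3 : @List.{0} (@Prod.{0, 0} @Nat (@List.{0} @Nat))) (x4 : @List.{0}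 (@List.{0} @Nat)) => @Cfsg.Agent.KOdd2348c.k38.{1} (@List.{0} (@List.{0} @Nat)) (@Nat.beq (@Prod.fst.{0, 0} @Nat (@List.{0} @Nat) @x2) @x0) @x4 (@List.cons.{0} (@List.{0} @Nat) (@Prod.snd.{0, 0} @Nat (@List.{0} @Nat) @x2) @x4)) @x1)) ?_); rewrite [← Cfsg.Agent.KOdd2348c.e38.{1}]; funext a0 a1; refine (_root_.Cfsg.Agent.KOdd2348c.e4 (fun a1 => @Cfsg.Agent.H996.L16.co a0 a1) ?_ (fun c0 c1 => ?_) a1 :) <;> (rfl')) | exact @Cfsg.Agent.H996.L16.co | exact ()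
private theorem _root_.Cfsg.Agent.KOdd2348c.e49 : (by first | exact @Cfsg.Agent.H996.L16.co = @_root_.Cfsg.Agent.KOdd2348c.k49 | exact True : Prop) := by first | (delta _root_.Cfsg.Agent.KOdd2348c.k49; exact @Subtype.property _ (fun g => @Cfsg.Agent.H996.L16.co = @g) _) | rfl | trivial
private noncomputable def _root_.Cfsg.Agent.KOdd2348c.k50 : (by first | exact type_of% @Cfsg.Agent.H996.L16.Ex.chk | exact Unit : Sort _) := by first | (refine @Subtype.val _ (fun g => @Cfsg.Agent.H996.L16.Ex.chk = @g) (@Subtype.mk _ _ (@(fun (x0 : (@Nat → (@Nat → @List.{0} @Nat))) (x1 : (@Nat → (@Nat → @List.{0} @Nat))) (x2 : (@Nat → @Nat)) (x3 : @Cfsg.Agent.H996.L16.Ex) (x4 : @Nat) (x5 : @List.{0} (@List.{0} @Nat)) => @Cfsg.Agent.KOdd2348c.k48 (@Cfsg.Agent.KOdd2348c.k49 @x4 (@Cfsg.Agent.H996.L16.Ex.raw @x0 @x1 @x2 @x3)) @x5)) ?_); rewrite [← Cfsg.Agent.KOdd2348c.e48,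 ← Cfsg.Agent.KOdd2348c.e49]; (try delta Cfsg.Agent.H996.L16.Ex.chk); (try generalize @Cfsg.Agent.H996.L16.eqP = g0); (try generalize @Cfsg.Agent.H996.L16.co = g1); (try generalize @Cfsg.Agent.H996.L16.Ex.raw = g2); rfl') | exact @Cfsg.Agent.H996.L16.Ex.chk | exact ()
private theorem _root_.Cfsg.Agent.KOdd2348c.e50 : (by first | exact @Cfsg.Agent.H996.L16.Ex.chk = @_root_.Cfsg.Agent.KOdd2348c.k50 | exact True : Prop) := by first | (delta _root_.Cfsg.Agent.KOdd2348c.k50; exact @Subtype.property _ (fun g => @Cfsg.Agent.H996.L16.Ex.chk = @g) _) | rfl | trivial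
private noncomputable def _root_.Cfsg.Agent.KOdd2348c.k51.{ku0, ku1} : ((x0 : Sort (ku0+1)) → ((x1 : Sort (ku1+1)) → ((x0 → (x1 → x1)) → (x1 → ((@List.{ku0} @x0) → x1))))) := @(fun (x0 : Sort (ku0+1)) (x1 : Sort (ku1+1)) (x2 : (x0 → (x1 → x1))) (x3 : x1) (x4 : @List.{ku0} @x0) => @List.rec.{(ku1+1), ku0} @x0 @(fun (x5 : @List.{ku0} @x0) => x1) @x3 @(fun (x5 : x0) (x6 : @List.{ku0} @x0) (x7 : x1) => @x2 @x5 @x7) @x4)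
private theorem _root_.Cfsg.Agent.KOdd2348c.e51.{ku0, ku1} : @List.foldr.{ku0, ku1} = @_root_.Cfsg.Agent.KOdd2348c.k51.{ku0, ku1} := by delta _root_.Cfsg.Agent.KOdd2348c.k51; funext a0 a1 a2 a3 a4; refine (_root_.Cfsg.Agent.KOdd2348c.e4 (fun a4 => @List.foldr.{ku0, ku1} a0 a1 a2 a3 a4) ?_ (fun c0 c1 => ?_) a4 :) <;> (rfl')
private noncomputable def _root_.Cfsg.Agent.KOdd2348c.k52 : (by first | exact type_of% @Cfsg.Agent.H996.L16.ct | exact Unit : Sort _) := by first | (refine @Subtype.val _ (fun g => @Cfsg.Agent.H996.L16.ct = @g) (@Subtype.mk _ _ (@(fun (x0 : @Nat) => @Cfsg.Agent.KOdd2348c.k51.{0, 0} @Nat (@List.{0} @Nat) @(fun (x1 : @Nat) (x2 : @List.{0} @Nat) => @Cfsg.Agent.KOdd2348c.k38.{1} (@List.{0} @Nat) (@Cfsg.Agent.KOdd2348c.k18 @Cfsg.Agent.H996.L16.CO (@Nat.add (@Nat.mul (nat_lit 8) @x0) @x1)) @x2 (@List.cons.{0} @Nat (@Nat.add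 (nat_lit 240) @x1) @x2)) (@List.nil.{0} @Nat) (@Cfsg.Agent.KOdd2348c.k15 (nat_lit 8) (@List.nil.{0} @Nat)))) ?_); rewrite [← Cfsg.Agent.KOdd2348c.e51.{0, 0}, ← Cfsg.Agent.KOdd2348c.e38.{1}, ← Cfsg.Agent.KOdd2348c.e18, ← Cfsg.Agent.KOdd2348c.e15]; (try delta Cfsg.Agent.H996.L16.ct); (try generalize @Cfsg.Agent.H996.L16.bit = g0); (try generalize @Cfsg.Agent.H996.L16.CO = g1); rfl') | exact @Cfsg.Agent.H996.L16.ct | exact ()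
private theorem _root_.Cfsg.Agent.KOdd2348c.e52 : (by first | exact @Cfsg.Agent.H996.L16.ct = @_root_.Cfsg.Agent.KOdd2348c.k52 | exact True : Prop) := by first | (delta _root_.Cfsg.Agent.KOdd2348c.k52; exact @Subtype.property _ (fun g => @Cfsg.Agent.H996.L16.ct = @g) _) | rfl | trivial
private noncomputable def _root_.Cfsg.Agent.KOdd2348c.k53 : (by first | exact type_of% @Cfsg.Agent.H996.L16.bt | exact Unit : Sort _) := by first | (refine @Subtype.val _ (fun g => @Cfsg.Agent.H996.L16.bt = @g) (@Subtype.mk _ _ (@(fun (x0 : @Nat) (x1 : @Nat) => @Cfsg.Agent.KOdd2348c.k38.{1} (@List.{0} @Nat) (@Nat.ble (@Nat.succ @x0) (nat_lit 240)) (@Cfsg.Agent.KOdd2348c.k38.{1} (@List.{0} @Nat) (@Bool.rec.{1} @(fun (x2 : @Bool) => @Bool) @Bool.false (@Bool.rec.{1} @(fun (x2 : @Bool) => @Bool) @Bool.false (@Cfsg.Agent.KOdd2348c.k18 @Cfsg.Agent.H996.L16.CA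 (@Nat.add (@Nat.mul (nat_lit 8) @x1) (@Nat.sub @x0 (nat_lit 240)))) (@Nat.ble (@Nat.succ @x0) (nat_lit 248))) (@Nat.ble (@Nat.succ @x1) (nat_lit 240))) (@List.nil.{0} @Nat) (@List.cons.{0} @Nat @x1 (@List.nil.{0} @Nat))) (@Cfsg.Agent.KOdd2348c.k38.{1} (@List.{0} @Nat) (@Nat.ble (@Nat.succ @x1) (nat_lit 240)) (@Cfsg.Agent.KOdd2348c.k38.{1} (@List.{0} @Nat) (@Bool.rec.{1} @(fun (x2 : @Bool) => @Bool) @Bool.false (@Cfsg.Agent.KOdd2348c.k18 @Cfsg.Agent.H996.L16.CA (@Nat.add (@Nat.mul (nat_lit 8) @x0) (@Nat.sub @x1 (nat_lit 240)))) (@Nat.ble (@Nat.succ @x1) (nat_lit 248))) (@List.nil.{0} @Nat) (@List.cons.{0} @Nat @x0 (@List.nil.{0} @Nat))) (@Cfsg.Agent.KOdd2348c.k38.{1} (@List.{0} @Nat) (@Nat.beq (@Nat.add @x0 @x1) (nat_lit 239)) (@Cfsg.Agent.KOdd2348c.k38.{1} (@List.{0} @Nat) (@Nat.ble (@Nat.succ (@Cfsg.Agent.KOdd2348c.k8 @x0 @x1))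 (nat_lit 240)) (@List.nil.{0} @Nat) (@List.cons.{0} @Nat (@Cfsg.Agent.KOdd2348c.k8 @x0 @x1) (@List.nil.{0} @Nat))) (@Cfsg.Agent.KOdd2348c.k52 @x0))))) ?_); rewrite [← Cfsg.Agent.KOdd2348c.e38.{1}, ← Cfsg.Agent.KOdd2348c.e18, ← Cfsg.Agent.KOdd2348c.e8, ← Cfsg.Agent.KOdd2348c.e52]; (try delta Cfsg.Agent.H996.L16.bt); (try generalize @Cfsg.Agent.H996.L16.bit = g0); (try generalize @Cfsg.Agent.H996.L16.CA = g1); (try generalize @Cfsg.Agent.H996.L16.tgT = g2); (try generalize @Cfsg.Agent.H996.L16.ct = g3); rfl') | exact @Cfsg.Agent.H996.L16.bt | exact ()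
private theorem _root_.Cfsg.Agent.KOdd2348c.e53 : (by first | exact @Cfsg.Agent.H996.L16.bt = @_root_.Cfsg.Agent.KOdd2348c.k53 | exact True : Prop) := by first | (delta _root_.Cfsg.Agent.KOdd2348c.k53; exact @Subtype.property _ (fun g => @Cfsg.Agent.H996.L16.bt = @g) _) | rfl | trivial
private noncomputable def _root_.Cfsg.Agent.KOdd2348c.k54 : (by first | exact type_of% @Cfsg.Agent.H996.L16.pT | exact Unit : Sort _) := by first | (refine @Subtype.val _ (fun g => @Cfsg.Agent.H996.L16.pT = @g) (@Subtype.mk _ _ (@(fun (x0 : (@Nat → @Nat)) (x1 : @Nat) => @Cfsg.Agent.KOdd2348c.k38.{1} (@List.{0} @Nat) (@Nat.ble (@Nat.succ @x1) (nat_lit 240)) (@Cfsg.Agent.KOdd2348c.k38.{1} (@List.{0} @Nat) (@Nat.ble (@Nat.succ @x1) (nat_lit 248)) (@List.nil.{0} @Nat) (@Cfsg.Agent.KOdd2348c.k52 (@x0 (@Option.rec.{1, 0} @Nat @(fun (x2 : @Option.{0} @Nat)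 => @Nat) (nat_lit 0) @(fun (x2 : @Nat) => x2) (@Cfsg.Agent.KOdd2348c.k6.{0} @Nat @Cfsg.Agent.H996.L16.six' (@Nat.sub @x1 (nat_lit 240))))))) (@List.cons.{0} @Nat (@x0 @x1) (@List.nil.{0} @Nat)))) ?_); rewrite [← Cfsg.Agent.KOdd2348c.e38.{1}, ← Cfsg.Agent.KOdd2348c.e52, ← Cfsg.Agent.KOdd2348c.e6.{0}]; (try delta Cfsg.Agent.H996.L16.pT); (try generalize @Cfsg.Agent.H996.L16.ct = g0); (try generalize @Cfsg.Agent.H996.L16.six' = g1); rfl') | exact @Cfsg.Agent.H996.L16.pT | exact ()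
private theorem _root_.Cfsg.Agent.KOdd2348c.e54 : (by first | exact @Cfsg.Agent.H996.L16.pT = @_root_.Cfsg.Agent.KOdd2348c.k54 | exact True : Prop) := by first | (delta _root_.Cfsg.Agent.KOdd2348c.k54; exact @Subtype.property _ (fun g => @Cfsg.Agent.H996.L16.pT = @g) _) | rfl | trivial
private noncomputable def _root_.Cfsg.Agent.KOdd2348c.k55 : (by first | exact type_of% @Cfsg.Agent.H996.L16.xT | exact Unit : Sort _) := by first | (refine @Subtype.val _ (fun g => @Cfsg.Agent.H996.L16.xT = @g) (@Subtype.mk _ _ (@(fun (x0 : @Nat) (x1 : @Nat) => @List.cons.{0} @Nat @x1 (@Cfsg.Agent.KOdd2348c.k47.{0} @Nat (@Cfsg.Agent.KOdd2348c.k53 @x0 @x1) (@Cfsg.Agent.KOdd2348c.k38.{1} (@List.{0} @Nat) (@Nat.beq (@Nat.add @x0 @x1) (nat_lit 239)) (@List.nil.{0} @Nat) (@List.cons.{0} @Nat @x0 (@List.nil.{0} @Nat)))))) ?_); rewrite [← Cfsg.Agent.KOdd2348c.e47.{0},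 ← Cfsg.Agent.KOdd2348c.e53, ← Cfsg.Agent.KOdd2348c.e38.{1}]; (try delta Cfsg.Agent.H996.L16.xT); (try generalize @Cfsg.Agent.H996.L16.bt = g0); rfl') | exact @Cfsg.Agent.H996.L16.xT | exact ()
private theorem _root_.Cfsg.Agent.KOdd2348c.e55 : (by first | exact @Cfsg.Agent.H996.L16.xT = @_root_.Cfsg.Agent.KOdd2348c.k55 | exact True : Prop) := by first | (delta _root_.Cfsg.Agent.KOdd2348c.k55; exact @Subtype.property _ (fun g => @Cfsg.Agent.H996.L16.xT = @g) _) | rfl | trivial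
private noncomputable def _root_.Cfsg.Agent.KOdd2348c.k56 : (by first | exact type_of% @Cfsg.Agent.H996.L16.tb2 | exact Unit : Sort _) := by first | (refine @Subtype.val _ (fun g => @Cfsg.Agent.H996.L16.tb2 = @g) (@Subtype.mk _ _ (@(fun (x0 : @Nat) (x1 : @Nat) => @Cfsg.Agent.KOdd2348c.k38.{1} (@List.{0} @Nat) (@Bool.rec.{1} @(fun (x2 : @Bool) => @Bool) @Bool.false (@Nat.ble (@Nat.succ @x0) (nat_lit 248)) (@Nat.ble (nat_lit 8) @x0)) (@List.cons.{0} @Nat @x1 (@List.nil.{0} @Nat)) (@Cfsg.Agent.KOdd2348c.k55 (@Nat.sub @x0 (nat_lit 8)) @x1))) ?_); rewrite [← Cfsg.Agent.KOdd2348c.e38.{1}, ← Cfsg.Agent.KOdd2348c.e55]; (try delta Cfsg.Agent.H996.L16.tb2); (try generalize @Cfsg.Agent.H996.L16.xT = g0); rfl') | exact @Cfsg.Agent.H996.L16.tb2 | exact ()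
private theorem _root_.Cfsg.Agent.KOdd2348c.e56 : (by first | exact @Cfsg.Agent.H996.L16.tb2 = @_root_.Cfsg.Agent.KOdd2348c.k56 | exact True : Prop) := by first | (delta _root_.Cfsg.Agent.KOdd2348c.k56; exact @Subtype.property _ (fun g => @Cfsg.Agent.H996.L16.tb2 = @g) _) | rfl | trivial
private noncomputable def _root_.Cfsg.Agent.KOdd2348c.k57 : (by first | exact type_of% @Cfsg.Agent.H996.L16.tb | exact Unit : Sort _) := by first | (refine @Subtype.val _ (fun g => @Cfsg.Agent.H996.L16.tb = @g) (@Subtype.mk _ _ (@(fun (x0 : @Nat) (x1 : @Nat) => @Nat.rec.{1} @(fun (x2 : @Nat) => @List.{0} @Nat) (@Cfsg.Agent.KOdd2348c.k54 @Cfsg.Agent.KOdd2348c.k33 @x1) @(fun (x2 : @Nat) (x3 : @List.{0} @Nat) => @Nat.rec.{1} @(fun (x4 : @Nat) => @List.{0} @Nat) (@Cfsg.Agent.KOdd2348c.k54 @(fun (x4 : @Nat) => @Option.rec.{1, 0} @Nat @(fun (x5 : @Option.{0}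 @Nat) => @Nat) (nat_lit 240) @(fun (x5 : @Nat) => x5) (@Cfsg.Agent.KOdd2348c.k6.{0} @Nat @Cfsg.Agent.H939.L16.WT (@Option.rec.{1, 0} @Nat @(fun (x5 : @Option.{0} @Nat) => @Nat) (nat_lit 240) @(fun (x5 : @Nat) => x5) (@Cfsg.Agent.KOdd2348c.k6.{0} @Nat @Cfsg.Agent.H939.L16.WT (@Option.rec.{1, 0} @Nat @(fun (x5 : @Option.{0} @Nat) => @Nat) (nat_lit 240) @(fun (x5 : @Nat) => x5) (@Cfsg.Agent.KOdd2348c.k6.{0} @Nat @Cfsg.Agent.H939.L16.WT (@Option.rec.{1, 0} @Nat @(fun (x5 : @Option.{0} @Nat) => @Nat) (nat_lit 240) @(fun (x5 : @Nat) => x5) (@Cfsg.Agent.KOdd2348c.k6.{0} @Nat @Cfsg.Agent.H939.L16.WT @x4)))))))) @x1) @(fun (x4 : @Nat) (x5 : @List.{0} @Nat) => @Cfsg.Agent.KOdd2348c.k56 @x4 @x1) @x2) @x0)) ?_); rewrite [← Cfsg.Agent.KOdd2348c.e54, ← Cfsg.Agent.KOdd2348c.e33, ← Cfsg.Agent.KOdd2348c.e6.{0}, ← Cfsg.Agent.KOdd2348c.e56]; (try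 delta Cfsg.Agent.H996.L16.tb Cfsg.Agent.H939.L16.wi); (try generalize @Cfsg.Agent.H996.L16.pT = g0); (try generalize @Cfsg.Agent.H939.L16.WT = g1); (try generalize @Cfsg.Agent.H996.L16.tb2 = g2); rfl') | exact @Cfsg.Agent.H996.L16.tb | exact ()
private theorem _root_.Cfsg.Agent.KOdd2348c.e57 : (by first | exact @Cfsg.Agent.H996.L16.tb = @_root_.Cfsg.Agent.KOdd2348c.k57 | exact True : Prop) := by first | (delta _root_.Cfsg.Agent.KOdd2348c.k57; exact @Subtype.property _ (fun g => @Cfsg.Agent.H996.L16.tb = @g) _) | rfl | trivial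
private noncomputable def _root_.Cfsg.Agent.KOdd2348c.k58 : (by first | exact type_of% @Cfsg.Agent.H996.L16.ks | exact Unit : Sort _) := by first | (refine @Subtype.val _ (fun g => @Cfsg.Agent.H996.L16.ks = @g) (@Subtype.mk _ _ (@(fun (x0 : @Nat) => @Cfsg.Agent.KOdd2348c.k38.{1} @Nat (@Nat.beq @x0 (nat_lit 0)) (nat_lit 1) (nat_lit 2))) ?_); rewrite [← Cfsg.Agent.KOdd2348c.e38.{1}]; rfl') | exact @Cfsg.Agent.H996.L16.ks | exact ()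
private theorem _root_.Cfsg.Agent.KOdd2348c.e58 : (by first | exact @Cfsg.Agent.H996.L16.ks = @_root_.Cfsg.Agent.KOdd2348c.k58 | exact True : Prop) := by first | (delta _root_.Cfsg.Agent.KOdd2348c.k58; exact @Subtype.property _ (fun g => @Cfsg.Agent.H996.L16.ks = @g) _) | rfl | trivial

private noncomputable def _root_.Cfsg.Agent.LsF.f56c983_4 : {f // @Cfsg.Agent.H996.L16.trm = f} := ⟨_, by first | (delta Cfsg.Agent.H996.L16.trm List.brecOn List.brecOn.go Cfsg.Agent.H996.L16.trm._f; (try delta Cfsg.Agent.H996.L16.powM.match_1); (try delta List.casesOn); first | dsimp -zeta only | exact rfl) | exact rfl⟩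
private noncomputable def _root_.Cfsg.Agent.LsF.f56c983_5 : {f // @Cfsg.Agent.H996.L16.mulM = f} := ⟨_, by first | (delta Cfsg.Agent.H996.L16.mulM List.brecOn List.brecOn.go Cfsg.Agent.H996.L16.mulM._f; rewrite [Cfsg.Agent.LsF.nadd_pat]; (try delta Cfsg.Agent.H996.L16.mulM.match_1); (try delta List.casesOn); first | dsimp -zeta only | exact rfl) | exact rfl⟩
private noncomputable def _root_.Cfsg.Agent.LsF.f56c983_6 : {f // @Cfsg.Agent.H996.L16.br1 = f} := ⟨_, by first | (delta Cfsg.Agent.H996.L16.br1 List.brecOn List.brecOn.go Cfsg.Agent.H996.L16.br1._f; rewrite [Cfsg.Agent.LsF.f56c983_4.2, Cfsg.Agent.LsF.f56c983_5.2, Cfsg.Agent.LsF.lappend_pat]; (try delta Cfsg.Agent.H996.L16.ins.match_1); (try delta List.casesOn); first | dsimp -zeta only | exact rfl) | exact rfl⟩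
private noncomputable def _root_.Cfsg.Agent.LsF.f56c983_7 : {f // @Cfsg.Agent.H996.L16.br0 = f} := ⟨_, by first | (delta Cfsg.Agent.H996.L16.br0 List.brecOn List.brecOn.go Cfsg.Agent.H996.L16.br0._f; rewrite [Cfsg.Agent.LsF.f56c983_6.2, Cfsg.Agent.LsF.lappend_pat]; (try delta Cfsg.Agent.H996.L16.br0.match_1); (try delta List.casesOn); first | dsimp -zeta only | exact rfl) | exact rfl⟩
private noncomputable def _root_.Cfsg.Agent.LsF.f56c983_8 : {f // @Cfsg.Agent.H996.L16.eqM = f} := ⟨_, by first | (delta Cfsg.Agent.H996.L16.eqM List.brecOn List.brecOn.go Cfsg.Agent.H996.L16.eqM._f; rewrite [Cfsg.Agent.LsF.and_eq]; (try delta Cfsg.Agent.H996.L16.eqM.match_1); (try delta List.casesOn); first | dsimp -zeta only | exact rfl) | exact rfl⟩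
private noncomputable def _root_.Cfsg.Agent.LsF.f56c983_9 : {f // @Cfsg.Agent.H996.L16.ins = f} := ⟨_, by first | (delta Cfsg.Agent.H996.L16.ins List.brecOn List.brecOn.go Cfsg.Agent.H996.L16.ins._f; rewrite [Cfsg.Agent.LsF.f56c983_8.2, Cfsg.Agent.LsF.and_eq, Cfsg.Agent.LsF.dBoolEq_eq, Cfsg.Agent.LsF.ite_eq]; (try delta Cfsg.Agent.H996.L16.ins.match_1); (try delta List.casesOn); first | dsimp -zeta only | exact rfl) | exact rfl⟩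
private noncomputable def _root_.Cfsg.Agent.LsF.f56c983_10 : {f // @Cfsg.Agent.H996.L16.nrm = f} := ⟨_, by first | (delta Cfsg.Agent.H996.L16.nrm List.brecOn List.brecOn.go Cfsg.Agent.H996.L16.nrm._f; rewrite [Cfsg.Agent.LsF.f56c983_9.2]; (try delta Cfsg.Agent.H996.L16.ins.match_1); (try delta List.casesOn); first | dsimp -zeta only | exact rfl) | exact rfl⟩
private noncomputable def _root_.Cfsg.Agent.LsF.f56c983_11 : {f // @Cfsg.Agent.H996.L16.trM = f} := ⟨_, by first | (delta Cfsg.Agent.H996.L16.trM List.brecOn List.brecOn.go Cfsg.Agent.H996.L16.trM._f; rewrite [Cfsg.Agent.LsF.and_eq, Cfsg.Agent.LsF.isEmpty_eq, Cfsg.Agent.LsF.dBoolEq_eq, Cfsg.Agent.LsF.ite_eq]; (try delta Cfsg.Agent.H996.L16.powM.match_1); (try delta List.casesOn); first | dsimp -zeta only | exact rfl) | exact rfl⟩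
private noncomputable def _root_.Cfsg.Agent.LsF.f56c983_12 : {f // @Cfsg.Agent.H996.L16.trV = f} := ⟨_, by first | (delta Cfsg.Agent.H996.L16.trV List.brecOn List.brecOn.go Cfsg.Agent.H996.L16.trV._f; rewrite [Cfsg.Agent.LsF.f56c983_11.2]; (try delta Cfsg.Agent.H996.L16.ins.match_1); (try delta List.casesOn); first | dsimp -zeta only | exact rfl) | exact rfl⟩
private noncomputable def _root_.Cfsg.Agent.LsF.f56c983_13 : {f // @Cfsg.Agent.H996.L16.powM = f} := ⟨_, by first | (delta Cfsg.Agent.H996.L16.powM List.brecOn List.brecOn.go Cfsg.Agent.H996.L16.powM._f; rewrite [Cfsg.Agent.LsF.nmul_pat]; (try delta Cfsg.Agent.H996.L16.powM.match_1); (try delta List.casesOn); first | dsimp -zeta only | exact rfl) | exact rfl⟩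
private noncomputable def _root_.Cfsg.Agent.LsF.f56c983_14 : {f // @Cfsg.Agent.H996.L16.op0 = f} := ⟨_, by first | (delta Cfsg.Agent.H996.L16.op0 List.brecOn List.brecOn.go Cfsg.Agent.H996.L16.op0._f; rewrite [Cfsg.Agent.LsF.f56c983_4.2, Cfsg.Agent.LsF.f56c983_13.2, Cfsg.Agent.LsF.lappend_pat]; (try delta Cfsg.Agent.H996.L16.ins.match_1); (try delta List.casesOn); first | dsimp -zeta only | exact rfl) | exact rfl⟩
private noncomputable def _root_.Cfsg.Agent.LsF.f56c983_15 : {f // @Cfsg.Agent.H996.L16.Ex.run = f} := ⟨_, by first | (delta Cfsg.Agent.H996.L16.Ex.run Cfsg.Agent.H996.L16.Ex.brecOn.go Cfsg.Agent.H996.L16.Ex.run._f Cfsg.Agent.H996.L16.Ex.brecOn; rewrite [Cfsg.Agent.LsF.f56c983_10.2, Cfsg.Agent.LsF.f56c983_12.2, Cfsg.Agent.LsF.f56c983_7.2, Cfsg.Agent.LsF.f56c983_14.2, Cfsg.Agent.LsF.lappend_pat]; (try delta Cfsg.Agent.H996.L16.Ex.val.match_1);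 (try delta Cfsg.Agent.H996.L16.Ex.casesOn); first | dsimp -zeta only | exact rfl) | exact rfl⟩
private noncomputable def _root_.Cfsg.Agent.LsF.f56c983_16 : {f // @Cfsg.Agent.H996.L16.Ex.raw = f} := ⟨_, by first | (delta Cfsg.Agent.H996.L16.Ex.raw Cfsg.Agent.H996.L16.Ex.brecOn.go Cfsg.Agent.H996.L16.Ex.raw._f Cfsg.Agent.H996.L16.Ex.brecOn; rewrite [Cfsg.Agent.LsF.f56c983_7.2, Cfsg.Agent.LsF.f56c983_15.2, Cfsg.Agent.LsF.f56c983_14.2, Cfsg.Agent.LsF.lappend_pat]; (try delta Cfsg.Agent.H996.L16.Ex.val.match_1); (try delta Cfsg.Agent.H996.L16.Ex.casesOn); first | dsimp -zeta only | exact rfl) | exact rfl⟩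
private noncomputable def _root_.Cfsg.Agent.LsF.f56c983_17 : {f // @Cfsg.Agent.KOdd2348c.k50 = f} := ⟨_, by first | (delta Cfsg.Agent.KOdd2348c.k50; rewrite [Cfsg.Agent.LsF.f56c983_16.2]; exact rfl) | exact rfl⟩
theorem c104 : SIGx.chk bt tb ks 104 [[0, 6]] = true := by (delta Cfsg.Agent.H945.L16.SIGx; rewrite [Cfsg.Agent.KOdd2348c.e50, Cfsg.Agent.KOdd2348c.e53, Cfsg.Agent.KOdd2348c.e57, Cfsg.Agent.KOdd2348c.e58, Cfsg.Agent.KOdd2348c.e37]; ((try (rewrite [Cfsg.Agent.LsF.f56c983_17.2])); decide +kernel))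

theorem c196 : (Ex.br (S true true) (S false true)).chk bt tb ks 196 [[0, 0, 1, 0, 0, 0, 0, 0, 0, 0, 0, 2]] = true := by
  decide +kernel

private noncomputable def _root_.Cfsg.Agent.KOdd2348c.k59 : (by first | exact type_of% @Cfsg.Agent.H945.L16.ix | exact Unit : Sort _) := by first | (refine @Subtype.val _ (fun g => @Cfsg.Agent.H945.L16.ix = @g) (@Subtype.mk _ _ (@(fun (x0 : @Bool) (x1 : @Bool) (x2 : @Bool) => @Cfsg.Agent.H996.L16.Ex.br (@Cfsg.Agent.H996.L16.Ex.br (@Cfsg.Agent.KOdd2348c.k36 @Bool.true @x0) (@Cfsg.Agent.H996.L16.Ex.op (nat_lit 0) (@Cfsg.Agent.H996.L16.Ex.op (nat_lit 0) (@Cfsg.Agent.KOdd2348c.k36 @x1 @x2)))) (@Cfsg.Agent.H996.L16.Ex.br (@Cfsg.Agent.KOdd2348c.k36 @Bool.false (@Bool.rec.{1} @(fun (x3 : @Bool) => @Bool) @Bool.true @Bool.false @x0)) (@Cfsg.Agent.H996.L16.Ex.op (nat_lit 0) (@Cfsg.Agent.H996.L16.Ex.op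 (nat_lit 0) (@Cfsg.Agent.KOdd2348c.k36 (@Bool.rec.{1} @(fun (x3 : @Bool) => @Bool) @Bool.true @Bool.false @x1) (@Bool.rec.{1} @(fun (x3 : @Bool) => @Bool) @Bool.true @Bool.false @x2))))))) ?_); rewrite [← Cfsg.Agent.KOdd2348c.e36]; (try delta Cfsg.Agent.H945.L16.ix); (try generalize @Cfsg.Agent.H945.L16.S = g0); rfl') | exact @Cfsg.Agent.H945.L16.ix | exact ()
private theorem _root_.Cfsg.Agent.KOdd2348c.e59 : (by first | exact @Cfsg.Agent.H945.L16.ix = @_root_.Cfsg.Agent.KOdd2348c.k59 | exact True : Prop) := by first | (delta _root_.Cfsg.Agent.KOdd2348c.k59; exact @Subtype.property _ (fun g => @Cfsg.Agent.H945.L16.ix = @g) _) | rfl | trivial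

theorem c135 : INVx.chk bt tb ks 135 [[0, 4, 0, 4, 0, 0, 0, 0, 0, 2, 2], [0, 4, 4, 0, 0, 0, 0, 0, 0, 2, 2],
    [0, 0, 4, 0, 0, 4, 0, 0, 0, 2, 2], [0, 8, 0, 0, 0, 0, 0, 0, 0, 0, 0, 4], [0, 0, 0, 0, 0, 0, 0, 0, 0, 0, 0, 20],
    [0, 0, 10], [0, 10], [0, 2, 0, 0, 0, 0, 0, 0, 0, 0, 0, 16]] = true := by (delta Cfsg.Agent.H945.L16.INVx; rewrite [Cfsg.Agent.KOdd2348c.e50, Cfsg.Agent.KOdd2348c.e53, Cfsg.Agent.KOdd2348c.e57, Cfsg.Agent.KOdd2348c.e58, Cfsg.Agent.KOdd2348c.e59]; ((try (rewrite [Cfsg.Agent.LsF.f56c983_17.2])); decide +kernel))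

section

variable {Fp : LK → LK} {ta : LK →ₗ[KK] LK}

theorem val_xl (x : ℕ → KK) {r : ℕ} (hr : r < 240) (e : Ex) :
    VAL Fp ta x (.op (r + 10) e) = xl ⟨r, by rw [nr]; exact hr⟩ 1 (VAL Fp ta x e) := by
  show PHI2 (r + 8) (VAL Fp ta x e) = _
  unfold PHI2
  rw [dif_pos ⟨by omega, by omega⟩]
  rfl

theorem val_T (x : ℕ → KK) (e : Ex) : VAL Fp ta x (Tx e) = T ta (VAL Fp ta x e) := by
  have h1 := val_xl (Fp := Fp) (ta := ta) x (r := 121) (by norm_num) (.op 136 (.op 151 (.op 145 (.op 1 e))))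
  have h2 := val_xl (Fp := Fp) (ta := ta) x (r := 126) (by norm_num) (.op 151 (.op 145 (.op 1 e)))
  have h3 := val_xl (Fp := Fp) (ta := ta) x (r := 141) (by norm_num) (.op 145 (.op 1 e))
  have h4 := val_xl (Fp := Fp) (ta := ta) x (r := 135) (by norm_num) (.op 1 e)
  unfold Tx T iz
  rw [h1, h2, h3, h4, VAL_ta]

variable (k o1 o3 r1 r2 r3 r0 K1 K2 A A2 B : KK)

theorem val_R : VAL Fp ta (xv k o1 o3 r1 r2 r3 r0 K1 K2 A A2 B) (.lit lR) = vR k o1 o3 r1 r2 r3 r0 := by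
  rw [VAL_lit]
  unfold ev lR vR
  simp only [List.map_cons, List.map_nil, List.sum_cons, List.sum_nil, evM, xv, pow_zero, pow_one, one_mul, mul_one, zero_add,
    add_zero, smul_add, bs, if_pos (show (128 : ℕ) < 240 by norm_num), if_pos (show (127 : ℕ) < 240 by norm_num),
    if_pos (show (131 : ℕ) < 240 by norm_num), if_pos (show (136 : ℕ) < 240 by norm_num),
    if_pos (show (163 : ℕ) < 240 by norm_num), if_pos (show (147 : ℕ) < 240 by norm_num),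
    if_pos (show (137 : ℕ) < 240 by norm_num), if_pos (show (143 : ℕ) < 240 by norm_num),
    if_pos (show (148 : ℕ) < 240 by norm_num)]
  abel

theorem val_N : VAL Fp ta (xv k o1 o3 r1 r2 r3 r0 K1 K2 A A2 B) (.lit lN) = vN K1 K2 A A2 B := by
  rw [VAL_lit]
  unfold ev lN vN
  simp only [List.map_cons, List.map_nil, List.sum_cons, List.sum_nil, evM, xv, pow_zero, pow_one, one_mul, mul_one, zero_add,
    add_zero, smul_add, bs, if_pos (show (157 : ℕ) < 240 by norm_num), if_pos (show (172 : ℕ) < 240 by norm_num),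
    if_pos (show (2 : ℕ) < 240 by norm_num), if_pos (show (154 : ℕ) < 240 by norm_num),
    if_pos (show (129 : ℕ) < 240 by norm_num), if_pos (show (156 : ℕ) < 240 by norm_num),
    if_pos (show (167 : ℕ) < 240 by norm_num)]
  abel

/-- **type N, `(0,1)`** -/
theorem elimN01 (H : Cfsg.Agent.H939.L16.Ops Fp ta) : ElimN01 Fp ta := by
  intro s k o1 o3 r1 r2 r3 r0 K1 K2 A A2 B hR hN h1 h2 h3 hSS hINV hSIG
  set x := xv k o1 o3 r1 r2 r3 r0 K1 K2 A A2 B with hx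
  have hS : ∀ a b, VAL Fp ta x (S a b) = s a b := by
    have e1 : VAL Fp ta x (S true true) = s true true := (val_R _ _ _ _ _ _ _ _ _ _ _ _).trans h1.symm
    have e2 : VAL Fp ta x (S false true) = s false true := by
      rw [h2]
      exact congrArg Fp (val_N _ _ _ _ _ _ _ _ _ _ _ _)
    have e3 : VAL Fp ta x (S false false) = s false false := by
      rw [show s false false = T ta (s true true) from h3 true true, ← e1]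
      exact val_T x _
    have e4 : VAL Fp ta x (S true false) = s true false := by
      rw [show s true false = T ta (s false true) from h3 false true, ← e2]
      exact val_T x _
    intro a b
    cases a <;> cases b
    exacts [e3, e2, e4, e1]
  -- `o1 = 0`
  have a1 : o1 = 0 := by
    have h0 : VAL Fp ta x SIGx = 0 := by
      unfold SIGx sgx
      simp only [VAL_add, VAL_br, VAL_fp, hS]
      have h := hSIG
      unfold SIG sg at h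
      simp only [Fintype.sum_bool, Bool.not_true, Bool.not_false] at h
      exact h
    have h := rel H x (by norm_num : 104 < 248) c104 h0
    have h5 : o1 ^ 6 = 0 := by
      simpa [evP, evM, hx, xv] using h
    exact pow_eq_zero_iff (by norm_num) |>.1 h5
  -- `o3 B² = 0`
  have a2 : o3 * B ^ 2 = 0 := by
    have h0 : VAL Fp ta x (Ex.br (S true true) (S false true)) = 0 := by
      rw [VAL_br, hS, hS]
      exact hSS _ _ _ _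
    have h := rel H x (by norm_num : 196 < 248) c196 h0
    simpa [evP, evM, hx, xv] using h
  have a3 : o3 ^ 10 + B ^ 20 = 0 := by
    have h0 : VAL Fp ta x INVx = 0 := by
      unfold INVx ix
      simp only [VAL_add, VAL_br, VAL_fp, hS]
      have h := hINV
      unfold INV2 at h
      simp only [Fintype.sum_bool] at h
      exact h
    have h := rel H x (by norm_num : 135 < 248) c135 h0
    simp only [evP, evM, hx, xv, List.map_cons, List.map_nil, List.sum_cons, List.sum_nil, pow_zero, one_mul, mul_one, a1] at h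
    linear_combination h - (r3 ^ 4 * o3 ^ 4 * A * A2) * hN
  refine ⟨a1, ?_⟩
  by_contra h5
  have h6 : B = 0 := by
    rcases mul_eq_zero.1 a2 with h | h
    · exact absurd h h5
    · exact pow_eq_zero_iff (by norm_num) |>.1 h
  rw [h6] at a3
  exact h5 (pow_eq_zero_iff (n := 10) (by norm_num) |>.1 (by linear_combination a3))

end

end Cfsg.Agent.H945.L16
end

-- part: H945/L16/ElimN02
section
/-!
# S5916: the elimination of type N, `(0,2)` (helper945)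

`elimN02 : Ops Fp ta → ElimN02 Fp ta`: the coefficients 194 and 6 of `[v, F² v]` are `o1 ^ 5 + o3 ^ 5` and `o3 ^ 5`.
-/

set_option autoImplicit false
set_option maxRecDepth 20000

namespace Cfsg.Agent.H945.L16

open Cfsg.Agent.H939.L64 (KK LK brK)
open Cfsg.Agent.H996.L16
open Cfsg.Agent.H955.L16

def N02x : Ex := .br (.lit lR) (.op 0 (.op 0 (.lit lR)))

theorem d194 : N02x.chk bt tb ks 194 [[0, 5], [0, 0, 5]] = true := by (first | (rewrite [Cfsg.Agent.KOdd2348c.e50, Cfsg.Agent.KOdd2348c.e53, Cfsg.Agent.KOdd2348c.e57, Cfsg.Agent.KOdd2348c.e58]; decide +kernel) | decide +kernel)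

theorem d6 : N02x.chk bt tb ks 6 [[0, 0, 5]] = true := by decide +kernel

/-- **type N, `(0,2)`** -/
theorem elimN02 {Fp : LK → LK} {ta : LK →ₗ[KK] LK} (H : Cfsg.Agent.H939.L16.Ops Fp ta) : ElimN02 Fp := by
  intro k o1 o3 r1 r2 r3 r0 _ h
  have h0 : VAL Fp ta (xv k o1 o3 r1 r2 r3 r0 0 0 0 0 0) N02x = 0 := by
    rw [← h, ← val_R (Fp := Fp) (ta := ta) k o1 o3 r1 r2 r3 r0 0 0 0 0 0]
    rfl
  have h1 := rel H _ (by norm_num : 6 < 248) d6 h0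
  have h2 := rel H _ (by norm_num : 194 < 248) d194 h0
  simp only [evP, evM, xv, List.map_cons, List.map_nil, List.sum_cons, List.sum_nil, pow_zero, one_mul, mul_one,
    add_zero] at h1 h2
  rw [h1, add_zero] at h2
  exact ⟨pow_eq_zero_iff (by norm_num) |>.1 h2, pow_eq_zero_iff (by norm_num) |>.1 h1⟩

end Cfsg.Agent.H945.L16
end

private theorem dce_e2c677cea6ab : _root_.True := by
  try have : _root_.True := by simp only [_root_.Cfsg.Agent.H996.L16.Ex.val.eq_def]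
  try have : _root_.True := by simp only [_root_.Cfsg.Agent.H996.L16.ins.eq_1]
  try have : _root_.True := by simp only [_root_.Cfsg.Agent.H996.L16.powM.eq_def]
  try have : _root_.True := by simp only [_root_.Cfsg.Agent.H996.L16.nrm.eq_1]
  try have : _root_.True := by simp only [_root_.Cfsg.Agent.H996.L16.trm.eq_2]
  try have : _root_.True := by simp only [_root_.Cfsg.Agent.H996.L16.nrm.eq_def]
  try have : _root_.True := by simp only [_root_.Cfsg.Agent.H996.L16.nrm.eq_2]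
  try have : _root_.True := by simp only [_root_.Cfsg.Agent.H996.L16.trm.eq_def]
  try have : _root_.True := by simp only [_root_.Cfsg.Agent.H945.L16.xv.eq_4]
  try have : _root_.True := by simp only [_root_.Cfsg.Agent.H996.L16.Ex.run.eq_2]
  try have : _root_.True := by simp only [_root_.Cfsg.Agent.H945.L16.xv.eq_8]
  try have : _root_.True := by simp only [_root_.Cfsg.Agent.H996.L16.Ex.val.eq_3]
  try have : _root_.True := by simp only [_root_.Cfsg.Agent.H996.L16.mulM.eq_2]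
  try have : _root_.True := by simp only [_root_.Cfsg.Agent.H945.L16.xv.eq_6]
  try have : _root_.True := by simp only [_root_.Cfsg.Agent.H996.L16.op0.eq_1]
  try have : _root_.True := by simp only [_root_.Cfsg.Agent.H996.L16.evM.eq_2]
  try have : _root_.True := by simp only [_root_.Cfsg.Agent.H996.L16.bs.eq_1]
  try have : _root_.True := by simp only [_root_.Cfsg.Agent.H996.L16.trM.eq_2]
  try have : _root_.True := by simp only [_root_.Cfsg.Agent.H996.L16.br0.eq_1]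
  try have : _root_.True := by simp only [_root_.Cfsg.Agent.H945.L16.xv.eq_12]
  try have : _root_.True := by simp only [_root_.Cfsg.Agent.H996.L16.trV.eq_def]
  try have : _root_.True := by simp only [_root_.Cfsg.Agent.H945.L16.xv.eq_5]
  try have : _root_.True := by simp only [_root_.Cfsg.Agent.H996.L16.mulM.eq_3]
  try have : _root_.True := by simp only [_root_.Cfsg.Agent.H996.L16.co.eq_def]
  try have : _root_.True := by simp only [_root_.Cfsg.Agent.H996.L16.co.eq_2]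
  try have : _root_.True := by simp only [_root_.Cfsg.Agent.H945.L16.xv.eq_2]
  try have : _root_.True := by simp only [_root_.Cfsg.Agent.H996.L16.evP.eq_1]
  try have : _root_.True := by simp only [_root_.Cfsg.Agent.H996.L16.trV.eq_2]
  try have : _root_.True := by simp only [_root_.Cfsg.Agent.H996.L16.eqM.eq_1]
  try have : _root_.True := by simp only [_root_.Cfsg.Agent.H996.L16.Ex.run.eq_4]
  try have : _root_.True := by simp only [_root_.Cfsg.Agent.H996.L16.eqM.eq_def]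
  try have : _root_.True := by simp only [_root_.Cfsg.Agent.H996.L16.Ex.val.eq_4]
  try have : _root_.True := by simp only [_root_.Cfsg.Agent.H996.L16.ev.eq_1]
  try have : _root_.True := by simp only [_root_.Cfsg.Agent.H945.L16.xv.eq_3]
  try have : _root_.True := by simp only [_root_.Cfsg.Agent.H996.L16.mulM.eq_def]
  try have : _root_.True := by simp only [_root_.Cfsg.Agent.H996.L16.Ex.run.eq_def]
  try have : _root_.True := by simp only [_root_.Cfsg.Agent.H996.L16.eqM.eq_3]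
  try have : _root_.True := by simp only [_root_.Cfsg.Agent.H945.L16.xv.eq_10]
  try have : _root_.True := by simp only [_root_.Cfsg.Agent.H996.L16.trm.eq_1]
  try have : _root_.True := by simp only [_root_.Cfsg.Agent.H996.L16.Ex.run.eq_3]
  try have : _root_.True := by simp only [_root_.Cfsg.Agent.H996.L16.Ex.val.eq_2]
  try have : _root_.True := by simp only [_root_.Cfsg.Agent.H945.L16.xv.eq_7]
  try have : _root_.True := by simp only [_root_.Cfsg.Agent.H945.L16.xv.eq_9]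
  try have : _root_.True := by simp only [_root_.Cfsg.Agent.H996.L16.powM.eq_2]
  try have : _root_.True := by simp only [_root_.Cfsg.Agent.H996.L16.ins.eq_2]
  try have : _root_.True := by simp only [_root_.Cfsg.Agent.H996.L16.ins.eq_def]
  try have : _root_.True := by simp only [_root_.Cfsg.Agent.H996.L16.Ex.val.eq_1]
  try have : _root_.True := by simp only [_root_.Cfsg.Agent.H996.L16.powM.eq_1]
  try have : _root_.True := by simp only [_root_.Cfsg.Agent.H996.L16.evM.eq_1]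
  try have : _root_.True := by simp only [_root_.Cfsg.Agent.H996.L16.op0.eq_2]
  try have : _root_.True := by simp only [_root_.Cfsg.Agent.H945.L16.xv.eq_13]
  try have : _root_.True := by simp only [_root_.Cfsg.Agent.H996.L16.go.eq_def]
  try have : _root_.True := by simp only [_root_.Cfsg.Agent.H996.L16.trM.eq_1]
  try have : _root_.True := by simp only [_root_.Cfsg.Agent.H996.L16.br0.eq_2]
  try have : _root_.True := by simp only [_root_.Cfsg.Agent.H996.L16.eqM.eq_4]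
  try have : _root_.True := by simp only [_root_.Cfsg.Agent.H996.L16.Ex.run.eq_1]
  try have : _root_.True := by simp only [_root_.Cfsg.Agent.H996.L16.asV.eq_1]
  try have : _root_.True := by simp only [_root_.Cfsg.Agent.H945.L16.xv.eq_11]
  try have : _root_.True := by simp only [_root_.Cfsg.Agent.H996.L16.mulM.eq_1]
  try have : _root_.True := by simp only [_root_.Cfsg.Agent.H996.L16.br1.eq_2]
  try have : _root_.True := by simp only [_root_.Cfsg.Agent.H996.L16.go.eq_3]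
  try have : _root_.True := by simp only [_root_.Cfsg.Agent.H996.L16.br1.eq_def]
  try have : _root_.True := by simp only [_root_.Cfsg.Agent.H996.L16.br1.eq_1]
  try have : _root_.True := by simp only [_root_.Cfsg.Agent.H996.L16.co.eq_1]
  try have : _root_.True := by simp only [_root_.Cfsg.Agent.H996.L16.eqM.eq_2]
  try have : _root_.True := by simp only [_root_.Cfsg.Agent.H945.L16.xv.eq_1]
  try have : _root_.True := by simp only [_root_.Cfsg.Agent.H996.L16.trV.eq_1]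
  try have : _root_.True := by simp only [_root_.Cfsg.Agent.H996.L16.go.eq_2]
  try have : _root_.True := by simp only [_root_.Cfsg.Agent.H996.L16.br0.eq_def]
  try have : _root_.True := by simp only [_root_.Cfsg.Agent.H996.L16.op0.eq_def]
  try have : _root_.True := by simp only [_root_.Cfsg.Agent.H996.L16.go.eq_1]
  try have : _root_.True := by simp only [_root_.Cfsg.Agent.H996.L16.trM.eq_def]
  try have : _root_.True := by simp only [_root_.Cfsg.Agent.H996.L16.evM.eq_def]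
  exact _root_.True.intro
end

-- part: H413/L16/Dz
section
set_option linter.all false
open scoped Cfsg.Agent.FastGrp

/-!
# S5916: the log vectors of the dihedral group of order 34 (helper413)
-/

set_option autoImplicit false
set_option maxRecDepth 100000

namespace Cfsg.Agent.H413.L16

open Matrix Cfsg Cfsg.Lie Cfsg.Lie.ChevalleyDatum
open Cfsg.Agent.ChevalleyStructure.Columns (car cor)
open Cfsg.Agent.H939.L64 (KK E2 LK em aK rE fr brK)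
open Cfsg.Agent.H413.L64 (charKK)
open Cfsg.Agent.H876.L64 (two_zero)
open Cfsg.Agent.H280.L16 (PDat)
open Cfsg.Agent.H950.L16 (Sit Dat)
open Cfsg.Agent.H939.L16 (V16 wt16 Fsit rz rz_apply)

/-! ### the vectors -/

/-- the vectors `Σ_j (h_j + a_j e_j + b_j e_{-j})` -/
noncomputable def vD (a b : Fin 4 → KK) : LK := ∑ j : Fin 4, (hr (gj j) + a j • er (gj j) + b j • er (239 - gj j))

theorem gj_lt (j : Fin 4) : gj j < 240 := by revert j; decide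

theorem cz_vD : cz = vD (fun _ => 1) (fun _ => 1) := by
  unfold cz vD
  refine Finset.sum_congr rfl fun j _ => ?_
  rw [one_smul, one_smul]

theorem tab_h : ∀ i j : Fin 4, (∑ m : Fin 8, cor chevE8 (gj i) m * car chevE8 m (gj j)) % 2 = 0 ∧
    (∑ m : Fin 8, cor chevE8 (gj i) m * car chevE8 m (239 - gj j)) % 2 = 0 := by decide +kernel

theorem tab_e : ∀ i j : Fin 4, tg (gj i) (gj j) = 240 ∧ (i ≠ j → tg (gj i) (239 - gj j) = 240) ∧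
    (i ≠ j → tg (239 - gj i) (gj j) = 240) ∧ tg (239 - gj i) (239 - gj j) = 240 := by decide +kernel

theorem gj_inj : ∀ i j : Fin 4, i ≠ j → gj i ≠ gj j := by decide

theorem gj_ne : ∀ i j : Fin 4, gj i ≠ 239 - gj j := by decide

theorem br_hr_er {r s : ℕ} (hs : s < 240) (h : (∑ m : Fin 8, cor chevE8 r m * car chevE8 m s) % 2 = 0) :
    brK (hr r) (er s) = 0 := by
  unfold hr
  rw [br_hv _ hs]
  have h1 := cast_even h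
  have h2 : (∑ i : Fin chevE8.rank, ((cor chevE8 r i : ℤ) : KK) * ((car chevE8 i s : ℤ) : KK)) =
      ((∑ m : Fin 8, cor chevE8 r m * car chevE8 m s : ℤ) : KK) := by
    push_cast
    rfl
  rw [h2, h1, zero_smul]

theorem br_er_hr {r s : ℕ} (hs : s < 240) (h : (∑ m : Fin 8, cor chevE8 r m * car chevE8 m s) % 2 = 0) :
    brK (er s) (hr r) = 0 := by rw [br_comm, br_hr_er hs h]

theorem br_expand (x1 x2 x3 y1 y2 y3 : LK) (a b c d : KK) :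
    brK (x1 + a • x2 + b • x3) (y1 + c • y2 + d • y3) = brK x1 y1 + a • brK x2 y1 + b • brK x3 y1 +
      c • (brK x1 y2 + a • brK x2 y2 + b • brK x3 y2) + d • (brK x1 y3 + a • brK x2 y3 + b • brK x3 y3) := by
  simp only [Cfsg.Agent.H971.RV.br_add_left, Cfsg.Agent.H971.RV.br_add_right, Cfsg.Agent.H971.RV.br_smul_left,
    Cfsg.Agent.H971.RV.br_smul_right]

theorem br_pair (i j : Fin 4) (a b c d : KK) :
    brK (hr (gj i) + a • er (gj i) + b • er (239 - gj i)) (hr (gj j) + c • er (gj j) + d • er (239 - gj j)) =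
      if i = j then (a * d + b * c) • hr (gj j) else 0 := by
  have hi := gj_lt i
  have hj := gj_lt j
  have hi' : 239 - gj i < 240 := by omega
  have hj' : 239 - gj j < 240 := by omega
  obtain ⟨t1, t2⟩ := tab_h i j
  obtain ⟨t3, t4⟩ := tab_h j i
  obtain ⟨e1, e2, e3, e4⟩ := tab_e i j
  have n1 := gj_ne i j
  have n2 := gj_ne j i
  have ee : ∀ {x y : ℕ}, x < 240 → y < 240 → y ≠ 239 - x → tg x y = 240 → brK (er x) (er y) = 0 := by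
    intro x y hx hy h h1
    rw [br_rr hx hy h, h1, er_ge le_rfl]
  have hhh : brK (hr (gj i)) (hr (gj j)) = 0 := br_hh _ _
  rw [br_expand, hhh, br_hr_er hj t1, br_hr_er hj' t2, br_er_hr hi t3, br_er_hr hi' t4, ee hi hj n2 e1,
    ee hi' hj' (by omega) e4]
  split_ifs with h
  · subst h
    rw [br_neg hi]
    have h1 := br_neg hi'
    rw [show 239 - (239 - gj i) = gj i by omega, hr_neg hi] at h1
    rw [h1]
    simp only [smul_zero, zero_add, add_zero, smul_smul, ← add_smul]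
    rw [mul_comm b c]
    ring_nf
  · have n3 := gj_inj i j h
    rw [ee hi hj' (by omega) (e2 h), ee hi' hj (by omega) (e3 h)]
    simp only [smul_zero, add_zero]

theorem br_sum_left {ι' : Type*} (s : Finset ι') (f : ι' → LK) (w : LK) : brK (∑ i ∈ s, f i) w = ∑ i ∈ s, brK (f i) w := by
  have h := congrArg (fun g : LK →ₗ[KK] LK => g w) (map_sum brM f s)
  simp only [LinearMap.sum_apply] at h
  exact h

theorem br_sum_right {ι' : Type*} (s : Finset ι') (f : ι' → LK) (w : LK) : brK w (∑ i ∈ s, f i) = ∑ i ∈ s, brK w (f i) :=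
  map_sum (brM w) f s

/-- **the bracket** -/
theorem br_vD (a b c d : Fin 4 → KK) : brK (vD a b) (vD c d) = ∑ j : Fin 4, (a j * d j + b j * c j) • hr (gj j) := by
  unfold vD
  rw [br_sum_left]
  refine Finset.sum_congr rfl fun i _ => ?_
  rw [br_sum_right, Finset.sum_congr rfl fun j _ => br_pair i j _ _ _ _, Finset.sum_ite_eq]
  simp

theorem vD_sum {ι' : Type*} (s : Finset ι') (a b : ι' → Fin 4 → KK) : ∑ i ∈ s, vD (a i) (b i) =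
    ∑ j : Fin 4, ((s.card : KK) • hr (gj j) + (∑ i ∈ s, a i j) • er (gj j) + (∑ i ∈ s, b i j) • er (239 - gj j)) := by
  unfold vD
  rw [Finset.sum_comm]
  refine Finset.sum_congr rfl fun j _ => ?_
  rw [Finset.sum_add_distrib, Finset.sum_add_distrib, Finset.sum_const, Finset.sum_smul, Finset.sum_smul,
    Nat.cast_smul_eq_nsmul]

/-! ### the translates under `y` -/

theorem wt_g : ∀ j : Fin 4, wt16 (gj j) = ((2 ^ ((j : ℕ) + 1) : ℕ) : ZMod 17) ∧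
    wt16 (239 - gj j) = ((16 * 2 ^ ((j : ℕ) + 1) : ℕ) : ZMod 17) := by decide +kernel

section

variable {F : Type} [Field F] [Fintype F] {H : Subgroup E2} {f : SpecialLinearGroup (Fin 2) F →* E2}
  {y t0 : SpecialLinearGroup (Fin 2) F} {z : ↥(chevE8.group KK)} {ζ' ζ : KK} {ι : F →+* KK}
  {P : SpecialLinearGroup (Fin 2) F →* Matrix (Fin 2) (Fin 2) KK}

theorem pow_val17 {u : KK} (h : u ^ 17 = 1) (n : ℕ) : u ^ ((n : ZMod 17).val) = u ^ n := by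
  rw [ZMod.val_natCast, ← Per.pow_mod17 h]

theorem inv16 {u : KK} (h : u ^ 17 = 1) (n : ℕ) : u ^ (16 * n) = (u ^ n)⁻¹ := by
  apply eq_inv_of_mul_eq_one_left
  rw [← pow_add, show 16 * n + n = 17 * n by ring, pow_mul, h, one_pow]

theorem y_vD (S : Fsit H f y t0 z ζ' ζ ι P) (a b : Fin 4 → KK) : rz z f y (vD a b) =
    vD (fun j => ζ' ^ 2 ^ ((j : ℕ) + 1) * a j) (fun j => (ζ' ^ 2 ^ ((j : ℕ) + 1))⁻¹ * b j) := by
  have h17 := S.prim.pow_eq_one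
  unfold vD
  rw [map_sum]
  refine Finset.sum_congr rfl fun j _ => ?_
  rw [map_add, map_add, map_smul, map_smul, S.y_er (gj_lt j), S.y_er (show 239 - gj j < 240 by omega)]
  have h1 : rz z f y (hr (gj j)) = hr (gj j) := S.y_hv _
  rw [h1, (wt_g j).1, (wt_g j).2, pow_val17 h17, pow_val17 h17, inv16 h17, smul_smul, smul_smul, mul_comm (a j),
    mul_comm (b j)]

/-- **the translates of the log vector** -/
theorem y_cz (S : Fsit H f y t0 z ζ' ζ ι P) (k : ℕ) : rz z f (y ^ k) cz =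
    vD (fun j => ζ' ^ (k * 2 ^ ((j : ℕ) + 1))) (fun j => (ζ' ^ (k * 2 ^ ((j : ℕ) + 1)))⁻¹) := by
  induction k with
  | zero =>
    rw [pow_zero, map_one, Module.End.one_apply, cz_vD]
    simp
  | succ k ih =>
    rw [pow_succ', map_mul, Module.End.mul_apply, ih, y_vD S]
    have e1 : ∀ j : Fin 4, ζ' ^ 2 ^ ((j : ℕ) + 1) * ζ' ^ (k * 2 ^ ((j : ℕ) + 1)) = ζ' ^ ((k + 1) * 2 ^ ((j : ℕ) + 1)) := by
      intro j
      rw [← pow_add]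
      congr 1
      ring
    congr 1
    · funext j
      exact e1 j
    · funext j
      rw [← e1 j, mul_inv]

/-- the sum of the 17 log vectors -/
theorem sum_cz (S : Fsit H f y t0 z ζ' ζ ι P) : ∑ k ∈ Finset.range 17, rz z f (y ^ k) cz = ∑ j : Fin 4, hr (gj j) := by
  have hgs : ∀ (w : KK), IsPrimitiveRoot w 17 → ∑ k ∈ Finset.range 17, w ^ k = 0 := fun w hw =>
    hw.geom_sum_eq_zero (by norm_num)
  rw [Finset.sum_congr rfl fun k _ => y_cz S k, vD_sum]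
  refine Finset.sum_congr rfl fun j _ => ?_
  have hp : IsPrimitiveRoot (ζ' ^ 2 ^ ((j : ℕ) + 1)) 17 :=
    S.prim.pow_of_coprime _ (Nat.Coprime.pow_left _ (by decide))
  have h1 : ∑ k ∈ Finset.range 17, ζ' ^ (k * 2 ^ ((j : ℕ) + 1)) = 0 := by
    rw [← hgs _ hp]
    exact Finset.sum_congr rfl fun k _ => by rw [← pow_mul, mul_comm]
  have h2 : ∑ k ∈ Finset.range 17, (ζ' ^ (k * 2 ^ ((j : ℕ) + 1)))⁻¹ = 0 := by
    rw [← hgs _ hp.inv]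
    exact Finset.sum_congr rfl fun k _ => by rw [inv_pow, ← pow_mul, mul_comm]
  rw [h1, h2, zero_smul, zero_smul, add_zero, add_zero, Finset.card_range]
  have h3 : ((17 : ℕ) : KK) = 1 := by
    have := two_zero
    push_cast
    linear_combination 8 * this
  rw [h3, one_smul]

/-! ### traces -/

/-- the trace -/
def tr2 (s : SpecialLinearGroup (Fin 2) F) : F := s.1 0 0 + s.1 1 1

theorem P_tr (D : PDat ι P y t0 ζ) (s : SpecialLinearGroup (Fin 2) F) : ι (tr2 s) = P s 0 0 + P s 1 1 := by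
  obtain ⟨A, B, hAB, hBA, hc⟩ := D.conj
  have h1 : Matrix.trace (P s) = Matrix.trace ((s : Matrix (Fin 2) (Fin 2) F).map ι) := by
    rw [hc s, Matrix.trace_mul_comm, ← Matrix.mul_assoc, hAB, Matrix.one_mul]
  rw [Matrix.trace_fin_two, Matrix.trace_fin_two] at h1
  rw [h1]
  unfold tr2
  rw [map_add]
  rfl

theorem P_pow (D : PDat ι P y t0 ζ) (k : ℕ) : P (y ^ k) = !![ζ ^ k, 0; 0, (ζ ^ k)⁻¹] := by
  induction k with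
  | zero =>
    rw [pow_zero, map_one, pow_zero, inv_one]
    exact Matrix.one_fin_two
  | succ k ih =>
    have hy : P y = !![ζ, 0; 0, ζ⁻¹] := by
      ext i j
      fin_cases i <;> fin_cases j
      · exact D.y00
      · exact D.y01
      · exact D.y10
      · exact D.y11
    rw [pow_succ, map_mul, ih, hy]
    ext i j
    fin_cases i <;> fin_cases j <;> simp [Matrix.mul_apply, Fin.sum_univ_two, pow_succ, mul_comm]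

theorem tr_pow (D : PDat ι P y t0 ζ) (k : ℕ) : ι (tr2 (y ^ k)) = ζ ^ k + (ζ ^ k)⁻¹ := by
  rw [P_tr D, P_pow D]
  rfl

/-- **relation (R3), type R** -/
theorem h3R (S : Fsit H f y t0 z ζ' ζ ι P) (hR : ζ = ζ') {Sk : Finset ℕ}
    (hS : ∀ k, k ∈ Sk ↔ k < 17 ∧ tr2 (y ^ k) ^ 4 = tr2 (y ^ k) + 1) : ∑ k ∈ Sk, rz z f (y ^ k) cz = 0 := by
  have := charKK
  have hS' : ∀ a, a ∈ Sk ↔ a < 17 ∧ a ≠ 0 ∧ Per.qs (ζ' ^ a) = 0 := by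
    intro a
    rw [hS]
    refine and_congr_right fun ha => ?_
    rw [← Per.condR S.prim a ha, ← hR, ← tr_pow S.pd, ← ι.injective.eq_iff, map_pow, map_add, map_one]
  rw [Finset.sum_congr rfl fun k _ => y_cz S k, vD_sum]
  refine Finset.sum_eq_zero fun j _ => ?_
  obtain ⟨h1, h2, h3⟩ := Per.sum_set S.prim hS' ((j : ℕ) + 1)
  rw [h1, h2, h3, zero_smul, zero_smul, zero_smul, add_zero, add_zero]

/-- **relation (R3), type N** -/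
theorem h3N (S : Fsit H f y t0 z ζ' ζ ι P) (hN : ζ = ζ' ^ 3) {Sk : Finset ℕ}
    (hS : ∀ k, k ∈ Sk ↔ k < 17 ∧ tr2 (y ^ k) ^ 4 + tr2 (y ^ k) ^ 3 + tr2 (y ^ k) ^ 2 + tr2 (y ^ k) + 1 = 0) :
    ∑ k ∈ Sk, rz z f (y ^ k) cz = 0 := by
  have := charKK
  have hS' : ∀ a, a ∈ Sk ↔ a < 17 ∧ a ≠ 0 ∧ Per.qs (ζ' ^ a) = 0 := by
    intro a
    rw [hS]
    refine and_congr_right fun ha => ?_
    rw [← Per.condN S.prim a ha, ← hN, ← tr_pow S.pd, ← ι.injective.eq_iff, map_add, map_add, map_add, map_add, map_pow,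
      map_pow, map_pow, map_one, map_zero]
  rw [Finset.sum_congr rfl fun k _ => y_cz S k, vD_sum]
  refine Finset.sum_eq_zero fun j _ => ?_
  obtain ⟨h1, h2, h3⟩ := Per.sum_set S.prim hS' ((j : ℕ) + 1)
  rw [h1, h2, h3, zero_smul, zero_smul, zero_smul, add_zero, add_zero]

/-- the additive map of (R2) -/
noncomputable def Zm (ι : F →+* KK) : F →+ LK where
  toFun x := ∑ j : Fin 4, (ι x) ^ 2 ^ (j : ℕ) • hr (gj j)
  map_zero' := by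
    refine Finset.sum_eq_zero fun j _ => ?_
    rw [map_zero, zero_pow (pow_ne_zero _ two_ne_zero), zero_smul]
  map_add' a b := by
    have := charKK
    rw [← Finset.sum_add_distrib]
    refine Finset.sum_congr rfl fun j _ => ?_
    rw [map_add, add_pow_char_pow, add_smul]

/-- **relation (R2), type R** -/
theorem h4 (S : Fsit H f y t0 z ζ' ζ ι P) (hR : ζ = ζ') : ∃ Z : F →+ LK,
    Z 1 = ∑ k ∈ Finset.range 17, rz z f (y ^ k) cz ∧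
      ∀ k l : ℕ, brK (rz z f (y ^ k) cz) (rz z f (y ^ l) cz) = Z (tr2 (y ^ k * (y ^ l)⁻¹) ^ 2) := by
  have := charKK
  refine ⟨Zm ι, ?_, fun k l => ?_⟩
  · rw [sum_cz S]
    show ∑ j : Fin 4, (ι 1) ^ 2 ^ (j : ℕ) • hr (gj j) = _
    refine Finset.sum_congr rfl fun j _ => ?_
    rw [map_one, one_pow, one_smul]
  · have hy17 : y ^ 17 = 1 := by rw [← S.sit.ord, pow_orderOf_eq_one]
    have e1 : y ^ k * (y ^ l)⁻¹ = y ^ (k + 16 * l) := by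
      rw [mul_inv_eq_iff_eq_mul, ← pow_add, show k + 16 * l + l = k + 17 * l by ring, pow_add, pow_mul, hy17, one_pow,
        mul_one]
    rw [y_cz S, y_cz S, br_vD, e1]
    show _ = ∑ j : Fin 4, (ι (tr2 (y ^ (k + 16 * l)) ^ 2)) ^ 2 ^ (j : ℕ) • hr (gj j)
    refine Finset.sum_congr rfl fun j _ => ?_
    congr 1
    have h17 := S.prim.pow_eq_one
    have h5 : ζ' ^ (k + 16 * l) = ζ' ^ k * (ζ' ^ l)⁻¹ := by rw [pow_add, inv16 h17]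
    rw [map_pow, tr_pow S.pd, hR, ← pow_mul, ← pow_succ', add_pow_char_pow, h5, mul_inv, inv_inv, mul_pow, mul_pow,
      inv_pow, inv_pow, ← pow_mul, ← pow_mul]

end

end Cfsg.Agent.H413.L16
end

-- part: H413/L16/OneC
section
set_option linter.all false
open scoped Cfsg.Agent.FastGrp

/-!
# S5916: the Fourier components of the log vector (helper413)
-/

set_option autoImplicit false
set_option maxRecDepth 100000

namespace Cfsg.Agent.H413.L16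

open Matrix Cfsg Cfsg.Lie Cfsg.Lie.ChevalleyDatum
open Cfsg.Agent.H939.L64 (KK E2 LK em aK rE fr brK)
open Cfsg.Agent.H413.L64 (charKK)
open Cfsg.Agent.H876.L64 (two_zero)
open Cfsg.Agent.H280.L16 (PDat)
open Cfsg.Agent.H939.L16 (V16 wt16 Fsit rz rz_apply)

section

variable {F : Type} [Field F] [Fintype F] {H : Subgroup E2} {f : SpecialLinearGroup (Fin 2) F →* E2}
  {y t0 : SpecialLinearGroup (Fin 2) F} {z : ↥(chevE8.group KK)} {ζ' ζ : KK} {ι : F →+* KK}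
  {P : SpecialLinearGroup (Fin 2) F →* Matrix (Fin 2) (Fin 2) KK}

/-- the sum of the 17 log vectors is not zero -/
theorem sum_cz_ne (S : Fsit H f y t0 z ζ' ζ ι P) : ∑ k ∈ Finset.range 17, rz z f (y ^ k) cz ≠ 0 := by
  rw [sum_cz S]
  intro h
  have h1 : ∀ i : Fin 8, (∑ j : Fin 4, ((Cfsg.Agent.ChevalleyStructure.Columns.cor chevE8 (gj j) i : ℤ) : KK)) = 0 := by
    intro i
    have hi : (i : ℕ) < chevE8.rank := by rw [rk8]; exact i.2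
    have h2 := congrFun h (Sum.inl ⟨i, hi⟩)
    rw [Finset.sum_apply] at h2
    exact h2
  have h3 : ∃ i : Fin 8, (∑ j : Fin 4, Cfsg.Agent.ChevalleyStructure.Columns.cor chevE8 (gj j) i) % 2 ≠ 0 := by
    decide +kernel
  obtain ⟨i, hi⟩ := h3
  have h4 := cast_odd hi
  push_cast at h4
  rw [h1 i] at h4
  exact zero_ne_one h4

end

end Cfsg.Agent.H413.L16
end
end
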